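import Mathlib
import Cfsg.Agent.Lib.Schur.CheckParts
import Cfsg.Agent.Lib.Sporadic.MultTwoUnit.Level2

/-!
# Packed values of the edges of table 2
-/

set_option autoImplicit false
set_option maxRecDepth 100000
set_option maxHeartbeats 0
set_option Elab.async false

noncomputable section

namespace CfsgLib.Sporadic.MultTwoUnit

open CfsgLib.Schur.Cert CfsgLib.Sporadic

/-- the packed values -/
def pack2 : Pack := .node (.node (.node (.node (.leaf (0, 0)) (.leaf (179769313486231590772930519078902473361797697894230657273430081157732675805500963132708477322407536021120113879871393357658789768814416622492847430639474124377767893424865485276302219601246094119453082952085005768838150682342462881473913110540827237163350510684586298239947245938479716304835356329624224137216, 1))) (.leaf (0, 0))) (.node (.leaf (0, 0)) (.leaf (0, 0)))) (.node (.node (.node (.leaf (0, 0)) (.leaf (179769313486231590772930519078902473361797697894230657273430081157732675805500963132708477322407536021120113879871393357658789768814416869823248903744008184880288913072055520407651320813086008182509175849310112300705320998743524124518902708212253253302689862049620604991157213484634818198003272936396372836352, 2))) (.leaf (0, 0))) (.node (.leaf (0, 0)) (.leaf (3316158518186977170907514447156509567927005630656801993797674152027188026208605682320146250758844884596436606406559110335090512473457446967330357775814643124061294048707789140217657923021589771258570134042851361083866847656345159405320854696613367289613918855357658843182080154371350255247393543963176450313198127300451594403840,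 2))))

theorem pack_ok2 : packOK level2.table pack2 = true := by decide +kernel

end CfsgLib.Sporadic.MultTwoUnit
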