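import Mathlib
import Cfsg.Agent.Lib.Schur.CheckParts
import Cfsg.Agent.Lib.Sporadic.MultTwoUnit.Level3

/-!
# Packed values of the edges of table 3
-/

set_option autoImplicit false
set_option maxRecDepth 100000
set_option maxHeartbeats 0
set_option Elab.async false

noncomputable section

namespace CfsgLib.Sporadic.MultTwoUnit

open CfsgLib.Schur.Cert CfsgLib.Sporadic

/-- the packed values -/
def pack3 : Pack := .node (.node (.node (.node (.leaf (0, 0)) (.leaf (247330401473104534060502521019647190035131349101211839914063056092897225106531867170316401061243044989597671426016139339351365034306751209967546155101893167916606772148699136, 1))) (.leaf (0, 0))) (.node (.node (.leaf (0, 0)) (.leaf (4562440617622195218393841204227186790832725986228912740544061168798063327294614330413015586210839532608325908512351246529001795979163875087916287597507609708299782878694332343029003580677816321, 5))) (.leaf (9124881235244390436787682408454373581665451972457825481087395498871831047698639935011946773408111008828828434440533528097846317671431801254579781769760011598819566749801732951933642969649774593, 12)))) (.node (.node (.node (.leaf (0, 0)) (.leaf (726838724295606890549323807888004534353641360687318060281490199180639288113397923326191050713763565560762521606266177933534601628614656, 1))) (.leaf (0, 0))) (.node (.node (.leaf (0, 0)) (.leaf ((-84162174424773976115855838126082058648805436845170781751972494449099714468752566315094368973550865895823839497164497842047623597942659371610864397042316695675957387687341350005505857604542897298407157426143887360),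 2))) (.leaf (1552518092300708935148979488462502555252323576499074415920658196821823765895544160344649496088102416781689667369836458875758564457903974858835961366528829892675453180041686024185247262647410071281173793107355720323955142882813280255, 6))))

theorem pack_ok3 : packOK level3.table pack3 = true := by decide +kernel

end CfsgLib.Sporadic.MultTwoUnit
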