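import Mathlib
import Cfsg.Agent.Lib.Sporadic.MultTwoUnit.Pack0
import Cfsg.Agent.Lib.Sporadic.MultTwoUnit.Pack1
import Cfsg.Agent.Lib.Sporadic.MultTwoUnit.Pack2
import Cfsg.Agent.Lib.Sporadic.MultTwoUnit.Pack3
import Cfsg.Agent.Lib.Sporadic.MultTwoUnit.Pack4
import Cfsg.Agent.Lib.Sporadic.MultTwoUnit.Data
import Cfsg.Agent.Lib.Schur.CheckParts

/-!
# Deductions of table 0
-/

set_option autoImplicit false
set_option maxRecDepth 100000
set_option maxHeartbeats 0
set_option Elab.async false

noncomputable section

namespace CfsgLib.Sporadic.MultTwoUnit

open CfsgLib.Schur.Cert CfsgLib.Sporadic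

theorem ded0_180 : allFrom (dedAt level0 pack0 [level1, level2, level3, level4] [pack1, pack2, pack3, pack4]) 180 183 = true := by decide +kernel

theorem ded0_183 : allFrom (dedAt level0 pack0 [level1, level2, level3, level4] [pack1, pack2, pack3, pack4]) 183 186 = true := by decide +kernel

theorem ded0_186 : allFrom (dedAt level0 pack0 [level1, level2, level3, level4] [pack1, pack2, pack3, pack4]) 186 189 = true := by decide +kernel

theorem ded0_189 : allFrom (dedAt level0 pack0 [level1, level2, level3, level4] [pack1, pack2, pack3, pack4]) 189 192 = true := by decide +kernel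

theorem ded0_192 : allFrom (dedAt level0 pack0 [level1, level2, level3, level4] [pack1, pack2, pack3, pack4]) 192 195 = true := by decide +kernel

theorem ded0_195 : allFrom (dedAt level0 pack0 [level1, level2, level3, level4] [pack1, pack2, pack3, pack4]) 195 198 = true := by decide +kernel

theorem ded0_198 : allFrom (dedAt level0 pack0 [level1, level2, level3, level4] [pack1, pack2, pack3, pack4]) 198 201 = true := by decide +kernel

theorem ded0_201 : allFrom (dedAt level0 pack0 [level1, level2, level3, level4] [pack1, pack2, pack3, pack4]) 201 204 = true := by decide +kernel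

theorem ded0_204 : allFrom (dedAt level0 pack0 [level1, level2, level3, level4] [pack1, pack2, pack3, pack4]) 204 207 = true := by decide +kernel

theorem ded0_207 : allFrom (dedAt level0 pack0 [level1, level2, level3, level4] [pack1, pack2, pack3, pack4]) 207 210 = true := by decide +kernel

theorem ded0_210 : allFrom (dedAt level0 pack0 [level1, level2, level3, level4] [pack1, pack2, pack3, pack4]) 210 213 = true := by decide +kernel

theorem ded0_213 : allFrom (dedAt level0 pack0 [level1, level2, level3, level4] [pack1, pack2, pack3, pack4]) 213 216 = true := by decide +kernel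

theorem ded0_216 : allFrom (dedAt level0 pack0 [level1, level2, level3, level4] [pack1, pack2, pack3, pack4]) 216 219 = true := by decide +kernel

theorem ded0_219 : allFrom (dedAt level0 pack0 [level1, level2, level3, level4] [pack1, pack2, pack3, pack4]) 219 222 = true := by decide +kernel

theorem ded0_222 : allFrom (dedAt level0 pack0 [level1, level2, level3, level4] [pack1, pack2, pack3, pack4]) 222 225 = true := by decide +kernel

theorem ded0_225 : allFrom (dedAt level0 pack0 [level1, level2, level3, level4] [pack1, pack2, pack3, pack4]) 225 228 = true := by decide +kernel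

theorem ded0_228 : allFrom (dedAt level0 pack0 [level1, level2, level3, level4] [pack1, pack2, pack3, pack4]) 228 231 = true := by decide +kernel

theorem ded0_231 : allFrom (dedAt level0 pack0 [level1, level2, level3, level4] [pack1, pack2, pack3, pack4]) 231 234 = true := by decide +kernel

theorem ded0_234 : allFrom (dedAt level0 pack0 [level1, level2, level3, level4] [pack1, pack2, pack3, pack4]) 234 237 = true := by decide +kernel

theorem ded0_237 : allFrom (dedAt level0 pack0 [level1, level2, level3, level4] [pack1, pack2, pack3, pack4]) 237 240 = true := by decide +kernel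

theorem ded0_240 : allFrom (dedAt level0 pack0 [level1, level2, level3, level4] [pack1, pack2, pack3, pack4]) 240 243 = true := by decide +kernel

theorem ded0_243 : allFrom (dedAt level0 pack0 [level1, level2, level3, level4] [pack1, pack2, pack3, pack4]) 243 246 = true := by decide +kernel

theorem ded0_246 : allFrom (dedAt level0 pack0 [level1, level2, level3, level4] [pack1, pack2, pack3, pack4]) 246 249 = true := by decide +kernel

theorem ded0_249 : allFrom (dedAt level0 pack0 [level1, level2, level3, level4] [pack1, pack2, pack3, pack4]) 249 252 = true := by decide +kernel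

theorem ded0_252 : allFrom (dedAt level0 pack0 [level1, level2, level3, level4] [pack1, pack2, pack3, pack4]) 252 255 = true := by decide +kernel

theorem ded0_255 : allFrom (dedAt level0 pack0 [level1, level2, level3, level4] [pack1, pack2, pack3, pack4]) 255 258 = true := by decide +kernel

theorem ded0_258 : allFrom (dedAt level0 pack0 [level1, level2, level3, level4] [pack1, pack2, pack3, pack4]) 258 261 = true := by decide +kernel

theorem ded0_261 : allFrom (dedAt level0 pack0 [level1, level2, level3, level4] [pack1, pack2, pack3, pack4]) 261 264 = true := by decide +kernel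

theorem ded0_264 : allFrom (dedAt level0 pack0 [level1, level2, level3, level4] [pack1, pack2, pack3, pack4]) 264 267 = true := by decide +kernel

theorem ded0_267 : allFrom (dedAt level0 pack0 [level1, level2, level3, level4] [pack1, pack2, pack3, pack4]) 267 270 = true := by decide +kernel

end CfsgLib.Sporadic.MultTwoUnit
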