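import Mathlib
import Cfsg.Agent.Lib.Sporadic.MultTwoUnit.Pack0
import Cfsg.Agent.Lib.Sporadic.MultTwoUnit.Pack1
import Cfsg.Agent.Lib.Sporadic.MultTwoUnit.Pack2
import Cfsg.Agent.Lib.Sporadic.MultTwoUnit.Pack3
import Cfsg.Agent.Lib.Sporadic.MultTwoUnit.Pack4
import Cfsg.Agent.Lib.Sporadic.MultTwoUnit.Data
import Cfsg.Agent.Lib.Schur.CheckParts

/-!
# Deductions of table 0
-/

set_option autoImplicit false
set_option maxRecDepth 100000
set_option maxHeartbeats 0
set_option Elab.async false

noncomputable section

namespace CfsgLib.Sporadic.MultTwoUnit

open CfsgLib.Schur.Cert CfsgLib.Sporadic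

theorem ded0_270 : allFrom (dedAt level0 pack0 [level1, level2, level3, level4] [pack1, pack2, pack3, pack4]) 270 273 = true := by decide +kernel

theorem ded0_273 : allFrom (dedAt level0 pack0 [level1, level2, level3, level4] [pack1, pack2, pack3, pack4]) 273 276 = true := by decide +kernel

theorem ded0_276 : allFrom (dedAt level0 pack0 [level1, level2, level3, level4] [pack1, pack2, pack3, pack4]) 276 279 = true := by decide +kernel

theorem ded0_279 : allFrom (dedAt level0 pack0 [level1, level2, level3, level4] [pack1, pack2, pack3, pack4]) 279 282 = true := by decide +kernel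

theorem ded0_282 : allFrom (dedAt level0 pack0 [level1, level2, level3, level4] [pack1, pack2, pack3, pack4]) 282 285 = true := by decide +kernel

theorem ded0_285 : allFrom (dedAt level0 pack0 [level1, level2, level3, level4] [pack1, pack2, pack3, pack4]) 285 288 = true := by decide +kernel

theorem ded0_288 : allFrom (dedAt level0 pack0 [level1, level2, level3, level4] [pack1, pack2, pack3, pack4]) 288 291 = true := by decide +kernel

theorem ded0_291 : allFrom (dedAt level0 pack0 [level1, level2, level3, level4] [pack1, pack2, pack3, pack4]) 291 294 = true := by decide +kernel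

theorem ded0_294 : allFrom (dedAt level0 pack0 [level1, level2, level3, level4] [pack1, pack2, pack3, pack4]) 294 297 = true := by decide +kernel

theorem ded0_297 : allFrom (dedAt level0 pack0 [level1, level2, level3, level4] [pack1, pack2, pack3, pack4]) 297 300 = true := by decide +kernel

theorem ded0_300 : allFrom (dedAt level0 pack0 [level1, level2, level3, level4] [pack1, pack2, pack3, pack4]) 300 303 = true := by decide +kernel

theorem ded0_303 : allFrom (dedAt level0 pack0 [level1, level2, level3, level4] [pack1, pack2, pack3, pack4]) 303 306 = true := by decide +kernel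

theorem ded0_306 : allFrom (dedAt level0 pack0 [level1, level2, level3, level4] [pack1, pack2, pack3, pack4]) 306 309 = true := by decide +kernel

theorem ded0_309 : allFrom (dedAt level0 pack0 [level1, level2, level3, level4] [pack1, pack2, pack3, pack4]) 309 312 = true := by decide +kernel

theorem ded0_312 : allFrom (dedAt level0 pack0 [level1, level2, level3, level4] [pack1, pack2, pack3, pack4]) 312 315 = true := by decide +kernel

theorem ded0_315 : allFrom (dedAt level0 pack0 [level1, level2, level3, level4] [pack1, pack2, pack3, pack4]) 315 318 = true := by decide +kernel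

theorem ded0_318 : allFrom (dedAt level0 pack0 [level1, level2, level3, level4] [pack1, pack2, pack3, pack4]) 318 321 = true := by decide +kernel

theorem ded0_321 : allFrom (dedAt level0 pack0 [level1, level2, level3, level4] [pack1, pack2, pack3, pack4]) 321 324 = true := by decide +kernel

theorem ded0_324 : allFrom (dedAt level0 pack0 [level1, level2, level3, level4] [pack1, pack2, pack3, pack4]) 324 325 = true := by decide +kernel

end CfsgLib.Sporadic.MultTwoUnit
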