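import Mathlib
import Cfsg.Agent.Lib.Sporadic.MultTwoUnit.Pack0
import Cfsg.Agent.Lib.Sporadic.MultTwoUnit.Pack1
import Cfsg.Agent.Lib.Sporadic.MultTwoUnit.Pack2
import Cfsg.Agent.Lib.Sporadic.MultTwoUnit.Pack3
import Cfsg.Agent.Lib.Sporadic.MultTwoUnit.Pack4
import Cfsg.Agent.Lib.Sporadic.MultTwoUnit.Data
import Cfsg.Agent.Lib.Schur.CheckParts

/-!
# Edges of table 0
-/

set_option autoImplicit false
set_option maxRecDepth 100000
set_option maxHeartbeats 0
set_option Elab.async false

noncomputable section

namespace CfsgLib.Sporadic.MultTwoUnit

open CfsgLib.Schur.Cert CfsgLib.Sporadic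

theorem row0_270 : allFrom (shapeRow rows level0 [level1, level2, level3, level4]) 270 280 = true := by decide +kernel

theorem row0_280 : allFrom (shapeRow rows level0 [level1, level2, level3, level4]) 280 290 = true := by decide +kernel

theorem row0_290 : allFrom (shapeRow rows level0 [level1, level2, level3, level4]) 290 300 = true := by decide +kernel

theorem row0_300 : allFrom (shapeRow rows level0 [level1, level2, level3, level4]) 300 310 = true := by decide +kernel

theorem row0_310 : allFrom (shapeRow rows level0 [level1, level2, level3, level4]) 310 320 = true := by decide +kernel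

theorem row0_320 : allFrom (shapeRow rows level0 [level1, level2, level3, level4]) 320 324 = true := by decide +kernel

end CfsgLib.Sporadic.MultTwoUnit
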