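import Mathlib
import Cfsg.Agent.Lib.Sporadic.MultTwoUnit.Pack0
import Cfsg.Agent.Lib.Sporadic.MultTwoUnit.Pack1
import Cfsg.Agent.Lib.Sporadic.MultTwoUnit.Pack2
import Cfsg.Agent.Lib.Sporadic.MultTwoUnit.Pack3
import Cfsg.Agent.Lib.Sporadic.MultTwoUnit.Pack4
import Cfsg.Agent.Lib.Sporadic.MultTwoUnit.Data
import Cfsg.Agent.Lib.Schur.CheckParts

/-!
# Relations of table 3 for the permutations
-/

set_option autoImplicit false
set_option maxRecDepth 100000
set_option maxHeartbeats 0
set_option Elab.async false

noncomputable section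

namespace CfsgLib.Sporadic.MultTwoUnit

open CfsgLib.Schur.Cert CfsgLib.Sporadic

theorem rel3_0 : allFrom (permsRel 648 level3) 0 2 = true := by decide +kernel

theorem rel3_2 : allFrom (permsRel 648 level3) 2 4 = true := by decide +kernel

theorem rel3_4 : allFrom (permsRel 648 level3) 4 6 = true := by decide +kernel

theorem rel3_6 : allFrom (permsRel 648 level3) 6 8 = true := by decide +kernel

theorem rel3_8 : allFrom (permsRel 648 level3) 8 10 = true := by decide +kernel

theorem rel3_10 : allFrom (permsRel 648 level3) 10 12 = true := by decide +kernel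

end CfsgLib.Sporadic.MultTwoUnit
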