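import Mathlib
import Cfsg.Agent.Lib.Sporadic.MultTwoUnit.Pack0
import Cfsg.Agent.Lib.Sporadic.MultTwoUnit.Pack1
import Cfsg.Agent.Lib.Sporadic.MultTwoUnit.Pack2
import Cfsg.Agent.Lib.Sporadic.MultTwoUnit.Pack3
import Cfsg.Agent.Lib.Sporadic.MultTwoUnit.Pack4
import Cfsg.Agent.Lib.Sporadic.MultTwoUnit.Data
import Cfsg.Agent.Lib.Schur.CheckParts

/-!
# Shape and permutations of table 4
-/

set_option autoImplicit false
set_option maxRecDepth 100000
set_option maxHeartbeats 0
set_option Elab.async false

noncomputable section

namespace CfsgLib.Sporadic.MultTwoUnit

open CfsgLib.Schur.Cert CfsgLib.Sporadic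

theorem head4 : shapeHead level4 [] (nextWords (nextWords (nextWords (nextWords (top) level0) level1) level2) level3) = true := by decide +kernel

theorem srel4_0 : allFrom (shapeRel (chainRels chain top) level4 (nextWords (nextWords (nextWords (nextWords (top) level0) level1) level2) level3)) 0 2 = true := by decide +kernel

theorem srel4_2 : allFrom (shapeRel (chainRels chain top) level4 (nextWords (nextWords (nextWords (nextWords (top) level0) level1) level2) level3)) 2 4 = true := by decide +kernel

theorem srel4_4 : allFrom (shapeRel (chainRels chain top) level4 (nextWords (nextWords (nextWords (nextWords (top) level0) level1) level2) level3)) 4 6 = true := by decide +kernel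

theorem srel4_6 : allFrom (shapeRel (chainRels chain top) level4 (nextWords (nextWords (nextWords (nextWords (top) level0) level1) level2) level3)) 6 7 = true := by decide +kernel

theorem row4_0 : allFrom (shapeRow rows level4 []) 0 48 = true := by decide +kernel

theorem permsGen4 : permsGen 648 level4 [] = true := by decide +kernel

theorem path4_0 : allFrom (permsPath level4) 0 48 = true := by decide +kernel

theorem permsKey4 : permsKey level4 [] = true := by decide +kernel

end CfsgLib.Sporadic.MultTwoUnit
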