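import Mathlib
import Cfsg.Agent.Lib.Sporadic.MultTwoUnit.Check0
import Cfsg.Agent.Lib.Sporadic.MultTwoUnit.Check0Row0
import Cfsg.Agent.Lib.Sporadic.MultTwoUnit.Check0Row1
import Cfsg.Agent.Lib.Sporadic.MultTwoUnit.Check0Row2
import Cfsg.Agent.Lib.Sporadic.MultTwoUnit.Check0Row3
import Cfsg.Agent.Lib.Sporadic.MultTwoUnit.Check0Rel0
import Cfsg.Agent.Lib.Sporadic.MultTwoUnit.Check0Rel1
import Cfsg.Agent.Lib.Sporadic.MultTwoUnit.Check0Rel2
import Cfsg.Agent.Lib.Sporadic.MultTwoUnit.Check0Ded0
import Cfsg.Agent.Lib.Sporadic.MultTwoUnit.Check0Ded1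
import Cfsg.Agent.Lib.Sporadic.MultTwoUnit.Check0Ded2
import Cfsg.Agent.Lib.Sporadic.MultTwoUnit.Check0Ded3
import Cfsg.Agent.Lib.Sporadic.MultTwoUnit.Check0Eqn0
import Cfsg.Agent.Lib.Sporadic.MultTwoUnit.Check1
import Cfsg.Agent.Lib.Sporadic.MultTwoUnit.Check1Rel0
import Cfsg.Agent.Lib.Sporadic.MultTwoUnit.Check1Ded0
import Cfsg.Agent.Lib.Sporadic.MultTwoUnit.Check1Eqn0
import Cfsg.Agent.Lib.Sporadic.MultTwoUnit.Check2
import Cfsg.Agent.Lib.Sporadic.MultTwoUnit.Check2Rel0
import Cfsg.Agent.Lib.Sporadic.MultTwoUnit.Check2Ded0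
import Cfsg.Agent.Lib.Sporadic.MultTwoUnit.Check2Eqn0
import Cfsg.Agent.Lib.Sporadic.MultTwoUnit.Check3
import Cfsg.Agent.Lib.Sporadic.MultTwoUnit.Check3Rel0
import Cfsg.Agent.Lib.Sporadic.MultTwoUnit.Check3Ded0
import Cfsg.Agent.Lib.Sporadic.MultTwoUnit.Check3Eqn0
import Cfsg.Agent.Lib.Sporadic.MultTwoUnit.Check4
import Cfsg.Agent.Lib.Sporadic.MultTwoUnit.Check4Rel0
import Cfsg.Agent.Lib.Sporadic.MultTwoUnit.Check4Ded0
import Cfsg.Agent.Lib.Sporadic.MultTwoUnit.Check4Eqn0
import Cfsg.Agent.Lib.Sporadic.MultTwoUnit.CheckLin0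
import Cfsg.Agent.Lib.Sporadic.MultTwoUnit.CheckLin1
import Cfsg.Agent.Lib.Schur.CheckParts

/-!
# All checks of the chain
-/

set_option autoImplicit false
set_option maxRecDepth 100000
set_option maxHeartbeats 0
set_option Elab.async false

noncomputable section

namespace CfsgLib.Sporadic.MultTwoUnit

open CfsgLib.Schur.Cert CfsgLib.Sporadic

theorem shape0 : shapeOK (chainRels chain top) rows level0 [level1, level2, level3, level4] (top) = true :=
  shapeOK_of_parts head0 (allFrom_trans srel0_0 (allFrom_trans srel0_2 (allFrom_trans srel0_4 (allFrom_trans srel0_6 (allFrom_trans srel0_8 (allFrom_trans srel0_10 (allFrom_trans srel0_12 (allFrom_trans srel0_14 (allFrom_trans srel0_16 (allFrom_trans srel0_18 (srel0_20))))))))))) (allFrom_trans row0_0 (allFrom_trans row0_10 (allFrom_trans row0_20 (allFrom_trans row0_30 (allFrom_trans row0_40 (allFrom_trans row0_50 (allFrom_trans row0_60 (allFrom_trans row0_70 (allFrom_trans row0_80 (allFrom_trans row0_90 (allFrom_trans row0_100 (allFrom_trans row0_110 (allFrom_trans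 row0_120 (allFrom_trans row0_130 (allFrom_trans row0_140 (allFrom_trans row0_150 (allFrom_trans row0_160 (allFrom_trans row0_170 (allFrom_trans row0_180 (allFrom_trans row0_190 (allFrom_trans row0_200 (allFrom_trans row0_210 (allFrom_trans row0_220 (allFrom_trans row0_230 (allFrom_trans row0_240 (allFrom_trans row0_250 (allFrom_trans row0_260 (allFrom_trans row0_270 (allFrom_trans row0_280 (allFrom_trans row0_290 (allFrom_trans row0_300 (allFrom_trans row0_310 (row0_320)))))))))))))))))))))))))))))))))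

theorem deds0 : dedsOK level0 [level1, level2, level3, level4] = true :=
  dedsOK_of_parts pack_ok0 (packsOK_cons pack_ok1 (packsOK_cons pack_ok2 (packsOK_cons pack_ok3 (packsOK_cons pack_ok4 (rfl))))) (allFrom_trans ded0_0 (allFrom_trans ded0_3 (allFrom_trans ded0_6 (allFrom_trans ded0_9 (allFrom_trans ded0_12 (allFrom_trans ded0_15 (allFrom_trans ded0_18 (allFrom_trans ded0_21 (allFrom_trans ded0_24 (allFrom_trans ded0_27 (allFrom_trans ded0_30 (allFrom_trans ded0_33 (allFrom_trans ded0_36 (allFrom_trans ded0_39 (allFrom_trans ded0_42 (allFrom_trans ded0_45 (allFrom_trans ded0_48 (allFrom_trans ded0_51 (allFrom_trans ded0_54 (allFrom_trans ded0_57 (allFrom_trans ded0_60 (allFrom_trans ded0_63 (allFrom_trans ded0_66 (allFrom_trans ded0_69 (allFrom_trans ded0_72 (allFrom_trans ded0_75 (allFrom_trans ded0_78 (allFrom_trans ded0_81 (allFrom_trans ded0_84 (allFrom_trans ded0_87 (allFrom_trans ded0_90 (allFrom_trans ded0_93 (allFrom_trans ded0_96 (allFrom_trans ded0_99 (allFrom_trans ded0_102 (allFrom_trans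 ded0_105 (allFrom_trans ded0_108 (allFrom_trans ded0_111 (allFrom_trans ded0_114 (allFrom_trans ded0_117 (allFrom_trans ded0_120 (allFrom_trans ded0_123 (allFrom_trans ded0_126 (allFrom_trans ded0_129 (allFrom_trans ded0_132 (allFrom_trans ded0_135 (allFrom_trans ded0_138 (allFrom_trans ded0_141 (allFrom_trans ded0_144 (allFrom_trans ded0_147 (allFrom_trans ded0_150 (allFrom_trans ded0_153 (allFrom_trans ded0_156 (allFrom_trans ded0_159 (allFrom_trans ded0_162 (allFrom_trans ded0_165 (allFrom_trans ded0_168 (allFrom_trans ded0_171 (allFrom_trans ded0_174 (allFrom_trans ded0_177 (allFrom_trans ded0_180 (allFrom_trans ded0_183 (allFrom_trans ded0_186 (allFrom_trans ded0_189 (allFrom_trans ded0_192 (allFrom_trans ded0_195 (allFrom_trans ded0_198 (allFrom_trans ded0_201 (allFrom_trans ded0_204 (allFrom_trans ded0_207 (allFrom_trans ded0_210 (allFrom_trans ded0_213 (allFrom_trans ded0_216 (allFrom_trans ded0_219 (allFrom_trans ded0_222 (allFrom_trans ded0_225 (allFrom_trans ded0_228 (allFrom_trans ded0_231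 (allFrom_trans ded0_234 (allFrom_trans ded0_237 (allFrom_trans ded0_240 (allFrom_trans ded0_243 (allFrom_trans ded0_246 (allFrom_trans ded0_249 (allFrom_trans ded0_252 (allFrom_trans ded0_255 (allFrom_trans ded0_258 (allFrom_trans ded0_261 (allFrom_trans ded0_264 (allFrom_trans ded0_267 (allFrom_trans ded0_270 (allFrom_trans ded0_273 (allFrom_trans ded0_276 (allFrom_trans ded0_279 (allFrom_trans ded0_282 (allFrom_trans ded0_285 (allFrom_trans ded0_288 (allFrom_trans ded0_291 (allFrom_trans ded0_294 (allFrom_trans ded0_297 (allFrom_trans ded0_300 (allFrom_trans ded0_303 (allFrom_trans ded0_306 (allFrom_trans ded0_309 (allFrom_trans ded0_312 (allFrom_trans ded0_315 (allFrom_trans ded0_318 (allFrom_trans ded0_321 (ded0_324)))))))))))))))))))))))))))))))))))))))))))))))))))))))))))))))))))))))))))))))))))))))))))))))))))))))))))))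

theorem eqns0 : eqnsOK level0 [level1, level2, level3, level4] = true :=
  eqnsOK_of_parts pack_ok0 (packsOK_cons pack_ok1 (packsOK_cons pack_ok2 (packsOK_cons pack_ok3 (packsOK_cons pack_ok4 (rfl))))) (allFrom_trans eqn0_0 (allFrom_trans eqn0_3 (allFrom_trans eqn0_6 (allFrom_trans eqn0_9 (allFrom_trans eqn0_12 (allFrom_trans eqn0_15 (allFrom_trans eqn0_18 (allFrom_trans eqn0_21 (eqn0_24)))))))))

theorem shape1 : shapeOK (chainRels chain top) rows level1 [level2, level3, level4] (nextWords (top) level0) = true :=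
  shapeOK_of_parts head1 (allFrom_trans srel1_0 (allFrom_trans srel1_2 (allFrom_trans srel1_4 (srel1_6)))) (row1_0)

theorem deds1 : dedsOK level1 [level2, level3, level4] = true :=
  dedsOK_of_parts pack_ok1 (packsOK_cons pack_ok2 (packsOK_cons pack_ok3 (packsOK_cons pack_ok4 (rfl)))) (allFrom_trans ded1_0 (allFrom_trans ded1_10 (ded1_20)))

theorem eqns1 : eqnsOK level1 [level2, level3, level4] = true :=
  eqnsOK_of_parts pack_ok1 (packsOK_cons pack_ok2 (packsOK_cons pack_ok3 (packsOK_cons pack_ok4 (rfl)))) (eqn1_0)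

theorem shape2 : shapeOK (chainRels chain top) rows level2 [level3, level4] (nextWords (nextWords (top) level0) level1) = true :=
  shapeOK_of_parts head2 (allFrom_trans srel2_0 (allFrom_trans srel2_2 (allFrom_trans srel2_4 (allFrom_trans srel2_6 (allFrom_trans srel2_8 (srel2_10)))))) (row2_0)

theorem deds2 : dedsOK level2 [level3, level4] = true :=
  dedsOK_of_parts pack_ok2 (packsOK_cons pack_ok3 (packsOK_cons pack_ok4 (rfl))) (ded2_0)

theorem eqns2 : eqnsOK level2 [level3, level4] = true :=
  eqnsOK_of_parts pack_ok2 (packsOK_cons pack_ok3 (packsOK_cons pack_ok4 (rfl))) (allFrom_trans eqn2_0 (eqn2_10))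

theorem shape3 : shapeOK (chainRels chain top) rows level3 [level4] (nextWords (nextWords (nextWords (top) level0) level1) level2) = true :=
  shapeOK_of_parts head3 (allFrom_trans srel3_0 (allFrom_trans srel3_2 (allFrom_trans srel3_4 (allFrom_trans srel3_6 (allFrom_trans srel3_8 (srel3_10)))))) (row3_0)

theorem deds3 : dedsOK level3 [level4] = true :=
  dedsOK_of_parts pack_ok3 (packsOK_cons pack_ok4 (rfl)) (ded3_0)

theorem eqns3 : eqnsOK level3 [level4] = true :=
  eqnsOK_of_parts pack_ok3 (packsOK_cons pack_ok4 (rfl)) (eqn3_0)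

theorem shape4 : shapeOK (chainRels chain top) rows level4 [] (nextWords (nextWords (nextWords (nextWords (top) level0) level1) level2) level3) = true :=
  shapeOK_of_parts head4 (allFrom_trans srel4_0 (allFrom_trans srel4_2 (allFrom_trans srel4_4 (srel4_6)))) (row4_0)

theorem deds4 : dedsOK level4 [] = true :=
  dedsOK_of_parts pack_ok4 (rfl) (allFrom_trans ded4_0 (ded4_60))

theorem eqns4 : eqnsOK level4 [] = true :=
  eqnsOK_of_parts pack_ok4 (rfl) (eqn4_0)

theorem perms_check : permsOKN 648 chain = true :=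
  permsOKN_cons permsGen0 (allFrom_trans rel0_0 (allFrom_trans rel0_1 (allFrom_trans rel0_2 (allFrom_trans rel0_3 (allFrom_trans rel0_4 (allFrom_trans rel0_5 (allFrom_trans rel0_6 (allFrom_trans rel0_7 (allFrom_trans rel0_8 (allFrom_trans rel0_9 (allFrom_trans rel0_10 (allFrom_trans rel0_11 (allFrom_trans rel0_12 (allFrom_trans rel0_13 (allFrom_trans rel0_14 (allFrom_trans rel0_15 (allFrom_trans rel0_16 (allFrom_trans rel0_17 (allFrom_trans rel0_18 (allFrom_trans rel0_19 (rel0_20))))))))))))))))))))) (allFrom_trans path0_0 (path0_200)) permsKey0 (permsOKN_cons permsGen1 (allFrom_trans rel1_0 (allFrom_trans rel1_1 (allFrom_trans rel1_2 (allFrom_trans rel1_3 (allFrom_trans rel1_4 (allFrom_trans rel1_5 (allFrom_trans rel1_6 (rel1_7)))))))) (path1_0) permsKey1 (permsOKN_cons permsGen2 (allFrom_trans rel2_0 (allFrom_trans rel2_2 (allFrom_trans rel2_4 (allFrom_trans rel2_6 (allFrom_trans rel2_8 (rel2_10)))))) (path2_0) permsKey2 (permsOKN_cons permsGen3 (allFrom_trans rel3_0 (allFrom_trans rel3_2 (allFrom_trans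 rel3_4 (allFrom_trans rel3_6 (allFrom_trans rel3_8 (rel3_10)))))) (path3_0) permsKey3 (permsOKN_cons permsGen4 (allFrom_trans rel4_0 (allFrom_trans rel4_2 (allFrom_trans rel4_4 (rel4_6)))) (path4_0) permsKey4 (rfl)))))

theorem rows_check : rows = relRows (chainRels chain top) ∧ chainExp chain = top.map (wexp vunit) := by decide +kernel

theorem lastWords : (nextWords (nextWords (nextWords (nextWords (nextWords (top) level0) level1) level2) level3) level4).isEmpty = true := by decide +kernel

theorem tables_check : tablesOK (chainRels chain top) rows chain top = true := by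
  show tablesOK (chainRels chain top) rows [level0, level1, level2, level3, level4] top = true
  simp only [tablesOK, shape0, deds0, eqns0, shape1, deds1, eqns1, shape2, deds2, eqns2, shape3, deds3, eqns3, shape4, deds4, eqns4, lastWords, Bool.and_self]

theorem lin_check : lin.ok rows 2 (chainEqns chain ++ extra.map fun e => e.2.2) = true :=
  LinCert.ok_of_parts linHead_check (allFrom_trans linUnit_0 (allFrom_trans linUnit_5 (allFrom_trans linUnit_10 (allFrom_trans linUnit_15 (allFrom_trans linUnit_20 (allFrom_trans linUnit_25 (allFrom_trans linUnit_30 (allFrom_trans linUnit_35 (allFrom_trans linUnit_40 (linUnit_45)))))))))) (allFrom_trans linKind_0 (allFrom_trans linKind_2 (allFrom_trans linKind_4 (allFrom_trans linKind_6 (allFrom_trans linKind_8 (allFrom_trans linKind_10 (allFrom_trans linKind_12 (allFrom_trans linKind_14 (allFrom_trans linKind_16 (allFrom_trans linKind_18 (allFrom_trans linKind_20 (allFrom_trans linKind_22 (allFrom_trans linKind_24 (allFrom_trans linKind_26 (allFrom_trans linKind_28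 (allFrom_trans linKind_30 (allFrom_trans linKind_32 (allFrom_trans linKind_34 (allFrom_trans linKind_36 (allFrom_trans linKind_38 (allFrom_trans linKind_40 (allFrom_trans linKind_42 (allFrom_trans linKind_44 (allFrom_trans linKind_46 (linKind_48)))))))))))))))))))))))))

end CfsgLib.Sporadic.MultTwoUnit
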