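import Mathlib
import Cfsg.Agent.Lib.Sporadic.MultTwoUnit.Pack0
import Cfsg.Agent.Lib.Sporadic.MultTwoUnit.Pack1
import Cfsg.Agent.Lib.Sporadic.MultTwoUnit.Pack2
import Cfsg.Agent.Lib.Sporadic.MultTwoUnit.Pack3
import Cfsg.Agent.Lib.Sporadic.MultTwoUnit.Pack4
import Cfsg.Agent.Lib.Sporadic.MultTwoUnit.Data
import Cfsg.Agent.Lib.Schur.CheckParts

/-!
# Deductions of table 0
-/

set_option autoImplicit false
set_option maxRecDepth 100000
set_option maxHeartbeats 0
set_option Elab.async false

noncomputable section

namespace CfsgLib.Sporadic.MultTwoUnit

open CfsgLib.Schur.Cert CfsgLib.Sporadic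

theorem ded0_90 : allFrom (dedAt level0 pack0 [level1, level2, level3, level4] [pack1, pack2, pack3, pack4]) 90 93 = true := by decide +kernel

theorem ded0_93 : allFrom (dedAt level0 pack0 [level1, level2, level3, level4] [pack1, pack2, pack3, pack4]) 93 96 = true := by decide +kernel

theorem ded0_96 : allFrom (dedAt level0 pack0 [level1, level2, level3, level4] [pack1, pack2, pack3, pack4]) 96 99 = true := by decide +kernel

theorem ded0_99 : allFrom (dedAt level0 pack0 [level1, level2, level3, level4] [pack1, pack2, pack3, pack4]) 99 102 = true := by decide +kernel

theorem ded0_102 : allFrom (dedAt level0 pack0 [level1, level2, level3, level4] [pack1, pack2, pack3, pack4]) 102 105 = true := by decide +kernel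

theorem ded0_105 : allFrom (dedAt level0 pack0 [level1, level2, level3, level4] [pack1, pack2, pack3, pack4]) 105 108 = true := by decide +kernel

theorem ded0_108 : allFrom (dedAt level0 pack0 [level1, level2, level3, level4] [pack1, pack2, pack3, pack4]) 108 111 = true := by decide +kernel

theorem ded0_111 : allFrom (dedAt level0 pack0 [level1, level2, level3, level4] [pack1, pack2, pack3, pack4]) 111 114 = true := by decide +kernel

theorem ded0_114 : allFrom (dedAt level0 pack0 [level1, level2, level3, level4] [pack1, pack2, pack3, pack4]) 114 117 = true := by decide +kernel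

theorem ded0_117 : allFrom (dedAt level0 pack0 [level1, level2, level3, level4] [pack1, pack2, pack3, pack4]) 117 120 = true := by decide +kernel

theorem ded0_120 : allFrom (dedAt level0 pack0 [level1, level2, level3, level4] [pack1, pack2, pack3, pack4]) 120 123 = true := by decide +kernel

theorem ded0_123 : allFrom (dedAt level0 pack0 [level1, level2, level3, level4] [pack1, pack2, pack3, pack4]) 123 126 = true := by decide +kernel

theorem ded0_126 : allFrom (dedAt level0 pack0 [level1, level2, level3, level4] [pack1, pack2, pack3, pack4]) 126 129 = true := by decide +kernel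

theorem ded0_129 : allFrom (dedAt level0 pack0 [level1, level2, level3, level4] [pack1, pack2, pack3, pack4]) 129 132 = true := by decide +kernel

theorem ded0_132 : allFrom (dedAt level0 pack0 [level1, level2, level3, level4] [pack1, pack2, pack3, pack4]) 132 135 = true := by decide +kernel

theorem ded0_135 : allFrom (dedAt level0 pack0 [level1, level2, level3, level4] [pack1, pack2, pack3, pack4]) 135 138 = true := by decide +kernel

theorem ded0_138 : allFrom (dedAt level0 pack0 [level1, level2, level3, level4] [pack1, pack2, pack3, pack4]) 138 141 = true := by decide +kernel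

theorem ded0_141 : allFrom (dedAt level0 pack0 [level1, level2, level3, level4] [pack1, pack2, pack3, pack4]) 141 144 = true := by decide +kernel

theorem ded0_144 : allFrom (dedAt level0 pack0 [level1, level2, level3, level4] [pack1, pack2, pack3, pack4]) 144 147 = true := by decide +kernel

theorem ded0_147 : allFrom (dedAt level0 pack0 [level1, level2, level3, level4] [pack1, pack2, pack3, pack4]) 147 150 = true := by decide +kernel

theorem ded0_150 : allFrom (dedAt level0 pack0 [level1, level2, level3, level4] [pack1, pack2, pack3, pack4]) 150 153 = true := by decide +kernel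

theorem ded0_153 : allFrom (dedAt level0 pack0 [level1, level2, level3, level4] [pack1, pack2, pack3, pack4]) 153 156 = true := by decide +kernel

theorem ded0_156 : allFrom (dedAt level0 pack0 [level1, level2, level3, level4] [pack1, pack2, pack3, pack4]) 156 159 = true := by decide +kernel

theorem ded0_159 : allFrom (dedAt level0 pack0 [level1, level2, level3, level4] [pack1, pack2, pack3, pack4]) 159 162 = true := by decide +kernel

theorem ded0_162 : allFrom (dedAt level0 pack0 [level1, level2, level3, level4] [pack1, pack2, pack3, pack4]) 162 165 = true := by decide +kernel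

theorem ded0_165 : allFrom (dedAt level0 pack0 [level1, level2, level3, level4] [pack1, pack2, pack3, pack4]) 165 168 = true := by decide +kernel

theorem ded0_168 : allFrom (dedAt level0 pack0 [level1, level2, level3, level4] [pack1, pack2, pack3, pack4]) 168 171 = true := by decide +kernel

theorem ded0_171 : allFrom (dedAt level0 pack0 [level1, level2, level3, level4] [pack1, pack2, pack3, pack4]) 171 174 = true := by decide +kernel

theorem ded0_174 : allFrom (dedAt level0 pack0 [level1, level2, level3, level4] [pack1, pack2, pack3, pack4]) 174 177 = true := by decide +kernel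

theorem ded0_177 : allFrom (dedAt level0 pack0 [level1, level2, level3, level4] [pack1, pack2, pack3, pack4]) 177 180 = true := by decide +kernel

end CfsgLib.Sporadic.MultTwoUnit
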