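import Mathlib
import Cfsg.Agent.Lib.Sporadic.ChainCertificate
import Cfsg.Agent.Lib.Schur.TrieFast

/-!
# Coset table 0 of a chain
-/

set_option autoImplicit false
set_option maxRecDepth 100000
set_option maxHeartbeats 0
set_option Elab.async false

noncomputable section

namespace CfsgLib.Sporadic.MultTwoUnit

open CfsgLib.Schur.Cert

/-- data -/
def next0_00 : Trie (ℕ) := .node (.node (.node (.node (.node (.node (.node (.node (.leaf 1) (.leaf 208)) (.leaf 177)) (.node (.node (.leaf 95) (.leaf 313)) (.leaf 238))) (.node (.node (.node (.leaf 49) (.leaf 247)) (.leaf 114)) (.node (.leaf 65) (.leaf 174)))) (.node (.node (.node (.node (.leaf 26) (.leaf 303)) (.leaf 97)) (.node (.leaf 53) (.leaf 256))) (.node (.node (.node (.leaf 72) (.leaf 318)) (.leaf 214)) (.node (.leaf 151) (.leaf 194))))) (.node (.node (.node (.node (.node (.leaf 14) (.leaf 298)) (.leaf 126)) (.node (.leaf 48) (.leaf 149))) (.node (.node (.node (.leaf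 60) (.leaf 262)) (.leaf 139)) (.node (.leaf 102) (.leaf 278)))) (.node (.node (.node (.node (.leaf 15) (.leaf 234)) (.leaf 105)) (.node (.leaf 131) (.leaf 180))) (.node (.node (.node (.leaf 37) (.leaf 301)) (.leaf 137)) (.node (.leaf 169) (.leaf 285)))))) (.node (.node (.node (.node (.node (.node (.leaf 2) (.leaf 250)) (.leaf 158)) (.node (.leaf 101) (.leaf 145))) (.node (.node (.node (.leaf 54) (.leaf 311)) (.leaf 218)) (.node (.leaf 148) (.leaf 274)))) (.node (.node (.node (.node (.leaf 31) (.leaf 230)) (.leaf 100)) (.node (.leaf 125) (.leaf 159))) (.node (.node (.node (.leaf 78) (.leaf 322)) (.leaf 216)) (.node (.leaf 77) (.leaf 198))))) (.node (.node (.node (.node (.node (.leaf 7) (.leaf 297)) (.leaf 94)) (.node (.leaf 51) (.leaf 186))) (.node (.node (.node (.leaf 58) (.leaf 267)) (.leaf 123)) (.node (.leaf 155) (.leaf 190)))) (.node (.node (.node (.node (.leaf 43) (.leaf 252)) (.leaf 209)) (.node (.leaf 62) (.leaf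 167))) (.node (.node (.node (.leaf 40) (.leaf 310)) (.leaf 235)) (.node (.leaf 83) (.leaf 284))))))) (.node (.node (.node (.node (.node (.node (.node (.leaf 4) (.leaf 293)) (.leaf 178)) (.node (.node (.leaf 98) (.leaf 308)) (.leaf 240))) (.node (.node (.node (.leaf 22) (.leaf 255)) (.leaf 115)) (.node (.leaf 66) (.leaf 175)))) (.node (.node (.node (.node (.leaf 29) (.leaf 228)) (.leaf 173)) (.node (.leaf 55) (.leaf 253))) (.node (.node (.node (.leaf 33) (.leaf 321)) (.leaf 130)) (.node (.leaf 160) (.leaf 195))))) (.node (.node (.node (.node (.node (.leaf 17) (.leaf 219)) (.leaf 93)) (.node (.leaf 111) (.leaf 150))) (.node (.node (.node (.leaf 63) (.leaf 264)) (.leaf 223)) (.node (.leaf 71) (.leaf 280)))) (.node (.node (.node (.node (.leaf 16) (.leaf 239)) (.leaf 107)) (.node (.leaf 61) (.leaf 164))) (.node (.node (.node (.leaf 44) (.leaf 307)) (.leaf 204)) (.node (.leaf 171) (.leaf 260)))))) (.node (.node (.node (.node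 (.node (.node (.leaf 3) (.leaf 296)) (.leaf 181)) (.node (.leaf 47) (.leaf 244))) (.node (.node (.node (.leaf 25) (.leaf 309)) (.leaf 118)) (.node (.leaf 104) (.leaf 276)))) (.node (.node (.node (.node (.leaf 34) (.leaf 232)) (.leaf 202)) (.node (.leaf 127) (.leaf 176))) (.node (.node (.node (.leaf 36) (.leaf 316)) (.leaf 211)) (.node (.leaf 166) (.leaf 199))))) (.node (.node (.node (.node (.node (.leaf 8) (.leaf 225)) (.leaf 191)) (.node (.leaf 52) (.leaf 254))) (.node (.node (.node (.leaf 30) (.leaf 271)) (.leaf 224)) (.node (.leaf 157) (.leaf 192)))) (.node (.node (.node (.node (.leaf 46) (.leaf 279)) (.leaf 132)) (.node (.leaf 140) (.leaf 269))) (.node (.node (.node (.leaf 92) (.leaf 304)) (.leaf 236)) (.node (.leaf 136) (.leaf 206)))))))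

/-- data -/
def next0_01 : Trie (ℕ) := .node (.node (.node (.node (.node (.node (.node (.node (.leaf 0) (.leaf 291)) (.leaf 87)) (.node (.node (.leaf 96) (.leaf 306)) (.leaf 143))) (.node (.node (.node (.leaf 50) (.leaf 249)) (.leaf 207)) (.node (.leaf 144) (.leaf 270)))) (.node (.node (.node (.node (.leaf 10) (.leaf 227)) (.leaf 196)) (.node (.leaf 121) (.leaf 156))) (.node (.node (.node (.leaf 32) (.leaf 277)) (.leaf 128)) (.node (.leaf 75) (.leaf 201))))) (.node (.node (.node (.node (.node (.leaf 5) (.leaf 217)) (.leaf 184)) (.node (.leaf 109) (.leaf 241))) (.node (.node (.node (.leaf 27) (.leaf 268)) (.leaf 120)) (.node (.leaf 152) (.leaf 185)))) (.node (.node (.node (.node (.leaf 38) (.leaf 237)) (.leaf 205)) (.node (.leaf 133) (.leaf 265))) (.node (.node (.node (.leaf 85) (.leaf 320)) (.leaf 233)) (.node (.leaf 81) (.leaf 289)))))) (.node (.node (.node (.node (.node (.node (.leaf 9) (.leaf 213)) (.leaf 89)) (.node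 (.leaf 103) (.leaf 221))) (.node (.node (.node (.leaf 56) (.leaf 258)) (.leaf 117)) (.node (.leaf 68) (.leaf 179)))) (.node (.node (.node (.node (.leaf 13) (.leaf 305)) (.leaf 200)) (.node (.leaf 57) (.leaf 261))) (.node (.node (.node (.leaf 80) (.leaf 294)) (.leaf 134)) (.node (.leaf 165) (.leaf 243))))) (.node (.node (.node (.node (.node (.leaf 21) (.leaf 222)) (.leaf 189)) (.node (.leaf 116) (.leaf 153))) (.node (.node (.node (.leaf 67) (.leaf 312)) (.leaf 146)) (.node (.leaf 73) (.leaf 281)))) (.node (.node (.node (.node (.leaf 18) (.leaf 248)) (.leaf 110)) (.node (.leaf 138) (.leaf 197))) (.node (.node (.node (.leaf 90) (.leaf 299)) (.leaf 141)) (.node (.leaf 84) (.leaf 210))))))) (.node (.node (.node (.node (.node (.node (.node (.leaf 6) (.leaf 287)) (.leaf 88)) (.node (.node (.leaf 45) (.leaf 319)) (.leaf 242))) (.node (.node (.node (.leaf 23) (.leaf 257)) (.leaf 187)) (.node (.leaf 147) (.leaf 273)))) (.node (.node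 (.node (.node (.leaf 11) (.leaf 283)) (.leaf 99)) (.node (.leaf 124) (.leaf 182))) (.node (.node (.node (.leaf 76) (.leaf 314)) (.leaf 229)) (.node (.leaf 162) (.leaf 245))))) (.node (.node (.node (.node (.node (.leaf 19) (.leaf 300)) (.leaf 168)) (.node (.leaf 113) (.leaf 251))) (.node (.node (.node (.leaf 28) (.leaf 317)) (.leaf 122)) (.node (.leaf 154) (.leaf 188)))) (.node (.node (.node (.node (.leaf 41) (.leaf 275)) (.leaf 108)) (.node (.leaf 135) (.leaf 266))) (.node (.node (.node (.leaf 39) (.leaf 295)) (.leaf 163)) (.node (.leaf 172) (.leaf 203)))))) (.node (.node (.node (.node (.node (.node (.leaf 12) (.leaf 215)) (.leaf 91)) (.node (.leaf 106) (.leaf 246))) (.node (.node (.node (.leaf 59) (.leaf 315)) (.leaf 220)) (.node (.leaf 69) (.leaf 183)))) (.node (.node (.node (.node (.leaf 35) (.leaf 286)) (.leaf 112)) (.node (.leaf 129) (.leaf 263))) (.node (.node (.node (.leaf 82) (.leaf 292)) (.leaf 231)) (.node (.leaf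 79) (.leaf 288))))) (.node (.node (.node (.node (.node (.leaf 24) (.leaf 302)) (.leaf 193)) (.node (.leaf 119) (.leaf 161))) (.node (.node (.node (.leaf 70) (.leaf 272)) (.leaf 226)) (.node (.leaf 74) (.leaf 282)))) (.node (.node (.node (.node (.leaf 20) (.leaf 259)) (.leaf 212)) (.node (.leaf 64) (.leaf 170))) (.node (.node (.node (.leaf 42) (.leaf 323)) (.leaf 142)) (.node (.leaf 86) (.leaf 290)))))))

/-- data -/
def next0_10 : Trie (ℕ) := .node (.node (.node (.node (.node (.node (.node (.node (.leaf 2) (.leaf 154)) (.leaf 24)) (.node (.node (.leaf 9) (.leaf 300)) (.leaf 239))) (.node (.node (.node (.leaf 12) (.leaf 290)) (.leaf 214)) (.node (.leaf 143) (.leaf 124)))) (.node (.node (.node (.node (.leaf 27) (.leaf 111)) (.leaf 195)) (.node (.leaf 34) (.leaf 257))) (.node (.node (.node (.leaf 73) (.leaf 319)) (.leaf 228)) (.node (.leaf 60) (.leaf 283))))) (.node (.node (.node (.node (.node (.leaf 15) (.leaf 299)) (.leaf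 26)) (.node (.leaf 108) (.leaf 248))) (.node (.node (.node (.leaf 61) (.leaf 296)) (.leaf 221)) (.node (.leaf 151) (.leaf 205)))) (.node (.node (.node (.node (.leaf 37) (.leaf 307)) (.leaf 92)) (.node (.leaf 132) (.leaf 264))) (.node (.node (.node (.leaf 84) (.leaf 155)) (.leaf 125)) (.node (.leaf 80) (.leaf 251)))))) (.node (.node (.node (.node (.node (.node (.leaf 8) (.leaf 295)) (.leaf 113)) (.node (.leaf 102) (.leaf 243))) (.node (.node (.node (.leaf 55) (.leaf 312)) (.leaf 191)) (.node (.leaf 149) (.leaf 270)))) (.node (.node (.node (.node (.leaf 32) (.leaf 263)) (.leaf 152)) (.node (.leaf 126) (.leaf 131))) (.node (.node (.node (.leaf 79) (.leaf 323)) (.leaf 230)) (.node (.leaf 164) (.leaf 286))))) (.node (.node (.node (.node (.node (.leaf 6) (.leaf 85)) (.leaf 188)) (.node (.leaf 115) (.leaf 46))) (.node (.node (.node (.leaf 66) (.leaf 317)) (.leaf 220)) (.node (.leaf 156) (.leaf 236)))) (.node (.node (.node (.node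 (.leaf 44) (.leaf 96)) (.leaf 210)) (.node (.leaf 137) (.leaf 267))) (.node (.node (.node (.leaf 89) (.leaf 160)) (.leaf 223)) (.node (.leaf 116) (.leaf 181))))))) (.node (.node (.node (.node (.node (.node (.node (.leaf 5) (.leaf 294)) (.leaf 179)) (.node (.node (.leaf 99) (.leaf 322)) (.leaf 241))) (.node (.node (.node (.leaf 52) (.leaf 254)) (.leaf 216)) (.node (.leaf 146) (.leaf 272)))) (.node (.node (.node (.node (.leaf 0) (.leaf 157)) (.leaf 198)) (.node (.leaf 123) (.leaf 259))) (.node (.node (.node (.leaf 75) (.leaf 276)) (.leaf 129)) (.node (.leaf 161) (.leaf 285))))) (.node (.node (.node (.node (.node (.leaf 18) (.leaf 165)) (.leaf 186)) (.node (.leaf 112) (.leaf 250))) (.node (.node (.node (.leaf 64) (.leaf 229)) (.leaf 166)) (.node (.leaf 153) (.leaf 178)))) (.node (.node (.node (.node (.leaf 40) (.leaf 308)) (.leaf 207)) (.node (.leaf 134) (.leaf 218))) (.node (.node (.node (.leaf 87) (.leaf 303)) (.leaf 234))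 (.node (.leaf 35) (.leaf 200)))))) (.node (.node (.node (.node (.node (.node (.leaf 11) (.leaf 297)) (.leaf 182)) (.node (.leaf 105) (.leaf 245))) (.node (.node (.node (.leaf 58) (.leaf 314)) (.leaf 219)) (.node (.leaf 103) (.leaf 261)))) (.node (.node (.node (.node (.leaf 1) (.leaf 106)) (.leaf 203)) (.node (.leaf 128) (.leaf 262))) (.node (.node (.node (.leaf 81) (.leaf 318)) (.leaf 144)) (.node (.leaf 167) (.leaf 287))))) (.node (.node (.node (.node (.node (.leaf 23) (.leaf 281)) (.leaf 192)) (.node (.leaf 118) (.leaf 255))) (.node (.node (.node (.leaf 69) (.leaf 305)) (.leaf 225)) (.node (.leaf 158) (.leaf 76)))) (.node (.node (.node (.node (.leaf 47) (.leaf 298)) (.leaf 31)) (.node (.leaf 141) (.leaf 78))) (.node (.node (.node (.leaf 93) (.leaf 321)) (.leaf 237)) (.node (.leaf 175) (.leaf 246)))))))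

/-- data -/
def next0_11 : Trie (ℕ) := .node (.node (.node (.node (.node (.node (.node (.node (.leaf 3) (.leaf 292)) (.leaf 138)) (.node (.node (.leaf 97) (.leaf 315)) (.leaf 95))) (.node (.node (.node (.leaf 51) (.leaf 310)) (.leaf 215)) (.node (.leaf 145) (.leaf 271)))) (.node (.node (.node (.node (.leaf 28) (.leaf 304)) (.leaf 197)) (.node (.leaf 122) (.leaf 258))) (.node (.node (.node (.leaf 74) (.leaf 320)) (.leaf 189)) (.node (.leaf 133) (.leaf 284))))) (.node (.node (.node (.node (.node (.leaf 16) (.leaf 269)) (.leaf 185)) (.node (.leaf 110) (.leaf 249))) (.node (.node (.node (.leaf 62) (.leaf 316)) (.leaf 222)) (.node (.leaf 147) (.leaf 279)))) (.node (.node (.node (.node (.leaf 39) (.leaf 127)) (.leaf 206)) (.node (.leaf 49) (.leaf 238))) (.node (.node (.node (.leaf 86) (.leaf 242)) (.leaf 148)) (.node (.leaf 170) (.leaf 67)))))) (.node (.node (.node (.node (.node (.node (.leaf 10) (.leaf 212)) (.leaf 59)) (.node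 (.leaf 104) (.leaf 43))) (.node (.node (.node (.leaf 57) (.leaf 313)) (.leaf 140)) (.node (.leaf 150) (.leaf 275)))) (.node (.node (.node (.node (.leaf 33) (.leaf 306)) (.leaf 201)) (.node (.leaf 119) (.leaf 226))) (.node (.node (.node (.leaf 54) (.leaf 293)) (.leaf 101)) (.node (.leaf 21) (.leaf 109))))) (.node (.node (.node (.node (.node (.leaf 22) (.leaf 273)) (.leaf 190)) (.node (.leaf 117) (.leaf 253))) (.node (.node (.node (.leaf 68) (.leaf 311)) (.leaf 177)) (.node (.leaf 98) (.leaf 63)))) (.node (.node (.node (.node (.leaf 45) (.leaf 309)) (.leaf 211)) (.node (.leaf 139) (.leaf 268))) (.node (.node (.node (.leaf 91) (.leaf 302)) (.leaf 82)) (.node (.leaf 174) (.leaf 135))))))) (.node (.node (.node (.node (.node (.node (.node (.leaf 7) (.leaf 72)) (.leaf 180)) (.node (.node (.leaf 100) (.leaf 196)) (.leaf 90))) (.node (.node (.node (.leaf 53) (.leaf 280)) (.leaf 217)) (.node (.leaf 17) (.leaf 56)))) (.node (.node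 (.node (.node (.leaf 30) (.leaf 244)) (.leaf 199)) (.node (.leaf 14) (.leaf 260))) (.node (.node (.node (.leaf 77) (.leaf 233)) (.leaf 38)) (.node (.leaf 163) (.leaf 282))))) (.node (.node (.node (.node (.node (.leaf 20) (.leaf 301)) (.leaf 187)) (.node (.leaf 114) (.leaf 252))) (.node (.node (.node (.leaf 65) (.leaf 235)) (.leaf 121)) (.node (.leaf 19) (.leaf 162)))) (.node (.node (.node (.node (.leaf 42) (.leaf 256)) (.leaf 208)) (.node (.leaf 136) (.leaf 171))) (.node (.node (.node (.leaf 88) (.leaf 289)) (.leaf 41)) (.node (.leaf 173) (.leaf 202)))))) (.node (.node (.node (.node (.node (.node (.leaf 13) (.leaf 231)) (.leaf 183)) (.node (.leaf 107) (.leaf 247))) (.node (.node (.node (.leaf 4) (.leaf 274)) (.leaf 169)) (.node (.leaf 29) (.leaf 277)))) (.node (.node (.node (.node (.leaf 36) (.leaf 291)) (.leaf 204)) (.node (.leaf 130) (.leaf 50))) (.node (.node (.node (.leaf 83) (.leaf 172)) (.leaf 232)) (.node (.leaf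 168) (.leaf 70))))) (.node (.node (.node (.node (.node (.leaf 25) (.leaf 184)) (.leaf 194)) (.node (.leaf 120) (.leaf 240))) (.node (.node (.node (.leaf 71) (.leaf 209)) (.leaf 227)) (.node (.leaf 159) (.leaf 193)))) (.node (.node (.node (.node (.leaf 48) (.leaf 288)) (.leaf 213)) (.node (.leaf 142) (.leaf 266))) (.node (.node (.node (.leaf 94) (.leaf 265)) (.leaf 224)) (.node (.leaf 176) (.leaf 278)))))))

/-- data -/
def next0 : Trie (ℕ) := .node (.node (next0_00) (next0_01)) (.node (next0_10) (next0_11))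

/-- data -/
def prev0_00 : Trie (ℕ) := .node (.node (.node (.node (.node (.node (.node (.node (.leaf 1) (.leaf 208)) (.leaf 177)) (.node (.node (.leaf 95) (.leaf 313)) (.leaf 238))) (.node (.node (.node (.leaf 49) (.leaf 247)) (.leaf 114)) (.node (.leaf 65) (.leaf 174)))) (.node (.node (.node (.node (.leaf 26) (.leaf 303)) (.leaf 97)) (.node (.leaf 53) (.leaf 256))) (.node (.node (.node (.leaf 72) (.leaf 318)) (.leaf 214)) (.node (.leaf 151) (.leaf 194))))) (.node (.node (.node (.node (.node (.leaf 14) (.leaf 298)) (.leaf 126)) (.node (.leaf 48) (.leaf 149))) (.node (.node (.node (.leaf 60) (.leaf 262)) (.leaf 139)) (.node (.leaf 102) (.leaf 278)))) (.node (.node (.node (.node (.leaf 15) (.leaf 234)) (.leaf 105)) (.node (.leaf 131) (.leaf 180))) (.node (.node (.node (.leaf 37) (.leaf 301)) (.leaf 137)) (.node (.leaf 169) (.leaf 285)))))) (.node (.node (.node (.node (.node (.node (.leaf 2) (.leaf 250)) (.leaf 158)) (.node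 (.leaf 101) (.leaf 145))) (.node (.node (.node (.leaf 54) (.leaf 311)) (.leaf 218)) (.node (.leaf 148) (.leaf 274)))) (.node (.node (.node (.node (.leaf 31) (.leaf 230)) (.leaf 100)) (.node (.leaf 125) (.leaf 159))) (.node (.node (.node (.leaf 78) (.leaf 322)) (.leaf 216)) (.node (.leaf 77) (.leaf 198))))) (.node (.node (.node (.node (.node (.leaf 7) (.leaf 297)) (.leaf 94)) (.node (.leaf 51) (.leaf 186))) (.node (.node (.node (.leaf 58) (.leaf 267)) (.leaf 123)) (.node (.leaf 155) (.leaf 190)))) (.node (.node (.node (.node (.leaf 43) (.leaf 252)) (.leaf 209)) (.node (.leaf 62) (.leaf 167))) (.node (.node (.node (.leaf 40) (.leaf 310)) (.leaf 235)) (.node (.leaf 83) (.leaf 284))))))) (.node (.node (.node (.node (.node (.node (.node (.leaf 4) (.leaf 293)) (.leaf 178)) (.node (.node (.leaf 98) (.leaf 308)) (.leaf 240))) (.node (.node (.node (.leaf 22) (.leaf 255)) (.leaf 115)) (.node (.leaf 66) (.leaf 175)))) (.node (.node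 (.node (.node (.leaf 29) (.leaf 228)) (.leaf 173)) (.node (.leaf 55) (.leaf 253))) (.node (.node (.node (.leaf 33) (.leaf 321)) (.leaf 130)) (.node (.leaf 160) (.leaf 195))))) (.node (.node (.node (.node (.node (.leaf 17) (.leaf 219)) (.leaf 93)) (.node (.leaf 111) (.leaf 150))) (.node (.node (.node (.leaf 63) (.leaf 264)) (.leaf 223)) (.node (.leaf 71) (.leaf 280)))) (.node (.node (.node (.node (.leaf 16) (.leaf 239)) (.leaf 107)) (.node (.leaf 61) (.leaf 164))) (.node (.node (.node (.leaf 44) (.leaf 307)) (.leaf 204)) (.node (.leaf 171) (.leaf 260)))))) (.node (.node (.node (.node (.node (.node (.leaf 3) (.leaf 296)) (.leaf 181)) (.node (.leaf 47) (.leaf 244))) (.node (.node (.node (.leaf 25) (.leaf 309)) (.leaf 118)) (.node (.leaf 104) (.leaf 276)))) (.node (.node (.node (.node (.leaf 34) (.leaf 232)) (.leaf 202)) (.node (.leaf 127) (.leaf 176))) (.node (.node (.node (.leaf 36) (.leaf 316)) (.leaf 211)) (.node (.leaf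 166) (.leaf 199))))) (.node (.node (.node (.node (.node (.leaf 8) (.leaf 225)) (.leaf 191)) (.node (.leaf 52) (.leaf 254))) (.node (.node (.node (.leaf 30) (.leaf 271)) (.leaf 224)) (.node (.leaf 157) (.leaf 192)))) (.node (.node (.node (.node (.leaf 46) (.leaf 279)) (.leaf 132)) (.node (.leaf 140) (.leaf 269))) (.node (.node (.node (.leaf 92) (.leaf 304)) (.leaf 236)) (.node (.leaf 136) (.leaf 206)))))))

/-- data -/
def prev0_01 : Trie (ℕ) := .node (.node (.node (.node (.node (.node (.node (.node (.leaf 0) (.leaf 291)) (.leaf 87)) (.node (.node (.leaf 96) (.leaf 306)) (.leaf 143))) (.node (.node (.node (.leaf 50) (.leaf 249)) (.leaf 207)) (.node (.leaf 144) (.leaf 270)))) (.node (.node (.node (.node (.leaf 10) (.leaf 227)) (.leaf 196)) (.node (.leaf 121) (.leaf 156))) (.node (.node (.node (.leaf 32) (.leaf 277)) (.leaf 128)) (.node (.leaf 75) (.leaf 201))))) (.node (.node (.node (.node (.node (.leaf 5) (.leaf 217)) (.leaf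 184)) (.node (.leaf 109) (.leaf 241))) (.node (.node (.node (.leaf 27) (.leaf 268)) (.leaf 120)) (.node (.leaf 152) (.leaf 185)))) (.node (.node (.node (.node (.leaf 38) (.leaf 237)) (.leaf 205)) (.node (.leaf 133) (.leaf 265))) (.node (.node (.node (.leaf 85) (.leaf 320)) (.leaf 233)) (.node (.leaf 81) (.leaf 289)))))) (.node (.node (.node (.node (.node (.node (.leaf 9) (.leaf 213)) (.leaf 89)) (.node (.leaf 103) (.leaf 221))) (.node (.node (.node (.leaf 56) (.leaf 258)) (.leaf 117)) (.node (.leaf 68) (.leaf 179)))) (.node (.node (.node (.node (.leaf 13) (.leaf 305)) (.leaf 200)) (.node (.leaf 57) (.leaf 261))) (.node (.node (.node (.leaf 80) (.leaf 294)) (.leaf 134)) (.node (.leaf 165) (.leaf 243))))) (.node (.node (.node (.node (.node (.leaf 21) (.leaf 222)) (.leaf 189)) (.node (.leaf 116) (.leaf 153))) (.node (.node (.node (.leaf 67) (.leaf 312)) (.leaf 146)) (.node (.leaf 73) (.leaf 281)))) (.node (.node (.node (.node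 (.leaf 18) (.leaf 248)) (.leaf 110)) (.node (.leaf 138) (.leaf 197))) (.node (.node (.node (.leaf 90) (.leaf 299)) (.leaf 141)) (.node (.leaf 84) (.leaf 210))))))) (.node (.node (.node (.node (.node (.node (.node (.leaf 6) (.leaf 287)) (.leaf 88)) (.node (.node (.leaf 45) (.leaf 319)) (.leaf 242))) (.node (.node (.node (.leaf 23) (.leaf 257)) (.leaf 187)) (.node (.leaf 147) (.leaf 273)))) (.node (.node (.node (.node (.leaf 11) (.leaf 283)) (.leaf 99)) (.node (.leaf 124) (.leaf 182))) (.node (.node (.node (.leaf 76) (.leaf 314)) (.leaf 229)) (.node (.leaf 162) (.leaf 245))))) (.node (.node (.node (.node (.node (.leaf 19) (.leaf 300)) (.leaf 168)) (.node (.leaf 113) (.leaf 251))) (.node (.node (.node (.leaf 28) (.leaf 317)) (.leaf 122)) (.node (.leaf 154) (.leaf 188)))) (.node (.node (.node (.node (.leaf 41) (.leaf 275)) (.leaf 108)) (.node (.leaf 135) (.leaf 266))) (.node (.node (.node (.leaf 39) (.leaf 295)) (.leaf 163))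 (.node (.leaf 172) (.leaf 203)))))) (.node (.node (.node (.node (.node (.node (.leaf 12) (.leaf 215)) (.leaf 91)) (.node (.leaf 106) (.leaf 246))) (.node (.node (.node (.leaf 59) (.leaf 315)) (.leaf 220)) (.node (.leaf 69) (.leaf 183)))) (.node (.node (.node (.node (.leaf 35) (.leaf 286)) (.leaf 112)) (.node (.leaf 129) (.leaf 263))) (.node (.node (.node (.leaf 82) (.leaf 292)) (.leaf 231)) (.node (.leaf 79) (.leaf 288))))) (.node (.node (.node (.node (.node (.leaf 24) (.leaf 302)) (.leaf 193)) (.node (.leaf 119) (.leaf 161))) (.node (.node (.node (.leaf 70) (.leaf 272)) (.leaf 226)) (.node (.leaf 74) (.leaf 282)))) (.node (.node (.node (.node (.leaf 20) (.leaf 259)) (.leaf 212)) (.node (.leaf 64) (.leaf 170))) (.node (.node (.node (.leaf 42) (.leaf 323)) (.leaf 142)) (.node (.leaf 86) (.leaf 290)))))))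

/-- data -/
def prev0_10 : Trie (ℕ) := .node (.node (.node (.node (.node (.node (.node (.node (.leaf 18) (.leaf 283)) (.leaf 86)) (.node (.node (.leaf 42) (.leaf 305)) (.leaf 142))) (.node (.node (.node (.leaf 20) (.leaf 287)) (.leaf 316)) (.node (.leaf 284) (.leaf 191)))) (.node (.node (.node (.node (.leaf 9) (.leaf 226)) (.leaf 182)) (.node (.leaf 120) (.leaf 155))) (.node (.node (.node (.leaf 31) (.leaf 273)) (.leaf 127)) (.node (.leaf 74) (.leaf 207))))) (.node (.node (.node (.node (.node (.leaf 4) (.leaf 216)) (.leaf 91)) (.node (.leaf 259) (.leaf 250))) (.node (.node (.node (.leaf 26) (.leaf 296)) (.leaf 119)) (.node (.leaf 69) (.leaf 183)))) (.node (.node (.node (.node (.leaf 128) (.leaf 291)) (.leaf 148)) (.node (.leaf 59) (.leaf 162))) (.node (.node (.node (.leaf 227) (.leaf 292)) (.leaf 271)) (.node (.leaf 79) (.leaf 200)))))) (.node (.node (.node (.node (.node (.node (.leaf 39) (.leaf 211)) (.leaf 88)) (.node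 (.leaf 45) (.leaf 323))) (.node (.node (.node (.leaf 23) (.leaf 257)) (.leaf 116)) (.node (.leaf 67) (.leaf 176)))) (.node (.node (.node (.node (.leaf 11) (.leaf 306)) (.leaf 185)) (.node (.leaf 56) (.leaf 261))) (.node (.node (.node (.leaf 34) (.leaf 282)) (.leaf 131)) (.node (.leaf 124) (.leaf 275))))) (.node (.node (.node (.node (.node (.leaf 32) (.leaf 221)) (.leaf 165)) (.node (.leaf 238) (.leaf 151))) (.node (.node (.node (.leaf 28) (.leaf 320)) (.leaf 311)) (.node (.leaf 72) (.leaf 236)))) (.node (.node (.node (.node (.leaf 17) (.leaf 241)) (.leaf 108)) (.node (.leaf 152) (.leaf 172))) (.node (.node (.node (.leaf 112) (.leaf 297)) (.leaf 140)) (.node (.leaf 224) (.leaf 203))))))) (.node (.node (.node (.node (.node (.node (.node (.leaf 0) (.leaf 209)) (.leaf 87)) (.node (.node (.leaf 44) (.leaf 322)) (.leaf 143))) (.node (.node (.node (.leaf 80) (.leaf 288)) (.leaf 235)) (.node (.leaf 109) (.leaf 213)))) (.node (.node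 (.node (.node (.leaf 10) (.leaf 295)) (.leaf 98)) (.node (.leaf 189) (.leaf 156))) (.node (.node (.node (.leaf 215) (.leaf 277)) (.leaf 234)) (.node (.leaf 75) (.leaf 313))))) (.node (.node (.node (.node (.node (.leaf 5) (.leaf 223)) (.leaf 129)) (.node (.leaf 49) (.leaf 251))) (.node (.node (.node (.leaf 27) (.leaf 286)) (.leaf 121)) (.node (.leaf 278) (.leaf 186)))) (.node (.node (.node (.node (.leaf 136) (.leaf 243)) (.leaf 256)) (.node (.leaf 195) (.leaf 218))) (.node (.node (.node (.leaf 38) (.leaf 294)) (.leaf 138)) (.node (.leaf 81) (.leaf 202)))))) (.node (.node (.node (.node (.node (.node (.leaf 12) (.leaf 214)) (.leaf 90)) (.node (.leaf 247) (.leaf 146))) (.node (.node (.node (.leaf 179) (.leaf 258)) (.leaf 170)) (.node (.leaf 68) (.leaf 180)))) (.node (.node (.node (.node (.leaf 13) (.leaf 255)) (.leaf 101)) (.node (.leaf 57) (.leaf 160))) (.node (.node (.node (.leaf 53) (.leaf 289)) (.leaf 134)) (.node (.leaf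 78) (.leaf 254))))) (.node (.node (.node (.node (.node (.leaf 83) (.leaf 228)) (.leaf 95)) (.node (.leaf 222) (.leaf 153))) (.node (.node (.node (.leaf 204) (.leaf 317)) (.leaf 125)) (.node (.leaf 73) (.leaf 217)))) (.node (.node (.node (.node (.leaf 19) (.leaf 244)) (.leaf 110)) (.node (.leaf 63) (.leaf 169))) (.node (.node (.node (.leaf 41) (.leaf 310)) (.leaf 141)) (.node (.leaf 84) (.leaf 290)))))))

/-- data -/
def prev0_11 : Trie (ℕ) := .node (.node (.node (.node (.node (.node (.node (.node (.leaf 22) (.leaf 208)) (.leaf 178)) (.node (.node (.leaf 43) (.leaf 318)) (.leaf 239))) (.node (.node (.node (.leaf 21) (.leaf 315)) (.leaf 114)) (.node (.leaf 65) (.leaf 174)))) (.node (.node (.node (.node (.leaf 99) (.leaf 269)) (.leaf 97)) (.node (.leaf 54) (.leaf 303))) (.node (.node (.node (.leaf 89) (.leaf 302)) (.leaf 173)) (.node (.leaf 132) (.leaf 194))))) (.node (.node (.node (.node (.node (.leaf 64) (.leaf 319)) (.leaf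 92)) (.node (.leaf 48) (.leaf 149))) (.node (.node (.node (.leaf 187) (.leaf 262)) (.leaf 167)) (.node (.leaf 70) (.leaf 307)))) (.node (.node (.node (.node (.leaf 15) (.leaf 270)) (.leaf 106)) (.node (.leaf 60) (.leaf 163))) (.node (.node (.node (.leaf 37) (.leaf 293)) (.leaf 137)) (.node (.leaf 171) (.leaf 201)))))) (.node (.node (.node (.node (.node (.node (.leaf 2) (.leaf 230)) (.leaf 113)) (.node (.leaf 46) (.leaf 145))) (.node (.node (.node (.leaf 24) (.leaf 309)) (.leaf 266)) (.node (.leaf 181) (.leaf 298)))) (.node (.node (.node (.node (.leaf 117) (.leaf 231)) (.leaf 100)) (.node (.leaf 268) (.leaf 159))) (.node (.node (.node (.leaf 35) (.leaf 285)) (.leaf 252)) (.node (.leaf 77) (.leaf 198))))) (.node (.node (.node (.node (.node (.leaf 7) (.leaf 265)) (.leaf 94)) (.node (.leaf 51) (.leaf 232))) (.node (.node (.node (.leaf 29) (.leaf 267)) (.leaf 123)) (.node (.leaf 245) (.leaf 190)))) (.node (.node (.node (.node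 (.leaf 103) (.leaf 242)) (.leaf 274)) (.node (.leaf 62) (.leaf 168))) (.node (.node (.node (.leaf 40) (.leaf 300)) (.leaf 177)) (.node (.leaf 184) (.leaf 205))))))) (.node (.node (.node (.node (.node (.node (.node (.leaf 1) (.leaf 210)) (.leaf 212)) (.node (.node (.leaf 249) (.leaf 308)) (.leaf 144))) (.node (.node (.node (.leaf 122) (.leaf 279)) (.leaf 115)) (.node (.leaf 66) (.leaf 175)))) (.node (.node (.node (.node (.leaf 107) (.leaf 229)) (.leaf 105)) (.node (.leaf 55) (.leaf 157))) (.node (.node (.node (.leaf 33) (.leaf 280)) (.leaf 130)) (.node (.leaf 76) (.leaf 196))))) (.node (.node (.node (.node (.node (.leaf 6) (.leaf 220)) (.leaf 93)) (.node (.leaf 50) (.leaf 150))) (.node (.node (.node (.leaf 197) (.leaf 264)) (.leaf 219)) (.node (.leaf 71) (.leaf 299)))) (.node (.node (.node (.node (.leaf 16) (.leaf 240)) (.leaf 312)) (.node (.leaf 61) (.leaf 166))) (.node (.node (.node (.leaf 133) (.leaf 321)) (.leaf 139))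 (.node (.leaf 82) (.leaf 248)))))) (.node (.node (.node (.node (.node (.node (.leaf 3) (.leaf 276)) (.leaf 253)) (.node (.leaf 47) (.leaf 147))) (.node (.node (.node (.leaf 25) (.leaf 260)) (.leaf 118)) (.node (.leaf 102) (.leaf 263)))) (.node (.node (.node (.node (.leaf 14) (.leaf 233)) (.leaf 104)) (.node (.leaf 58) (.leaf 161))) (.node (.node (.node (.leaf 36) (.leaf 301)) (.leaf 135)) (.node (.leaf 85) (.leaf 199))))) (.node (.node (.node (.node (.node (.leaf 8) (.leaf 225)) (.leaf 96)) (.node (.leaf 52) (.leaf 154))) (.node (.node (.node (.leaf 30) (.leaf 314)) (.leaf 126)) (.node (.leaf 272) (.leaf 192)))) (.node (.node (.node (.node (.leaf 158) (.leaf 246)) (.leaf 111)) (.node (.leaf 193) (.leaf 188))) (.node (.node (.node (.leaf 237) (.leaf 304)) (.leaf 164)) (.node (.leaf 281) (.leaf 206)))))))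

/-- data -/
def prev0 : Trie (ℕ) := .node (.node (prev0_00) (prev0_01)) (.node (prev0_10) (prev0_11))

/-- data -/
def lab0_000 : Trie (Word) := .node (.node (.node (.node (.node (.node (.node (.leaf ([])) (.leaf ([]))) (.leaf ([]))) (.node (.node (.leaf ([])) (.leaf ([(1, true), (0, false), (1, false), (0, false), (1, true), (1, true), (0, true), (1, true), (1, true), (0, true), (1, false)]))) (.leaf ([])))) (.node (.node (.node (.leaf ([])) (.leaf ([]))) (.leaf ([]))) (.node (.leaf ([])) (.leaf ([]))))) (.node (.node (.node (.node (.leaf ([])) (.leaf ([]))) (.leaf ([]))) (.node (.leaf ([])) (.leaf ([])))) (.node (.node (.node (.leaf ([])) (.leaf ([]))) (.leaf ([(1, true), (0, true), (1, false), (0, true), (1, true), (0, true), (1, true), (1, true), (0, false), (1, false)]))) (.node (.leaf ([(0, true), (1, true), (0, false), (1, true), (0, false), (1, true), (0, true), (1, true), (0, false)])) (.leaf ([])))))) (.node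 (.node (.node (.node (.node (.leaf ([])) (.leaf ([]))) (.leaf ([(1, false), (0, false), (1, true), (0, false), (1, false), (1, false), (0, false), (1, false), (0, true), (1, true), (0, true)]))) (.node (.leaf ([])) (.leaf ([])))) (.node (.node (.node (.leaf ([])) (.leaf ([]))) (.leaf ([(0, true), (1, false), (1, false), (0, false), (1, true), (0, true), (1, true), (1, true), (0, false), (1, true), (0, false)]))) (.node (.leaf ([(0, false), (1, false), (0, true), (1, false), (0, true), (1, false), (0, false), (1, true)])) (.leaf ([]))))) (.node (.node (.node (.node (.leaf ([])) (.leaf ([]))) (.leaf ([]))) (.node (.leaf ([])) (.leaf ([(1, true), (1, true), (0, true), (1, false), (0, false), (1, true), (0, false)])))) (.node (.node (.node (.leaf ([])) (.leaf ([(1, true), (0, false), (1, false), (0, false), (1, false), (1, false), (0, false), (1, false), (0, true), (1, true)]))) (.leaf ([]))) (.node (.leaf ([])) (.leaf ([(1,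 false), (0, false), (1, true), (0, false), (1, false), (0, false), (1, true), (0, true), (1, false), (0, false)]))))))) (.node (.node (.node (.node (.node (.node (.leaf ([])) (.leaf ([(0, false), (1, false), (0, false), (1, true), (1, true), (0, true), (1, true), (1, true), (0, true), (1, true), (0, false), (1, true)]))) (.leaf ([(1, true), (0, true), (1, true), (0, false), (1, true), (0, true), (1, false), (0, false), (1, true), (1, true), (0, true)]))) (.node (.leaf ([])) (.leaf ([])))) (.node (.node (.node (.leaf ([])) (.leaf ([]))) (.leaf ([]))) (.node (.leaf ([])) (.leaf ([]))))) (.node (.node (.node (.node (.leaf ([])) (.leaf ([]))) (.leaf ([]))) (.node (.leaf ([])) (.leaf ([])))) (.node (.node (.node (.leaf ([])) (.leaf ([]))) (.leaf ([(0, true), (1, false), (0, true), (1, true), (0, false), (1, false), (1, false)]))) (.node (.leaf ([])) (.leaf ([])))))) (.node (.node (.node (.node (.node (.leaf ([])) (.leaf ([(0,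 true), (1, true), (1, true), (0, false), (1, false), (0, true), (1, true), (0, true), (1, false)]))) (.leaf ([]))) (.node (.leaf ([])) (.leaf ([(1, true), (0, false), (1, true), (0, false), (1, false), (0, false), (1, false)])))) (.node (.node (.node (.leaf ([(1, true)])) (.leaf ([]))) (.leaf ([]))) (.node (.leaf ([])) (.leaf ([]))))) (.node (.node (.node (.node (.leaf ([])) (.leaf ([(1, true), (1, true), (0, true), (1, true), (0, false), (1, false), (0, true), (1, false), (0, true), (1, false), (0, false)]))) (.leaf ([]))) (.node (.leaf ([])) (.leaf ([])))) (.node (.node (.node (.leaf ([])) (.leaf ([(0, true), (1, true), (0, true), (1, false), (0, false), (1, true), (0, false), (1, false), (0, true), (1, false), (0, false)]))) (.leaf ([]))) (.node (.leaf ([])) (.leaf ([(0, true), (1, true), (0, false), (1, true), (0, false), (1, true), (0, true), (1, false), (0, false), (1, false), (1, false)])))))))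

/-- data -/
def lab0_001 : Trie (Word) := .node (.node (.node (.node (.node (.node (.node (.leaf ([])) (.leaf ([]))) (.leaf ([]))) (.node (.node (.leaf ([])) (.leaf ([]))) (.leaf ([])))) (.node (.node (.node (.leaf ([])) (.leaf ([]))) (.leaf ([]))) (.node (.leaf ([])) (.leaf ([]))))) (.node (.node (.node (.node (.leaf ([])) (.leaf ([]))) (.leaf ([(1, false), (0, false), (1, false), (0, false), (1, false), (1, false), (0, true), (1, true), (0, false), (1, true), (0, true)]))) (.node (.leaf ([])) (.leaf ([(0, true), (1, false), (0, false), (1, true), (0, true), (1, true), (0, false), (1, false), (0, false), (1, false), (1, false)])))) (.node (.node (.node (.leaf ([])) (.leaf ([]))) (.leaf ([]))) (.node (.leaf ([])) (.leaf ([])))))) (.node (.node (.node (.node (.node (.leaf ([])) (.leaf ([]))) (.leaf ([]))) (.node (.leaf ([])) (.leaf ([])))) (.node (.node (.node (.leaf ([])) (.leaf ([]))) (.leaf ([]))) (.node (.leaf ([]))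 (.leaf ([]))))) (.node (.node (.node (.node (.leaf ([])) (.leaf ([]))) (.leaf ([]))) (.node (.leaf ([])) (.leaf ([])))) (.node (.node (.node (.leaf ([(1, false)])) (.leaf ([(1, true), (0, false), (1, false), (0, true), (1, true), (1, true), (0, false), (1, true), (0, false)]))) (.leaf ([(1, true), (0, true), (1, true), (0, true), (1, false), (0, true), (1, false)]))) (.node (.leaf ([])) (.leaf ([(1, false), (0, true), (1, false), (0, false), (1, false), (1, false), (0, false), (1, false), (1, false), (0, true), (1, true), (0, true)]))))))) (.node (.node (.node (.node (.node (.node (.leaf ([])) (.leaf ([]))) (.leaf ([]))) (.node (.leaf ([])) (.leaf ([])))) (.node (.node (.node (.leaf ([])) (.leaf ([(0, false), (1, false), (1, false), (0, false), (1, true), (0, false), (1, false), (1, false), (0, false), (1, true), (0, true)]))) (.leaf ([]))) (.node (.leaf ([(1, false), (0, true), (1, true), (0, false), (1, true), (0, false),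 (1, true), (0, true)])) (.leaf ([]))))) (.node (.node (.node (.node (.leaf ([])) (.leaf ([]))) (.leaf ([]))) (.node (.leaf ([])) (.leaf ([(1, true), (0, true), (1, false), (1, false), (0, false), (1, false), (0, false), (1, true), (0, false), (1, false)])))) (.node (.node (.node (.leaf ([])) (.leaf ([(0, true), (1, true), (0, false), (1, true), (0, true), (1, false), (0, true), (1, true), (0, false), (1, false), (0, false)]))) (.leaf ([(1, true), (1, true), (0, false), (1, true), (0, false), (1, false), (0, true), (1, true), (1, true), (0, true)]))) (.node (.leaf ([])) (.leaf ([])))))) (.node (.node (.node (.node (.node (.leaf ([])) (.leaf ([]))) (.leaf ([]))) (.node (.leaf ([])) (.leaf ([])))) (.node (.node (.node (.leaf ([])) (.leaf ([]))) (.leaf ([]))) (.node (.leaf ([])) (.leaf ([]))))) (.node (.node (.node (.node (.leaf ([])) (.leaf ([(1, true), (0, true), (1, false), (1, false), (0, false), (1, false), (0, true),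 (1, true), (0, true)]))) (.leaf ([(0, true), (1, false), (0, false), (1, false), (0, true), (1, false), (0, false), (1, true), (0, false), (1, false), (0, true)]))) (.node (.leaf ([])) (.leaf ([])))) (.node (.node (.node (.leaf ([])) (.leaf ([]))) (.leaf ([]))) (.node (.leaf ([(0, false), (1, false), (0, false), (1, true), (0, true), (1, true), (1, true), (0, true), (1, false), (0, true), (1, true)])) (.leaf ([])))))))

/-- data -/
def lab0_010 : Trie (Word) := .node (.node (.node (.node (.node (.node (.node (.leaf ([])) (.leaf ([]))) (.leaf ([]))) (.node (.node (.leaf ([])) (.leaf ([]))) (.leaf ([])))) (.node (.node (.node (.leaf ([])) (.leaf ([]))) (.leaf ([(0, true), (1, true), (0, false), (1, true), (0, false), (1, false), (1, false), (0, false), (1, false), (0, true)]))) (.node (.leaf ([])) (.leaf ([]))))) (.node (.node (.node (.node (.leaf ([])) (.leaf ([]))) (.leaf ([]))) (.node (.leaf ([])) (.leaf ([])))) (.node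 (.node (.node (.leaf ([])) (.leaf ([]))) (.leaf ([]))) (.node (.leaf ([])) (.leaf ([(1, true), (0, true), (1, false), (0, true), (1, false), (0, true), (1, false), (0, true)])))))) (.node (.node (.node (.node (.node (.leaf ([])) (.leaf ([]))) (.leaf ([]))) (.node (.leaf ([])) (.leaf ([(0, false), (1, true), (0, false), (1, true), (0, false), (1, true), (0, false), (1, false)])))) (.node (.node (.node (.leaf ([])) (.leaf ([(1, true), (0, false), (1, false), (0, false), (1, true), (0, true), (1, false), (1, false), (0, false)]))) (.leaf ([]))) (.node (.leaf ([])) (.leaf ([]))))) (.node (.node (.node (.node (.leaf ([])) (.leaf ([]))) (.leaf ([]))) (.node (.leaf ([])) (.leaf ([])))) (.node (.node (.node (.leaf ([])) (.leaf ([(1, true), (0, true), (1, true), (1, true), (0, false), (1, false), (0, true), (1, true), (1, true), (0, false), (1, true)]))) (.leaf ([]))) (.node (.leaf ([])) (.leaf ([]))))))) (.node (.node (.node (.node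 (.node (.node (.leaf ([])) (.leaf ([]))) (.leaf ([]))) (.node (.leaf ([])) (.leaf ([(1, false), (1, false), (0, false), (1, true), (0, false), (1, true), (0, true), (1, false), (0, true), (1, true), (0, false)])))) (.node (.node (.node (.leaf ([])) (.leaf ([]))) (.leaf ([]))) (.node (.leaf ([])) (.leaf ([]))))) (.node (.node (.node (.node (.leaf ([])) (.leaf ([]))) (.leaf ([]))) (.node (.leaf ([])) (.leaf ([])))) (.node (.node (.node (.leaf ([])) (.leaf ([(0, false), (1, false), (0, true), (1, true), (1, true), (0, true), (1, false), (0, true), (1, true), (1, true), (0, true)]))) (.leaf ([]))) (.node (.leaf ([])) (.leaf ([(0, false), (1, true), (0, true), (1, true), (0, false), (1, false), (0, true), (1, false), (0, true), (1, false), (0, true)])))))) (.node (.node (.node (.node (.node (.leaf ([])) (.leaf ([]))) (.leaf ([]))) (.node (.leaf ([])) (.leaf ([])))) (.node (.node (.node (.leaf ([])) (.leaf ([(1, false), (0,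 false), (1, true), (0, true), (1, true), (1, true), (0, true), (1, true), (0, true), (1, false)]))) (.leaf ([(0, false), (1, false), (0, true), (1, false), (0, false), (1, true), (1, true), (0, true), (1, true), (0, true), (1, true)]))) (.node (.leaf ([])) (.leaf ([]))))) (.node (.node (.node (.node (.leaf ([])) (.leaf ([(1, false), (0, false), (1, true), (0, false), (1, false), (0, false), (1, true), (0, true), (1, false), (0, false)]))) (.leaf ([]))) (.node (.leaf ([])) (.leaf ([(0, true), (1, false), (0, false), (1, true), (0, false), (1, false), (0, true), (1, false), (0, true), (1, true), (1, true)])))) (.node (.node (.node (.leaf ([])) (.leaf ([]))) (.leaf ([]))) (.node (.leaf ([])) (.leaf ([(1, true), (1, true), (0, true), (1, true), (0, true), (1, false), (0, false), (1, false), (0, true), (1, true), (0, false)])))))))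

/-- data -/
def lab0_011 : Trie (Word) := .node (.node (.node (.node (.node (.node (.node (.leaf ([])) (.leaf ([(1, false), (1, false), (0, false), (1, true), (0, true), (1, true), (0, false), (1, false), (0, false), (1, true), (0, true)]))) (.leaf ([]))) (.node (.node (.leaf ([])) (.leaf ([(1, true), (0, false), (1, false), (0, false), (1, false), (0, false), (1, false), (0, false), (1, true), (0, false), (1, false)]))) (.leaf ([])))) (.node (.node (.node (.leaf ([])) (.leaf ([]))) (.leaf ([(1, false), (0, true), (1, true), (0, true), (1, false), (0, true), (1, true), (1, true), (0, true), (1, true), (0, true), (1, true)]))) (.node (.leaf ([])) (.leaf ([]))))) (.node (.node (.node (.node (.leaf ([])) (.leaf ([(0, true), (1, false), (1, false), (0, true), (1, true), (0, false), (1, false), (0, true), (1, true), (0, false), (1, true), (1, true)]))) (.leaf ([]))) (.node (.leaf ([])) (.leaf ([(0, false), (1, false), (1,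 false), (0, false), (1, true), (0, true), (1, false), (0, true), (1, false), (1, false)])))) (.node (.node (.node (.leaf ([])) (.leaf ([(0, true), (1, true), (0, false), (1, true), (1, true), (0, true), (1, true), (0, true), (1, false)]))) (.leaf ([]))) (.node (.leaf ([])) (.leaf ([(0, false), (1, true), (0, false), (1, true), (0, false), (1, true), (0, true), (1, false), (0, false), (1, false), (0, true)])))))) (.node (.node (.node (.node (.node (.leaf ([])) (.leaf ([]))) (.leaf ([(0, true), (1, true), (0, false), (1, true), (1, true), (0, true), (1, false), (0, true), (1, true), (1, true), (0, false)]))) (.node (.leaf ([])) (.leaf ([])))) (.node (.node (.node (.leaf ([])) (.leaf ([]))) (.leaf ([]))) (.node (.leaf ([])) (.leaf ([]))))) (.node (.node (.node (.node (.leaf ([])) (.leaf ([(1, false), (1, false), (0, true), (1, false), (0, false), (1, true), (0, true), (1, false), (0, false), (1, true), (1, true), (0, false)])))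 (.leaf ([]))) (.node (.leaf ([])) (.leaf ([])))) (.node (.node (.node (.leaf ([])) (.leaf ([]))) (.leaf ([(1, false), (0, false), (1, false), (0, false), (1, false), (1, false), (0, false), (1, true), (0, false), (1, false), (0, false), (1, true)]))) (.node (.leaf ([])) (.leaf ([]))))))) (.node (.node (.node (.node (.node (.node (.leaf ([])) (.leaf ([]))) (.leaf ([]))) (.node (.leaf ([])) (.leaf ([])))) (.node (.node (.node (.leaf ([])) (.leaf ([]))) (.leaf ([]))) (.node (.leaf ([])) (.leaf ([]))))) (.node (.node (.node (.node (.leaf ([])) (.leaf ([(0, false), (1, false), (0, false), (1, true), (0, true), (1, true), (1, true), (0, false), (1, false)]))) (.leaf ([(0, true), (1, false), (0, false), (1, false), (0, true), (1, false), (0, true), (1, false), (0, false)]))) (.node (.leaf ([])) (.leaf ([])))) (.node (.node (.node (.leaf ([])) (.leaf ([]))) (.leaf ([]))) (.node (.leaf ([])) (.leaf ([])))))) (.node (.node (.node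 (.node (.node (.leaf ([])) (.leaf ([]))) (.leaf ([]))) (.node (.leaf ([])) (.leaf ([(0, false), (1, true), (0, true), (1, true), (1, true), (0, true), (1, false), (0, true), (1, false), (0, false)])))) (.node (.node (.node (.leaf ([])) (.leaf ([]))) (.leaf ([]))) (.node (.leaf ([])) (.leaf ([]))))) (.node (.node (.node (.node (.leaf ([])) (.leaf ([(0, false), (1, true), (0, true), (1, false), (0, false), (1, false), (0, true), (1, false), (0, true), (1, false), (0, false)]))) (.leaf ([]))) (.node (.leaf ([])) (.leaf ([])))) (.node (.node (.node (.leaf ([])) (.leaf ([(1, true), (0, true), (1, false), (0, true), (1, true), (0, true), (1, true), (0, true), (1, true), (0, true), (1, false)]))) (.leaf ([]))) (.node (.leaf ([])) (.leaf ([])))))))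

/-- data -/
def lab0_1000 : Trie (Word) := .node (.node (.node (.node (.node (.node (.leaf ([])) (.leaf ([]))) (.leaf ([]))) (.node (.node (.leaf ([])) (.leaf ([(0, false), (1, false), (0, false), (1, true), (0, false), (1, true), (0, false), (1, false), (0, true)]))) (.leaf ([])))) (.node (.node (.node (.leaf ([(0, false)])) (.leaf ([(1, true), (1, true), (0, false), (1, true), (0, true), (1, true), (0, false), (1, false), (0, true)]))) (.leaf ([]))) (.node (.leaf ([])) (.leaf ([]))))) (.node (.node (.node (.node (.leaf ([])) (.leaf ([(0, false), (1, true), (0, false), (1, true), (0, true), (1, false), (0, false), (1, true), (0, true), (1, true), (0, false)]))) (.leaf ([]))) (.node (.leaf ([])) (.leaf ([])))) (.node (.node (.node (.leaf ([])) (.leaf ([]))) (.leaf ([]))) (.node (.leaf ([(0, true), (1, false), (0, true), (1, true), (0, true), (1, true), (0, false), (1, false), (0, true), (1, false), (0, true)])) (.leaf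 ([])))))) (.node (.node (.node (.node (.node (.leaf ([])) (.leaf ([]))) (.leaf ([]))) (.node (.leaf ([])) (.leaf ([])))) (.node (.node (.node (.leaf ([])) (.leaf ([(0, false), (1, false), (0, true), (1, true), (0, true), (1, false), (0, false), (1, false), (0, true), (1, true)]))) (.leaf ([]))) (.node (.leaf ([])) (.leaf ([(0, true), (1, false), (0, false), (1, false), (0, true), (1, true), (0, true), (1, true), (1, true)]))))) (.node (.node (.node (.node (.leaf ([])) (.leaf ([]))) (.leaf ([(1, true), (0, false), (1, true), (0, false), (1, false), (0, false), (1, false)]))) (.node (.leaf ([])) (.leaf ([])))) (.node (.node (.node (.leaf ([])) (.leaf ([]))) (.leaf ([(1, false), (0, false), (1, true), (0, false), (1, false), (1, false), (0, false), (1, false), (0, true), (1, true), (0, true)]))) (.node (.leaf ([])) (.leaf ([(0, false), (1, true), (0, true), (1, true), (0, false), (1, false), (0, false), (1, true), (0, true),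 (1, true)]))))))

/-- data -/
def lab0_1001 : Trie (Word) := .node (.node (.node (.node (.node (.node (.leaf ([])) (.leaf ([]))) (.leaf ([(0, false), (1, true), (0, false), (1, true), (0, true), (1, false), (0, false), (1, false), (0, false), (1, true), (0, true)]))) (.node (.leaf ([])) (.leaf ([])))) (.node (.node (.node (.leaf ([])) (.leaf ([]))) (.leaf ([(1, true), (0, true), (1, false), (0, true), (1, true), (0, true), (1, true), (0, false), (1, false), (0, false), (1, true), (0, true)]))) (.node (.leaf ([])) (.leaf ([(1, false), (1, false), (0, true), (1, true), (1, true), (0, true), (1, false), (0, true), (1, true), (0, true)]))))) (.node (.node (.node (.node (.leaf ([])) (.leaf ([(0, true), (1, false), (0, true), (1, true), (0, false), (1, false), (1, false)]))) (.leaf ([(0, true), (1, false), (0, true), (1, false), (0, false), (1, false), (0, false), (1, true), (0, false), (1, true)]))) (.node (.leaf ([])) (.leaf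 ([(0, true), (1, false), (0, false), (1, false), (0, true), (1, false), (0, false), (1, true), (0, false), (1, false), (0, true)])))) (.node (.node (.node (.leaf ([])) (.leaf ([]))) (.leaf ([]))) (.node (.leaf ([])) (.leaf ([])))))) (.node (.node (.node (.node (.node (.leaf ([(0, true)])) (.leaf ([(0, false), (1, true), (0, false), (1, true), (0, false), (1, true), (0, true), (1, false), (0, false), (1, false), (0, true), (1, true)]))) (.leaf ([]))) (.node (.leaf ([])) (.leaf ([])))) (.node (.node (.node (.leaf ([])) (.leaf ([(0, true), (1, false), (0, true), (1, true), (0, false), (1, false), (0, false), (1, true), (0, true), (1, true), (0, false)]))) (.leaf ([(1, false), (0, false), (1, true), (0, false), (1, false), (0, true), (1, true), (1, true), (0, true), (1, true)]))) (.node (.leaf ([])) (.leaf ([(0, true), (1, true), (0, false), (1, true), (0, false), (1, false), (1, false), (0, false), (1, true), (0, true), (1,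 true), (0, true)]))))) (.node (.node (.node (.node (.leaf ([])) (.leaf ([]))) (.leaf ([]))) (.node (.leaf ([])) (.leaf ([])))) (.node (.node (.node (.leaf ([])) (.leaf ([]))) (.leaf ([(0, true), (1, true), (0, true), (1, true), (1, true), (0, false), (1, true), (0, false)]))) (.node (.leaf ([(0, false), (1, false), (0, false), (1, true), (0, true), (1, false), (0, true), (1, true), (1, true), (0, true), (1, true), (0, true)])) (.leaf ([(0, true), (1, true), (0, false), (1, false), (1, false), (0, false), (1, false), (0, false), (1, false), (0, false), (1, true), (0, true)]))))))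

/-- data -/
def lab0_1010 : Trie (Word) := .node (.node (.node (.node (.node (.node (.leaf ([])) (.leaf ([]))) (.leaf ([]))) (.node (.node (.leaf ([])) (.leaf ([(1, false), (1, false), (0, false), (1, false), (0, false), (1, false), (0, false), (1, true), (0, true), (1, false), (0, true)]))) (.leaf ([])))) (.node (.node (.node (.leaf ([])) (.leaf ([(1, false), (0, true), (1, false)]))) (.leaf ([]))) (.node (.leaf ([])) (.leaf ([]))))) (.node (.node (.node (.node (.leaf ([])) (.leaf ([(1, false), (0, false), (1, true), (0, true), (1, true), (0, true), (1, false), (0, false), (1, true), (1, true), (0, false)]))) (.leaf ([]))) (.node (.leaf ([])) (.leaf ([])))) (.node (.node (.node (.leaf ([])) (.leaf ([(1, true), (0, true), (1, true), (1, true), (0, true), (1, true), (1, true), (0, true), (1, false), (0, false), (1, false), (0, false)]))) (.leaf ([(0, true), (1, true), (0, true), (1, true), (0, true), (1, false), (0, false),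 (1, true), (0, false), (1, false), (1, false), (0, false)]))) (.node (.leaf ([])) (.leaf ([])))))) (.node (.node (.node (.node (.node (.leaf ([])) (.leaf ([]))) (.leaf ([]))) (.node (.leaf ([])) (.leaf ([])))) (.node (.node (.node (.leaf ([])) (.leaf ([(1, true), (1, true), (0, true), (1, false), (0, false), (1, true), (0, false)]))) (.leaf ([(0, false), (1, true), (1, true), (0, true), (1, true), (0, true), (1, true), (0, true), (1, false), (1, false), (0, false)]))) (.node (.leaf ([])) (.leaf ([(1, true), (0, false), (1, true), (0, true), (1, true), (0, false), (1, true), (0, true), (1, true), (0, true)]))))) (.node (.node (.node (.node (.leaf ([])) (.leaf ([]))) (.leaf ([]))) (.node (.leaf ([])) (.leaf ([(1, true), (1, true), (0, true), (1, true), (0, true), (1, true), (0, true), (1, false), (0, true)])))) (.node (.node (.node (.leaf ([])) (.leaf ([(1, true), (0, false), (1, false), (0, false), (1, false), (0, false),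 (1, true), (0, true), (1, true), (1, true), (0, false)]))) (.leaf ([]))) (.node (.leaf ([(1, true), (1, true), (0, false), (1, true), (0, true), (1, true), (1, true), (0, false), (1, false), (0, true), (1, false)])) (.leaf ([(0, false), (1, false), (0, false), (1, false), (1, false), (0, false), (1, true), (0, true), (1, true)]))))))

/-- data -/
def lab0_1011 : Trie (Word) := .node (.node (.node (.node (.node (.node (.leaf ([])) (.leaf ([]))) (.leaf ([]))) (.node (.leaf ([])) (.leaf ([])))) (.node (.node (.node (.leaf ([])) (.leaf ([]))) (.leaf ([]))) (.node (.leaf ([])) (.leaf ([(0, true), (1, true), (0, true), (1, true), (0, true), (1, true), (0, false), (1, false), (0, true), (1, false), (0, true)]))))) (.node (.node (.node (.node (.leaf ([])) (.leaf ([(0, true), (1, true), (0, false), (1, true), (0, false), (1, true), (0, true), (1, false), (0, true)]))) (.leaf ([]))) (.node (.leaf ([])) (.leaf ([])))) (.node (.node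 (.node (.leaf ([])) (.leaf ([(0, true), (1, true), (0, true), (1, true), (0, false), (1, true), (1, true), (0, true), (1, true), (0, false), (1, true)]))) (.leaf ([(0, false), (1, false), (0, false), (1, false), (0, true), (1, false), (0, false), (1, false), (1, false), (0, false), (1, false), (1, false), (0, true)]))) (.node (.leaf ([])) (.leaf ([])))))) (.node (.node (.node (.node (.node (.leaf ([])) (.leaf ([(1, true), (1, true), (0, false), (1, false), (0, true), (1, true), (0, true), (1, false), (1, false), (0, false)]))) (.leaf ([]))) (.node (.leaf ([])) (.leaf ([])))) (.node (.node (.node (.leaf ([])) (.leaf ([(1, true), (1, true), (0, true), (1, false), (0, true), (1, true), (0, true), (1, false), (0, true), (1, true), (1, true), (0, true)]))) (.leaf ([]))) (.node (.leaf ([])) (.leaf ([(0, false), (1, false), (1, false), (0, false), (1, false), (0, false), (1, false), (0, true), (1, false)]))))) (.node (.node (.node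 (.node (.leaf ([])) (.leaf ([(1, true), (0, true), (1, true), (0, false), (1, true), (0, true), (1, true), (0, false), (1, false), (1, false)]))) (.leaf ([]))) (.node (.leaf ([])) (.leaf ([(0, false), (1, false), (0, true), (1, true), (1, true), (0, true), (1, true), (0, true), (1, true), (0, false), (1, true), (0, false)])))) (.node (.node (.node (.leaf ([])) (.leaf ([(0, true), (1, true), (0, false), (1, true), (1, true), (0, true), (1, false), (0, false), (1, false), (1, false), (0, true)]))) (.leaf ([]))) (.node (.leaf ([])) (.leaf ([(0, false), (1, true), (0, false), (1, true), (0, false), (1, false), (1, false), (0, false), (1, false), (0, false), (1, true)]))))))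

/-- data -/
def lab0_1100 : Trie (Word) := .node (.node (.node (.node (.node (.node (.leaf ([])) (.leaf ([]))) (.leaf ([(0, true), (1, true), (0, true), (1, false), (1, false), (0, false), (1, false), (0, false), (1, false), (0, true), (1, true)]))) (.node (.node (.leaf ([])) (.leaf ([(1, true), (1, true), (0, true), (1, false), (0, true), (1, true), (0, false), (1, false), (0, false), (1, true)]))) (.leaf ([])))) (.node (.node (.node (.leaf ([])) (.leaf ([]))) (.leaf ([]))) (.node (.leaf ([])) (.leaf ([]))))) (.node (.node (.node (.node (.leaf ([])) (.leaf ([]))) (.leaf ([]))) (.node (.leaf ([])) (.leaf ([])))) (.node (.node (.node (.leaf ([])) (.leaf ([]))) (.leaf ([(0, true), (1, true), (0, false), (1, false), (0, false), (1, true), (0, false), (1, true), (1, true), (0, true)]))) (.node (.leaf ([(0, false), (1, false), (0, true), (1, true), (0, true), (1, true), (0, false), (1, false), (0, true), (1, false), (0, true)]))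 (.leaf ([])))))) (.node (.node (.node (.node (.node (.leaf ([])) (.leaf ([(0, true), (1, false), (0, true), (1, true), (0, false), (1, true), (0, true), (1, true), (0, false)]))) (.leaf ([]))) (.node (.leaf ([])) (.leaf ([])))) (.node (.node (.node (.leaf ([])) (.leaf ([]))) (.leaf ([]))) (.node (.leaf ([(1, false), (0, true), (1, false), (0, true), (1, true), (0, true), (1, true), (0, false), (1, true), (0, false)])) (.leaf ([]))))) (.node (.node (.node (.node (.leaf ([])) (.leaf ([(0, true), (1, true), (0, true), (1, true), (1, true), (0, false), (1, true), (0, false), (1, true)]))) (.leaf ([]))) (.node (.leaf ([(0, false), (1, true), (0, false), (1, true), (0, true), (1, false), (0, false), (1, false), (0, false), (1, true), (0, false)])) (.leaf ([(1, true), (0, false), (1, true), (0, true), (1, true), (0, true), (1, true), (1, true), (0, true)])))) (.node (.node (.node (.leaf ([])) (.leaf ([(1, true), (0, true), (1,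 false), (0, true), (1, true), (0, false), (1, true)]))) (.leaf ([(0, true), (1, false), (0, false), (1, false), (0, false), (1, false), (0, true), (1, false), (0, false), (1, false), (0, true)]))) (.node (.leaf ([])) (.leaf ([]))))))

/-- data -/
def lab0_1101 : Trie (Word) := .node (.node (.node (.node (.node (.node (.leaf ([])) (.leaf ([(1, false), (0, false), (1, false), (0, false), (1, true), (1, true), (0, true), (1, false), (0, true), (1, true), (0, true), (1, true), (0, true)]))) (.leaf ([]))) (.node (.leaf ([])) (.leaf ([])))) (.node (.node (.node (.leaf ([])) (.leaf ([]))) (.leaf ([(0, false), (1, false), (0, false), (1, true), (1, true), (0, true), (1, true), (0, true), (1, true), (0, true), (1, false)]))) (.node (.leaf ([])) (.leaf ([]))))) (.node (.node (.node (.node (.leaf ([])) (.leaf ([]))) (.leaf ([]))) (.node (.leaf ([(1, false), (0, false), (1, true), (0, true), (1, true), (0, false), (1, false), (0,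 true), (1, false), (0, true), (1, false), (0, true)])) (.leaf ([(0, true), (1, false), (0, false), (1, false), (0, true), (1, true), (0, false), (1, false), (0, true), (1, false), (0, true)])))) (.node (.node (.node (.leaf ([(1, true), (0, false), (1, true), (0, true), (1, false), (1, false), (0, false), (1, false), (0, true), (1, false), (1, false)])) (.leaf ([(1, false), (0, true), (1, false), (0, false), (1, true), (0, false), (1, false)]))) (.leaf ([(0, true), (1, true), (0, false), (1, false), (1, false), (0, false), (1, false), (0, false), (1, false), (0, false), (1, true), (0, true)]))) (.node (.leaf ([])) (.leaf ([(0, false), (1, true), (0, true), (1, false), (0, false), (1, false), (0, true), (1, false), (0, true), (1, false), (0, false)])))))) (.node (.node (.node (.node (.node (.leaf ([])) (.leaf ([(0, false), (1, true), (0, false), (1, true), (0, false), (1, true), (0, true), (1, false), (0, false), (1, false),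 (0, true), (1, true)]))) (.leaf ([]))) (.node (.leaf ([])) (.leaf ([])))) (.node (.node (.node (.leaf ([])) (.leaf ([(0, false), (1, false), (1, false), (0, false), (1, false), (0, true), (1, false), (0, true), (1, true), (1, true), (0, false), (1, true), (0, true)]))) (.leaf ([(1, true), (1, true), (0, false), (1, false), (0, false), (1, true), (0, false), (1, true), (0, false), (1, false)]))) (.node (.leaf ([(1, false), (1, false), (0, false), (1, true), (0, true), (1, true), (0, false), (1, false), (0, false), (1, true), (0, true)])) (.leaf ([]))))) (.node (.node (.node (.node (.leaf ([])) (.leaf ([]))) (.leaf ([]))) (.node (.leaf ([])) (.leaf ([])))) (.node (.node (.node (.leaf ([])) (.leaf ([(0, true), (1, true), (1, true), (0, false), (1, false), (0, false), (1, false), (0, false), (1, false), (1, false), (0, true)]))) (.leaf ([(0, true), (1, false), (0, false), (1, false), (0, true), (1, true), (0, false), (1, false),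 (0, false), (1, true), (0, true)]))) (.node (.leaf ([])) (.leaf ([(1, false), (1, false), (0, false), (1, false), (0, false), (1, true), (0, true), (1, true), (0, false)]))))))

/-- data -/
def lab0_1110 : Trie (Word) := .node (.node (.node (.node (.node (.node (.leaf ([])) (.leaf ([]))) (.leaf ([]))) (.node (.node (.leaf ([])) (.leaf ([(0, true), (1, false), (0, false), (1, false), (0, true), (1, true), (0, true), (1, true), (0, false), (1, false), (0, false)]))) (.leaf ([(0, false), (1, true), (1, true), (0, true), (1, true), (1, true), (0, true), (1, true), (0, false), (1, true), (0, true), (1, true), (0, true)])))) (.node (.node (.node (.leaf ([])) (.leaf ([(0, false), (1, false), (0, true), (1, true), (0, true), (1, true), (0, true), (1, false), (0, false), (1, false)]))) (.leaf ([]))) (.node (.leaf ([])) (.leaf ([]))))) (.node (.node (.node (.node (.leaf ([])) (.leaf ([(1, true), (1, true), (0, false), (1, true),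 (0, false), (1, false)]))) (.leaf ([]))) (.node (.leaf ([])) (.leaf ([])))) (.node (.node (.node (.leaf ([])) (.leaf ([(1, false), (0, false), (1, false), (0, true), (1, false), (0, true), (1, true), (1, true), (0, false), (1, true), (0, false), (1, false), (0, true)]))) (.leaf ([]))) (.node (.leaf ([])) (.leaf ([(1, false), (0, true), (1, true), (0, false), (1, true), (0, false), (1, true), (1, true), (0, true), (1, true), (0, true)])))))) (.node (.node (.node (.node (.node (.leaf ([])) (.leaf ([]))) (.leaf ([]))) (.node (.leaf ([])) (.leaf ([])))) (.node (.node (.node (.leaf ([])) (.leaf ([(1, false), (0, true), (1, true), (0, true), (1, false), (0, true), (1, true), (1, true), (0, true), (1, true), (0, true), (1, true)]))) (.leaf ([(1, true), (1, true), (0, false), (1, true), (0, true), (1, false), (0, false), (1, true), (1, true), (0, false)]))) (.node (.leaf ([])) (.leaf ([(1, false), (0, false), (1, false), (0, false),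 (1, false), (1, false), (0, false), (1, true), (0, false), (1, false), (0, false), (1, true)]))))) (.node (.node (.node (.node (.leaf ([])) (.leaf ([(1, true), (0, false), (1, true), (0, false), (1, false), (1, false), (0, false), (1, true), (0, true), (1, false), (0, false), (1, false)]))) (.leaf ([]))) (.node (.leaf ([])) (.leaf ([(0, true), (1, false), (0, true), (1, true), (0, true), (1, true), (1, true), (0, false), (1, true), (0, false), (1, true)])))) (.node (.node (.node (.leaf ([])) (.leaf ([(0, false), (1, false), (0, false), (1, true), (1, true), (0, true), (1, true), (1, true), (0, true), (1, true), (0, false), (1, true)]))) (.leaf ([]))) (.node (.leaf ([])) (.leaf ([(1, false), (0, true), (1, false), (0, false), (1, true), (0, false), (1, true)]))))))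

/-- data -/
def lab0_1111 : Trie (Word) := .node (.node (.node (.node (.node (.node (.leaf ([])) (.leaf ([(0, false), (1, true), (1, true), (0, true), (1, false), (0, false), (1, false), (0, true), (1, false), (0, false), (1, true), (0, true)]))) (.leaf ([]))) (.node (.leaf ([])) (.leaf ([])))) (.node (.node (.node (.leaf ([])) (.leaf ([(0, true), (1, false), (1, false), (0, true), (1, true), (0, false), (1, false), (0, false), (1, false), (0, true), (1, true)]))) (.leaf ([(0, true), (1, false), (0, true), (1, false), (0, false), (1, false), (0, false), (1, false), (1, false), (0, false), (1, true), (0, true)]))) (.node (.leaf ([])) (.leaf ([]))))) (.node (.node (.node (.node (.leaf ([])) (.leaf ([(1, true), (0, true), (1, false), (0, false), (1, true), (0, false), (1, false), (0, true)]))) (.leaf ([]))) (.node (.leaf ([])) (.leaf ([])))) (.node (.node (.node (.leaf ([])) (.leaf ([(1, true), (1, true), (0, false), (1,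 true), (0, true), (1, false), (1, false), (0, false), (1, false), (0, true), (1, true), (0, true)]))) (.leaf ([]))) (.node (.leaf ([])) (.leaf ([(0, true), (1, false), (0, true), (1, false), (0, false), (1, false), (0, false), (1, true), (0, false), (1, true)])))))) (.node (.node (.node (.node (.node (.leaf ([])) (.leaf ([(0, false), (1, false), (0, false), (1, true), (0, true), (1, true), (1, true), (0, true), (1, false), (0, true), (1, true)]))) (.leaf ([]))) (.node (.leaf ([])) (.leaf ([(1, true), (0, true), (1, true), (0, false), (1, false), (0, true), (1, true), (1, true), (0, true), (1, false), (0, true), (1, false)])))) (.node (.node (.node (.leaf ([])) (.leaf ([(0, true), (1, true), (0, false), (1, false), (0, false), (1, false), (1, false), (0, false), (1, false), (1, false), (0, false)]))) (.leaf ([]))) (.node (.leaf ([])) (.leaf ([]))))) (.node (.node (.node (.node (.leaf ([])) (.leaf ([(1, false), (0, true),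 (1, true), (0, false), (1, false), (0, true), (1, false), (0, true), (1, true), (0, true)]))) (.leaf ([]))) (.node (.leaf ([])) (.leaf ([(0, false), (1, false), (1, false), (0, false), (1, true), (0, true), (1, true), (1, true), (0, true), (1, true), (0, false), (1, true)])))) (.node (.node (.node (.leaf ([])) (.leaf ([(1, true), (0, true), (1, false), (1, false), (0, false), (1, false), (0, true), (1, false), (1, false)]))) (.leaf ([(0, true), (1, true), (1, true), (0, false), (1, false), (0, false), (1, true), (0, true), (1, false), (1, false)]))) (.node (.leaf ([])) (.leaf ([(0, false), (1, true), (0, false), (1, false), (0, true), (1, false), (0, true), (1, false), (0, false)]))))))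

/-- data -/
def lab0 : Trie (Word) := .node (.node (.node (lab0_000) (lab0_001)) (.node (lab0_010) (lab0_011))) (.node (.node (.node (lab0_1000) (lab0_1001)) (.node (lab0_1010) (lab0_1011))) (.node (.node (lab0_1100) (lab0_1101)) (.node (lab0_1110) (lab0_1111))))

/-- data -/
def val0_00000 : Trie (Vec) := .node (.node (.node (.node (.node (.leaf ([])) (.leaf ([0, 0, 0, 0, 0, 0, 0, 0, 0, 0, 0, 0, 0, 0, 0, 0, 0, 0, 0, 0, 0, 0, 0, 0, 0, 0, 0, 0, 0, 0, 0, 1]))) (.leaf ([]))) (.node (.node (.leaf ([])) (.leaf ([(-1715), (-1945), 818, (-2729), 6314, (-1297), 1535, 1, 0, (-2435), (-1189), (-138), (-504), 0, 0, 0, (-1653), 1873, 0, 0, 0, 0, 0, 0, 0, 1543, (-2073), (-2146), (-2357), 1964, 2088, (-147), 191, 75, 12, (-76), (-138), 91, 15, (-31), 3, 28, (-16), 12, (-73), (-14), 12, (-1), 44, 6]))) (.leaf ([])))) (.node (.node (.node (.leaf ([])) (.leaf ([0, 0, 0, 0, 0, 0, 0, 0, 0, 0, 0, 0, 0, 0, 0, 0, 0, 0, 0, 0, 0, 0, 0, 0, 0,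 0, 0, 0, 0, 0, 0, 1]))) (.leaf ([0, 0, 0, 0, 0, 0, 0, 0, 0, 0, 0, 0, 0, 0, 0, 0, 0, 0, 0, 0, 0, 0, 0, 0, 0, 0, 0, 0, 0, 0, 0, 1]))) (.node (.leaf ([0, 0, 0, 0, 0, 0, 0, 0, 0, 0, 0, 0, 0, 0, 0, 0, 0, 0, 0, 0, 0, 0, 0, 0, 0, 0, 0, 0, 0, 0, 0, 1])) (.leaf ([0, 0, 0, 0, 0, 0, 0, 0, 0, 0, 0, 0, 0, 0, 0, 0, 0, 0, 0, 0, 0, 0, 0, 0, 0, 0, 0, 0, 0, 0, 0, 1]))))) (.node (.node (.node (.node (.leaf ([])) (.leaf ([]))) (.leaf ([0, 0, 0, 0, 0, 0, 0, 0, 0, 0, 0, 0, 0, 0, 0, 0, 0, 0, 0, 0, 0, 0, 0, 0, 0, 0, 0, 0, 0, 0, 0, 1]))) (.node (.leaf ([0, 0, 0, 0, 0, 0, 0, 0, 0, 0, 0, 0, 0, 0, 0, 0, 0, 0, 0, 0, 0, 0, 0, 0, 0, 0, 0, 0, 0, 0, 0, 1])) (.leaf ([])))) (.node (.node (.node (.leaf ([])) (.leaf ([]))) (.leaf ([528, 707, (-403), 1212, (-1879), 95, (-394), 23, 0, 740, 562, (-3), 137, 0, 0, 0, 577, (-685), 0, 0, 0, 0, 0, 0, 0, (-553), 687, 719, 811, (-693), (-718), 45, (-68), (-40), (-7), 31, 45, (-31), (-6), 9, (-3), (-10), 7, 1, 29, 4,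 (-2), 2, (-23), (-3)]))) (.node (.leaf ([0, 0, 0, 0, 0, 0, 0, 0, 0, 0, 0, 0, 0, 0, 0, 0, 0, 0, 0, 0, 0, 0, 0, 0, 0, 0, 0, 0, 0, 0, 0, 0, 0, 0, 0, 0, 0, 0, 0, 0, 1])) (.leaf ([0, 0, 0, 0, 0, 0, 0, 0, 0, 0, 0, 0, 0, 0, 0, 0, 0, 0, 0, 0, 0, 0, 0, 0, 0, 0, 0, 0, 0, 0, 0, 1])))))

/-- data -/
def val0_00001 : Trie (Vec) := .node (.node (.node (.node (.node (.leaf ([])) (.leaf ([]))) (.leaf ([11, 53, 56, (-176), 69, (-30), (-60), (-42), 0, (-124), (-18), 3, 14, 0, 0, 0, (-61), 54, 0, 0, 0, 0, 0, 0, 0, 40, (-27), (-61), (-104), 51, 105, 7, 9, 21, 2, (-1), 2, 0, (-1), 0, 1, (-2), (-1), (-6), (-6), 0, (-5), (-2), 2]))) (.node (.leaf ([0, 0, 0, 0, 0, 0, 0, 0, 0, 0, 0, 0, 0, 0, 0, 0, 0, 0, 0, 0, 0, 0, 0, 0, 0, 0, 0, 0, 0, 0, 0, 1])) (.leaf ([0, 0, 0, 0, 0, 0, 0, 0, 0, 0, 0, 0, 0, 0, 0, 0, 0, 0, 0, 0, 0, 0, 0, 0, 0, 0, 0, 0, 0, 0, 0, 1])))) (.node (.node (.node (.leaf ([])) (.leaf ([0, 0, 0, 0, 0, 0, 0, 0, 0, 0, 0, 0, 0, 0, 0, 0,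 0, 0, 0, 0, 0, 0, 0, 0, 0, 0, 0, 0, 0, 0, 0, 1]))) (.leaf ([(-11), (-4), 1, (-5), 24, (-10), (-6), 2, 0, (-2), (-9), 1, (-4), 0, 0, 0, (-16), 7, 0, 0, 0, 0, 0, 0, 0, 0, 5, (-4), (-13), (-2), 13, (-2), 0, 0, 0, (-2), (-3), 1, 1, (-1), 0, 1, 0, 0, (-1), 0, 1, 1]))) (.node (.leaf ([0, 0, 0, 0, 0, 0, 0, 0, 0, 0, 0, 0, 0, 0, 0, 0, 0, 0, 0, 0, 0, 0, 0, 0, 0, 0, 0, 0, 0, 0, 0, 1, 0, 0, 0, 0, (-1)])) (.leaf ([]))))) (.node (.node (.node (.node (.leaf ([0, 0, 0, 0, 0, 0, 0, 0, 0, 0, 0, 0, 0, 0, 0, 0, 0, 0, 0, 0, 0, 0, 0, 0, 0, 0, 0, 0, 0, 0, 0, 1])) (.leaf ([0, 0, 0, 0, 0, 0, 0, 0, 0, 0, 0, 0, 0, 0, 0, 0, 0, 0, 0, 0, 0, 0, 0, 0, 0, 0, 0, 0, 0, 0, 0, 1]))) (.leaf ([0, 0, 0, 0, 0, 0, 0, 0, 0, 0, 0, 0, 0, 0, 0, 0, 0, 0, 0, 0, 0, 0, 0, 0, 0, 0, 0, 0, 0, 0, 0, 1]))) (.node (.leaf ([])) (.leaf ([0, 0, 0, 0, 0, 0, 0, 0, 0, 0, 0, 0, 0, 0, 0, 0, 0, 0, 0, 0, 0, 0, 0, 0, 0, 0, 0, 0, 0, 0, 0, 1, 0, 0, 0, 0, 0, (-1)])))) (.node (.node (.node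 (.leaf ([0, 0, 0, 0, 0, 0, 0, 0, 0, 0, 0, 0, 0, 0, 0, 0, 0, 0, 0, 0, 0, 0, 0, 0, 0, 0, 0, 0, 0, 0, 0, 1])) (.leaf ([(-380), (-549), 79, (-290), 1304, (-238), 257, 92, 0, (-406), (-161), (-92), (-161), 0, 0, 0, (-210), 290, 0, 0, 0, 0, 0, 0, 0, 269, (-370), (-377), (-357), 339, 341, (-42), 49, (-54), (-2), (-18), (-37), 21, 10, (-1), (-3), 11, (-1), 9, (-7), (-2), 9, 3, 13, 2]))) (.leaf ([0, 0, 0, 0, 0, 0, 0, 0, 0, 0, 0, 0, 0, 0, 0, 0, 0, 0, 0, 0, 0, 0, 0, 0, 0, 0, 0, 0, 0, 0, 0, 1]))) (.node (.leaf ([])) (.leaf ([(-644), (-1092), 651, (-1499), 2160, 205, 289, (-130), 0, (-327), (-802), 195, 48, 0, 0, 0, (-605), 594, 0, 0, 0, 0, 0, 0, 0, 557, (-580), (-621), (-823), 542, 735, (-4), (-86), 217, 22, (-34), (-27), 12, (-5), (-6), 6, 17, (-11), (-10), (-34), (-25), 0, (-22), (-9), (-18)])))))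

/-- data -/
def val0_0001 : Trie (Vec) := .node (.node (.node (.node (.node (.node (.leaf ([0, 0, 0, 0, 0, 0, 0, 0, 0, 0, 0, 0, 0, 0, 0, 0, 0, 0, 0, 0, 0, 0, 0, 0, 0, 0, 0, 0, 0, 0, 0, 1])) (.leaf ([73, 153, 6, 11, (-191), (-21), (-16), (-78), 0, (-57), 72, 23, (-21), 0, 0, 0, (-24), 19, 0, 0, 0, 0, 0, 0, 0, (-11), 8, 12, 7, (-9), (-20), (-3), 2, (-8), (-1), (-1), 0, 1, (-1), (-1), 1, 0, 0, 4, 2, 1, 2, 1, 3, 1]))) (.leaf ([(-33), (-25), (-16), 30, 153, (-89), 42, (-25), 0, (-79), 33, (-6), (-22), 0, 0, 0, (-46), 34, 0, 0, 0, 0, 0, 0, 0, 16, (-43), (-37), (-35), 23, 33, 0, 9, (-1), 0, 1, (-1), 0, 2, 0, (-2), (-1), 0, 0, 3, 0, 0, 2, (-2), 1]))) (.node (.leaf ([])) (.leaf ([0, 0, 0, 0, 0, 0, 0, 0, 0, 0, 0, 0, 0, 0, 0, 0, 0, 0, 0, 0, 0, 0, 0, 0, 0, 0, 0, 0, 0, 0, 0, 1])))) (.node (.node (.node (.leaf ([])) (.leaf ([]))) (.leaf ([]))) (.node (.leaf ([])) (.leaf ([]))))) (.node (.node (.node (.node (.leaf ([])) (.leaf ([0,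 0, 0, 0, 0, 0, 0, 0, 0, 0, 0, 0, 0, 0, 0, 0, 0, 0, 0, 0, 0, 0, 0, 0, 0, 0, 0, 0, 0, 0, 0, 1]))) (.leaf ([0, 0, 0, 0, 0, 0, 0, 0, 0, 0, 0, 0, 0, 0, 0, 0, 0, 0, 0, 0, 0, 0, 0, 0, 0, 0, 0, 0, 0, 0, 0, 1]))) (.node (.leaf ([])) (.leaf ([0, 0, 0, 0, 0, 0, 0, 0, 0, 0, 0, 0, 0, 0, 0, 0, 0, 0, 0, 0, 0, 0, 0, 0, 0, 0, 0, 0, 0, 0, 0, 1])))) (.node (.node (.node (.leaf ([])) (.leaf ([]))) (.leaf ([0, 0, 0, 0, 0, 0, 0, 0, 0, 0, 0, 0, 0, 0, 0, 0, 0, 0, 0, 0, 0, 0, 0, 0, 0, 0, 0, 0, 0, 0, 0, 0, 0, 0, 0, 0, 0, 1]))) (.node (.leaf ([0, 0, 0, 0, 0, 0, 0, 0, 0, 0, 0, 0, 0, 0, 0, 0, 0, 0, 0, 0, 0, 0, 0, 0, 0, 0, 0, 0, 0, 0, 0, 1])) (.leaf ([0, 0, 0, 0, 0, 0, 0, 0, 0, 0, 0, 0, 0, 0, 0, 0, 0, 0, 0, 0, 0, 0, 0, 0, 0, 0, 0, 0, 0, 0, 0, 1])))))) (.node (.node (.node (.node (.node (.leaf ([0, 0, 0, 0, 0, 0, 0, 0, 0, 0, 0, 0, 0, 0, 0, 0, 0, 0, 0, 0, 0, 0, 0, 0, 0, 0, 0, 0, 0, 0, 0, 1])) (.leaf ([(-133), 393, (-209), 113, 903, (-1037), 494, (-83),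 0, (-1159), 353, (-243), (-332), 0, 0, 0, (-416), 438, 0, 0, 0, 0, 0, 0, 0, 242, (-475), (-494), (-424), 464, 350, (-78), 215, (-200), (-15), (-9), (-47), 27, 18, (-9), (-3), 8, 2, 21, 10, 22, 22, 22, 29, 23]))) (.leaf ([0, 0, 0, 0, 0, 0, 0, 0, 0, 0, 0, 0, 0, 0, 0, 0, 0, 0, 0, 0, 0, 0, 0, 0, 0, 0, 0, 0, 0, 0, 0, 1]))) (.node (.leaf ([0, 0, 0, 0, 0, 0, 0, 0, 0, 0, 0, 0, 0, 0, 0, 0, 0, 0, 0, 0, 0, 0, 0, 0, 0, 0, 0, 0, 0, 0, 0, 1])) (.leaf ([8, 11, (-6), 24, (-49), 11, (-14), 7, 0, 36, 0, 1, 1, 0, 0, 0, 15, (-15), 0, 0, 0, 0, 0, 0, 0, (-17), 26, 21, 20, (-24), (-15), 0, (-1), 0, 0, 1])))) (.node (.node (.node (.leaf ([])) (.leaf ([0, 0, 0, 0, 0, 0, 0, 0, 0, 0, 0, 0, 0, 0, 0, 0, 0, 0, 0, 0, 0, 0, 0, 0, 0, 0, 0, 0, 0, 0, 0, 1]))) (.leaf ([0, 0, 0, 0, 0, 0, 0, 0, 0, 0, 0, 0, 0, 0, 0, 0, 0, 0, 0, 0, 0, 0, 0, 0, 0, 0, 0, 0, 0, 0, 0, 1]))) (.node (.leaf ([])) (.leaf ([0, 0, 0, 0, 0, 0, 0, 0, 0, 0, 0, 0, 0, 0, 0, 0, 0, 0, 0, 0,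 0, 0, 0, 0, 0, 0, 0, 0, 0, 0, 0, 1]))))) (.node (.node (.node (.node (.leaf ([])) (.leaf ([11, 0, (-16), 40, (-69), 34, 36, 1, 0, 37, (-14), 11, (-4), 0, 0, 0, 3, 2, 0, 0, 0, 0, 0, 0, 0, (-9), 4, 14, 22, (-12), (-32), (-3), (-1), (-3), (-1), 1, 1, 0, (-1), (-1), 1, 0, 1, 4, 2, 0, 1, 1, 1]))) (.leaf ([]))) (.node (.leaf ([0, 0, 0, 0, 0, 0, 0, 0, 0, 0, 0, 0, 0, 0, 0, 0, 0, 0, 0, 0, 0, 0, 0, 0, 0, 0, 0, 0, 0, 0, 0, 1])) (.leaf ([0, 0, 0, 0, 0, 0, 0, 0, 0, 0, 0, 0, 0, 0, 0, 0, 0, 0, 0, 0, 0, 0, 0, 0, 0, 0, 0, 0, 0, 0, 0, 1])))) (.node (.node (.node (.leaf ([0, 0, 0, 0, 0, 0, 0, 0, 0, 0, 0, 0, 0, 0, 0, 0, 0, 0, 0, 0, 0, 0, 0, 0, 0, 0, 0, 0, 0, 0, 0, 1])) (.leaf ([0, (-50), (-17), 22, (-11), 50, 15, 32, 0, 15, (-10), (-9), 7, 0, 0, 0, 9, (-4), 0, 0, 0, 0, 0, 0, 0, (-4), (-10), 3, 17, 1, (-15), 4, (-4), (-1), 0, 0, 0, 0, 1, 1, (-2), (-2), 0, (-2), 0, 0, (-2), 2]))) (.leaf ([]))) (.node (.leaf ([0, 0, 0, 0, 0, 0, 0, 0, 0, 0, 0,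 0, 0, 0, 0, 0, 0, 0, 0, 0, 0, 0, 0, 0, 0, 0, 0, 0, 0, 0, 0, 1])) (.leaf ([(-11), 0, 16, (-40), 69, (-34), (-36), (-1), 0, (-37), 14, (-11), 4, 0, 0, 0, (-3), (-2), 0, 0, 0, 0, 0, 0, 0, 9, (-4), (-14), (-22), 12, 32, 4, 1, 3, 1, (-1), (-1), 0, 1, 1, (-1), 0, (-1), (-4), (-2), 0, (-1), (-1), (-1)]))))))

/-- data -/
def val0_0010 : Trie (Vec) := .node (.node (.node (.node (.node (.node (.leaf ([])) (.leaf ([]))) (.leaf ([]))) (.node (.node (.leaf ([])) (.leaf ([0, 0, 0, 0, 0, 0, 0, 0, 0, 0, 0, 0, 0, 0, 0, 0, 0, 0, 0, 0, 0, 0, 0, 0, 0, 0, 0, 0, 0, 0, 0, 1]))) (.leaf ([])))) (.node (.node (.node (.leaf ([0, 0, 0, 0, 0, 0, 0, 0, 0, 0, 0, 0, 0, 0, 0, 0, 0, 0, 0, 0, 0, 0, 0, 0, 0, 0, 0, 0, 0, 0, 0, 1])) (.leaf ([0, 0, 0, 0, 0, 0, 0, 0, 0, 0, 0, 0, 0, 0, 0, 0, 0, 0, 0, 0, 0, 0, 0, 0, 0, 0, 0, 0, 0, 0, 0, 1]))) (.leaf ([0, 0, 0, 0, 0, 0, 0, 0, 0, 0, 0, 0, 0, 0, 0, 0, 0, 0, 0, 0, 0, 0, 0, 0, 0, 0, 0, 0, 0, 0, 0, 1]))) (.node (.leaf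 ([0, 0, 0, 0, 0, 0, 0, 0, 0, 0, 0, 0, 0, 0, 0, 0, 0, 0, 0, 0, 0, 0, 0, 0, 0, 0, 0, 0, 0, 0, 0, 1])) (.leaf ([0, 0, 0, 0, 0, 0, 0, 0, 0, 0, 0, 0, 0, 0, 0, 0, 0, 0, 0, 0, 0, 0, 0, 0, 0, 0, 0, 0, 0, 0, 0, 1]))))) (.node (.node (.node (.node (.leaf ([])) (.leaf ([0, 0, 0, 0, 0, 0, 0, 0, 0, 0, 0, 0, 0, 0, 0, 0, 0, 0, 0, 0, 0, 0, 0, 0, 0, 0, 0, 0, 0, 0, 0, 1]))) (.leaf ([(-11), (-19), (-61), 160, (-34), (-26), (-15), 56, 0, 105, 21, (-15), (-15), 0, 0, 0, 90, (-64), 0, 0, 0, 0, 0, 0, 0, (-41), 46, 50, 68, (-56), (-64), (-5), (-14), (-19), (-2), (-1), (-2), 4, 1, 1, 0, 2, 1, 6, 0, (-1), 1, 1, 2, (-3)]))) (.node (.leaf ([0, 0, 0, 0, 0, 0, 0, 0, 0, 0, 0, 0, 0, 0, 0, 0, 0, 0, 0, 0, 0, 0, 0, 0, 0, 0, 0, 0, 0, 0, 0, 1])) (.leaf ([15, 46, 18, (-33), (-23), (-16), 7, (-34), 0, (-43), 15, 10, (-8), 0, 0, 0, (-29), 26, 0, 0, 0, 0, 0, 0, 0, 13, (-12), (-13), (-18), 15, 12, (-1), (-1), 3, 0, (-1), 0, 1, (-1), (-1), 1, 0, 0, 2, 0, 1, 0,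 0, 2])))) (.node (.node (.node (.leaf ([0, 0, 0, 0, 0, 0, 0, 0, 0, 0, 0, 0, 0, 0, 0, 0, 0, 0, 0, 0, 0, 0, 0, 0, 0, 0, 0, 0, 0, 0, 0, 1])) (.leaf ([]))) (.leaf ([0, 0, 0, 0, 0, 0, 0, 0, 0, 0, 0, 0, 0, 0, 0, 0, 0, 0, 0, 0, 0, 0, 0, 0, 0, 0, 0, 0, 0, 0, 0, 1]))) (.node (.leaf ([])) (.leaf ([0, 0, 0, 0, 0, 0, 0, 0, 0, 0, 0, 0, 0, 0, 0, 0, 0, 0, 0, 0, 0, 0, 0, 0, 0, 0, 0, 0, 0, 0, 0, 1])))))) (.node (.node (.node (.node (.node (.leaf ([])) (.leaf ([0, 0, 0, 0, 0, 0, 0, 0, 0, 0, 0, 0, 0, 0, 0, 0, 0, 0, 0, 0, 0, 0, 0, 0, 0, 0, 0, 0, 0, 0, 0, 1]))) (.leaf ([0, 0, 0, 0, 0, 0, 0, 0, 0, 0, 0, 0, 0, 0, 0, 0, 0, 0, 0, 0, 0, 0, 0, 0, 0, 0, 0, 0, 0, 0, 0, 1]))) (.node (.leaf ([])) (.leaf ([0, 0, 0, 0, 0, 0, 0, 0, 0, 0, 0, 0, 0, 0, 0, 0, 0, 0, 0, 0, 0, 0, 0, 0, 0, 0, 0, 0, 0, 0, 0, 1])))) (.node (.node (.node (.leaf ([])) (.leaf ([0, 0, 0, 0, 0, 0, 0, 0, 0, 0, 0, 0, 0, 0, 0, 0, 0, 0, 0, 0, 0, 0, 0, 0, 0, 0, 0, 0, 0, 0, 0, 1]))) (.leaf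 ([]))) (.node (.leaf ([0, 0, 0, 0, 0, 0, 0, 0, 0, 0, 0, 0, 0, 0, 0, 0, 0, 0, 0, 0, 0, 0, 0, 0, 0, 0, 0, 0, 0, 0, 0, 1])) (.leaf ([]))))) (.node (.node (.node (.node (.leaf ([0, 0, 0, 0, 0, 0, 0, 0, 0, 0, 0, 0, 0, 0, 0, 0, 0, 0, 0, 0, 0, 0, 0, 0, 0, 0, 0, 0, 0, 0, 0, 1])) (.leaf ([0, 0, 0, 0, 0, 0, 0, 0, 0, 0, 0, 0, 0, 0, 0, 0, 0, 0, 0, 0, 0, 0, 0, 0, 0, 0, 0, 0, 0, 0, 0, 1]))) (.leaf ([0, 0, 0, 0, 0, 0, 0, 0, 0, 0, 0, 0, 0, 0, 0, 0, 0, 0, 0, 0, 0, 0, 0, 0, 0, 0, 0, 0, 0, 0, 0, 1]))) (.node (.leaf ([0, 0, 0, 0, 0, 0, 0, 0, 0, 0, 0, 0, 0, 0, 0, 0, 0, 0, 0, 0, 0, 0, 0, 0, 0, 0, 0, 0, 0, 0, 0, 1])) (.leaf ([0, 0, 0, 0, 0, 0, 0, 0, 0, 0, 0, 0, 0, 0, 0, 0, 0, 0, 0, 0, 0, 0, 0, 0, 0, 0, 0, 0, 0, 0, 0, 1])))) (.node (.node (.node (.leaf ([0, 0, 0, 0, 0, 0, 0, 0, 0, 0, 0, 0, 0, 0, 0, 0, 0, 0, 0, 0, 0, 0, 0, 0, 0, 0, 0, 0, 0, 0, 0, 1])) (.leaf ([12, 86, 165, (-293), 67, (-21), (-116), (-112), 0, (-104), (-7), 48, 23, 0, 0, 0, (-123),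 63, 0, 0, 0, 0, 0, 0, 0, 43, (-6), (-54), (-114), 23, 124, 4, 1, 35, 2, (-4), (-4), 1, 0, 2, 1, 2, (-1), (-4), (-4), 0, 0, (-3)]))) (.leaf ([0, 0, 0, 0, 0, 0, 0, 0, 0, 0, 0, 0, 0, 0, 0, 0, 0, 0, 0, 0, 0, 0, 0, 0, 0, 0, 0, 0, 0, 0, 0, 1, 1, 0, 0, (-1)]))) (.node (.leaf ([])) (.leaf ([(-233), 33, (-355), 431, 883, (-823), 389, 229, 0, (-580), 204, (-296), (-256), 0, 0, 0, (-15), 126, 0, 0, 0, 0, 0, 0, 0, 111, (-298), (-281), (-194), 291, 138, (-63), 161, (-179), (-14), (-5), (-31), 20, 10, (-11), (-3), 3, 3, 22, 10, 16, 16, 22, 23, 14]))))))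

/-- data -/
def val0_0011 : Trie (Vec) := .node (.node (.node (.node (.node (.node (.leaf ([0, 0, 0, 0, 0, 0, 0, 0, 0, 0, 0, 0, 0, 0, 0, 0, 0, 0, 0, 0, 0, 0, 0, 0, 0, 0, 0, 0, 0, 0, 0, 1])) (.leaf ([]))) (.leaf ([]))) (.node (.leaf ([0, 0, 0, 0, 0, 0, 0, 0, 0, 0, 0, 0, 0, 0, 0, 0, 0, 0, 0, 0, 0, 0, 0, 0, 0, 0, 0, 0, 0, 0, 0, 1])) (.leaf ([])))) (.node (.node (.node (.leaf ([0, 0, 0, 0, 0, 0, 0, 0, 0, 0, 0, 0, 0, 0, 0, 0, 0, 0, 0, 0, 0, 0, 0, 0, 0, 0, 0, 0, 0, 0, 0, 1])) (.leaf ([(-632), (-647), 346, (-968), 2550, (-724), 513, (-176), 0, (-1135), (-240), (-43), (-238), 0, 0, 0, (-753), 740, 0, 0, 0, 0, 0, 0, 0, 601, (-771), (-819), (-941), 720, 849, (-55), 56, 51, 7, (-31), (-48), 27, 3, (-14), 1, 16, (-5), 13, (-16), (-7), 13, 3, 10, (-2)]))) (.leaf ([0, 0, 0, 0, 0, 0, 0, 0, 0, 0, 0, 0, 0, 0, 0, 0, 0, 0, 0, 0, 0, 0, 0, 0, 0, 0, 0, 0, 0, 0, 0, 1]))) (.node (.leaf ([0, 0, 0, 0, 0, 0, 0, 0, 0, 0, 0, 0, 0, 0, 0, 0, 0, 0,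 0, 0, 0, 0, 0, 0, 0, 0, 0, 0, 0, 0, 0, 0, 0, 0, 0, 0, 1])) (.leaf ([]))))) (.node (.node (.node (.node (.leaf ([])) (.leaf ([0, 0, 0, 0, 0, 0, 0, 0, 0, 0, 0, 0, 0, 0, 0, 0, 0, 0, 0, 0, 0, 0, 0, 0, 0, 0, 0, 0, 0, 0, 0, 1]))) (.leaf ([]))) (.node (.leaf ([])) (.leaf ([24, (-56), (-36), 106, (-201), 147, (-55), 89, 0, 253, (-63), 12, 61, 0, 0, 0, 124, (-119), 0, 0, 0, 0, 0, 0, 0, (-65), 94, 108, 116, (-101), (-106), 15, (-38), 23, 1, 2, 9, (-4), (-2), 0, (-1), (-4), 0, (-3), (-1), (-2), (-6), 0, (-3), (-4)])))) (.node (.node (.node (.leaf ([0, 0, 0, 0, 0, 0, 0, 0, 0, 0, 0, 0, 0, 0, 0, 0, 0, 0, 0, 0, 0, 0, 0, 0, 0, 0, 0, 0, 0, 0, 0, 1])) (.leaf ([7, 41, 21, (-30), (-12), (-22), (-17), (-27), 0, (-12), 6, 8, (-4), 0, 0, 0, (-8), 3, 0, 0, 0, 0, 0, 0, 0, 3, 9, 0, (-14), 1, 9, (-3), 4, 1, 0, 0, 0, 0, (-1), (-1), 2, 2, 0, 2, 0, 0, 2, (-2)]))) (.leaf ([(-147), (-208), (-40), (-56), 412, (-54), 168, 71, 0, (-91), (-128), (-44), (-53),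 0, 0, 0, (-57), 104, 0, 0, 0, 0, 0, 0, 0, 78, (-141), (-121), (-130), 129, 80, (-13), 31, (-11), 0, (-4), (-6), 2, 0, (-6), 0, 2, (-1), 2, 1, 0, 4, 3, 2, 2]))) (.node (.leaf ([])) (.leaf ([0, 0, 0, 0, 0, 0, 0, 0, 0, 0, 0, 0, 0, 0, 0, 0, 0, 0, 0, 0, 0, 0, 0, 0, 0, 0, 0, 0, 0, 0, 0, 1])))))) (.node (.node (.node (.node (.node (.leaf ([0, 0, 0, 0, 0, 0, 0, 0, 0, 0, 0, 0, 0, 0, 0, 0, 0, 0, 0, 0, 0, 0, 0, 0, 0, 0, 0, 0, 0, 0, 0, 1])) (.leaf ([0, 0, 0, 0, 0, 0, 0, 0, 0, 0, 0, 0, 0, 0, 0, 0, 0, 0, 0, 0, 0, 0, 0, 0, 0, 0, 0, 0, 0, 0, 0, 1]))) (.leaf ([]))) (.node (.leaf ([0, 0, 0, 0, 0, 0, 0, 0, 0, 0, 0, 0, 0, 0, 0, 0, 0, 0, 0, 0, 0, 0, 0, 0, 0, 0, 0, 0, 0, 0, 0, 1])) (.leaf ([])))) (.node (.node (.node (.leaf ([0, 0, 0, 0, 0, 0, 0, 0, 0, 0, 0, 0, 0, 0, 0, 0, 0, 0, 0, 0, 0, 0, 0, 0, 0, 0, 0, 0, 0, 0, 0, 1])) (.leaf ([0, 0, 0, 0, 0, 0, 0, 0, 0, 0, 0, 0, 0, 0, 0, 0, 0, 0, 0, 0, 0, 0, 0, 0, 0, 0, 0, 0, 0, 0, 0, 1]))) (.leaf ([])))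 (.node (.leaf ([])) (.leaf ([0, 0, 0, 0, 0, 0, 0, 0, 0, 0, 0, 0, 0, 0, 0, 0, 0, 0, 0, 0, 0, 0, 0, 0, 0, 0, 0, 0, 0, 0, 0, 1]))))) (.node (.node (.node (.node (.leaf ([])) (.leaf ([0, 0, 0, 0, 0, 0, 0, 0, 0, 0, 0, 0, 0, 0, 0, 0, 0, 0, 0, 0, 0, 0, 0, 0, 0, 0, 0, 0, 0, 0, 0, 1, 0, 0, 0, 0, 0, 0, 0, 0, 0, 0, (-1)]))) (.leaf ([16, 2, 10, (-25), (-116), 82, (-43), 44, 0, 102, (-49), 2, 26, 0, 0, 0, 56, (-40), 0, 0, 0, 0, 0, 0, 0, (-17), 40, 37, 35, (-24), (-36), 1, (-9), 1, 0, (-1), 1, 0, (-2), 0, 2, 1, 0, 0, (-3), 0, 0, (-2), 2, (-1)]))) (.node (.leaf ([])) (.leaf ([])))) (.node (.node (.node (.leaf ([])) (.leaf ([0, 0, 0, 0, 0, 0, 0, 0, 0, 0, 0, 0, 0, 0, 0, 0, 0, 0, 0, 0, 0, 0, 0, 0, 0, 0, 0, 0, 0, 0, 0, 1]))) (.leaf ([]))) (.node (.leaf ([(-182), 1, 381, (-1178), 878, (-135), 387, (-123), 0, (-692), (-462), 27, 13, 0, 0, 0, (-563), 565, 0, 0, 0, 0, 0, 0, 0, 423, (-557), (-568), (-704), 557, 531, (-12), 74, 88, 10, (-16),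 (-13), 8, (-12), (-19), 8, 2, (-10), (-16), (-25), 0, 4, (-11), 3, 4])) (.leaf ([0, 0, 0, 0, 0, 0, 0, 0, 0, 0, 0, 0, 0, 0, 0, 0, 0, 0, 0, 0, 0, 0, 0, 0, 0, 0, 0, 0, 0, 0, 0, 1]))))))

/-- data -/
def val0_0100 : Trie (Vec) := .node (.node (.node (.node (.node (.node (.leaf ([0, 0, 0, 0, 0, 0, 0, 0, 0, 0, 0, 0, 0, 0, 0, 0, 0, 0, 0, 0, 0, 0, 0, 0, 0, 0, 0, 0, 0, 0, 0, 1])) (.leaf ([]))) (.leaf ([0, 0, 0, 0, 0, 0, 0, 0, 0, 0, 0, 0, 0, 0, 0, 0, 0, 0, 0, 0, 0, 0, 0, 0, 0, 0, 0, 0, 0, 0, 0, 1]))) (.node (.node (.leaf ([])) (.leaf ([0, 0, 0, 0, 0, 0, 0, 0, 0, 0, 0, 0, 0, 0, 0, 0, 0, 0, 0, 0, 0, 0, 0, 0, 0, 0, 0, 0, 0, 0, 0, 1]))) (.leaf ([0, 0, 0, 0, 0, 0, 0, 0, 0, 0, 0, 0, 0, 0, 0, 0, 0, 0, 0, 0, 0, 0, 0, 0, 0, 0, 0, 0, 0, 0, 0, 1])))) (.node (.node (.node (.leaf ([])) (.leaf ([0, 0, 0, 0, 0, 0, 0, 0, 0, 0, 0, 0, 0, 0, 0, 0, 0, 0, 0, 0, 0, 0, 0, 0, 0, 0, 0, 0, 0, 0, 0, 1]))) (.leaf ([0, 0, 0, 0, 0, 0, 0, 0, 0, 0, 0, 0, 0, 0,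 0, 0, 0, 0, 0, 0, 0, 0, 0, 0, 0, 0, 0, 0, 0, 0, 0, 0, 0, 0, 0, 0, 0, 0, 0, 0, 0, 0, 0, 0, 0, 0, 0, 1]))) (.node (.leaf ([])) (.leaf ([]))))) (.node (.node (.node (.node (.leaf ([0, 0, 0, 0, 0, 0, 0, 0, 0, 0, 0, 0, 0, 0, 0, 0, 0, 0, 0, 0, 0, 0, 0, 0, 0, 0, 0, 0, 0, 0, 0, 1])) (.leaf ([0, 0, 0, 0, 0, 0, 0, 0, 0, 0, 0, 0, 0, 0, 0, 0, 0, 0, 0, 0, 0, 0, 0, 0, 0, 0, 0, 0, 0, 0, 0, 1]))) (.leaf ([]))) (.node (.leaf ([])) (.leaf ([0, 0, 0, 0, 0, 0, 0, 0, 0, 0, 0, 0, 0, 0, 0, 0, 0, 0, 0, 0, 0, 0, 0, 0, 0, 0, 0, 0, 0, 0, 0, 1])))) (.node (.node (.node (.leaf ([0, 0, 0, 0, 0, 0, 0, 0, 0, 0, 0, 0, 0, 0, 0, 0, 0, 0, 0, 0, 0, 0, 0, 0, 0, 0, 0, 0, 0, 0, 0, 1])) (.leaf ([0, 0, 0, 0, 0, 0, 0, 0, 0, 0, 0, 0, 0, 0, 0, 0, 0, 0, 0, 0, 0, 0, 0, 0, 0, 0, 0, 0, 0, 0, 0, 1]))) (.leaf ([0, 0, 0, 0, 0, 0, 0, 0, 0, 0, 0, 0, 0, 0, 0, 0, 0, 0, 0, 0, 0, 0, 0, 0, 0, 0, 0, 0, 0, 0, 0, 1]))) (.node (.leaf ([0, 0, 0, 0, 0, 0, 0, 0, 0, 0, 0, 0, 0, 0, 0,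 0, 0, 0, 0, 0, 0, 0, 0, 0, 0, 0, 0, 0, 0, 0, 0, 1])) (.leaf ([(-16), (-69), (-27), 10, 8, 63, 45, 43, 0, 40, (-52), (-5), 12, 0, 0, 0, 20, 0, 0, 0, 0, 0, 0, 0, 0, 5, (-23), (-5), 7, 13, (-19), 3, (-1), 1, 0, 0, 1, 0, 0, 0, (-1), (-2), 0, 0, 0, 0, (-2), 1, 1])))))) (.node (.node (.node (.node (.node (.leaf ([0, 0, 0, 0, 0, 0, 0, 0, 0, 0, 0, 0, 0, 0, 0, 0, 0, 0, 0, 0, 0, 0, 0, 0, 0, 0, 0, 0, 0, 0, 0, 1])) (.leaf ([0, 0, 0, 0, 0, 0, 0, 0, 0, 0, 0, 0, 0, 0, 0, 0, 0, 0, 0, 0, 0, 0, 0, 0, 0, 0, 0, 0, 0, 0, 0, 1]))) (.leaf ([]))) (.node (.leaf ([])) (.leaf ([12, 15, 36, (-50), (-46), 34, (-37), (-27), 0, 9, (-7), 18, (-8), 0, 0, 0, (-12), 11, 0, 0, 0, 0, 0, 0, 0, 1, 14, 8, (-4), (-2), 1, (-5), 2, (-1), 0, 0, 0, 0, (-1), (-1), 2, 3, 0, 2, 0, (-1), 3, (-1)])))) (.node (.node (.node (.leaf ([0, 0, 0, 0, 0, 0, 0, 0, 0, 0, 0, 0, 0, 0, 0, 0, 0, 0, 0, 0, 0, 0, 0, 0, 0, 0, 0, 0, 0, 0, 0, 1])) (.leaf ([(-158), (-31), 270, (-848), 797,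 (-188), 140, (-51), 0, (-694), (-205), (-73), (-93), 0, 0, 0, (-367), 427, 0, 0, 0, 0, 0, 0, 0, 321, (-385), (-467), (-553), 449, 494, (-36), 85, (-19), 3, (-23), (-36), 20, 2, (-4), 8, 9, (-5), (-5), (-24), 3, 8, (-5), 20, 8]))) (.leaf ([0, 0, 0, 0, 0, 0, 0, 0, 0, 0, 0, 0, 0, 0, 0, 0, 0, 0, 0, 0, 0, 0, 0, 0, 0, 0, 0, 0, 0, 0, 0, 1]))) (.node (.leaf ([])) (.leaf ([0, 0, 0, 0, 0, 0, 0, 0, 0, 0, 0, 0, 0, 0, 0, 0, 0, 0, 0, 0, 0, 0, 0, 0, 0, 0, 0, 0, 0, 0, 0, 1]))))) (.node (.node (.node (.node (.leaf ([])) (.leaf ([0, 0, 0, 0, 0, 0, 0, 0, 0, 0, 0, 0, 0, 0, 0, 0, 0, 0, 0, 0, 0, 0, 0, 0, 0, 0, 0, 0, 0, 0, 0, 1]))) (.leaf ([]))) (.node (.leaf ([])) (.leaf ([])))) (.node (.node (.node (.leaf ([])) (.leaf ([736, 837, (-209), 977, (-3379), 1117, (-860), 83, 0, 2099, (-20), 295, 513, 0, 0, 0, 969, (-1102), 0, 0, 0, 0, 0, 0, 0, (-944), 1254, 1291, 1221, (-1225), (-1232), 95, (-165), 79, (-1), 34, 78, (-48), (-20), 15, 6, (-13), 8,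 (-6), 32, 4, (-5), (-13), (-34), (-13)]))) (.leaf ([]))) (.node (.leaf ([0, 0, 0, 0, 0, 0, 0, 0, 0, 0, 0, 0, 0, 0, 0, 0, 0, 0, 0, 0, 0, 0, 0, 0, 0, 0, 0, 0, 0, 0, 0, 1])) (.leaf ([]))))))

/-- data -/
def val0_01010 : Trie (Vec) := .node (.node (.node (.node (.node (.leaf ([])) (.leaf ([0, 0, 0, 0, 0, 0, 0, 0, 0, 0, 0, 0, 0, 0, 0, 0, 0, 0, 0, 0, 0, 0, 0, 0, 0, 0, 0, 0, 0, 0, 0, 1]))) (.leaf ([0, 0, 0, 0, 0, 0, 0, 0, 0, 0, 0, 0, 0, 0, 0, 0, 0, 0, 0, 0, 0, 0, 0, 0, 0, 0, 0, 0, 0, 0, 0, 1]))) (.node (.leaf ([])) (.leaf ([19, 26, 17, 24, (-40), (-12), (-67), (-34), 0, 43, 45, 19, 20, 0, 0, 0, 6, (-37), 0, 0, 0, 0, 0, 0, 0, (-38), 62, 44, 33, (-64), (-6), 10, (-11), 17, 1, 4, 4, (-3), 0, 3, (-1), (-2), 0, (-4), 1, (-1), (-3), (-2), (-5)])))) (.node (.node (.node (.leaf ([])) (.leaf ([0, 0, 0, 0, 0, 0, 0, 0, 0, 0, 0, 0, 0, 0, 0, 0, 0, 0, 0, 0, 0, 0, 0, 0, 0, 0, 0, 0, 0, 0, 0, 1]))) (.leaf ([0, 0, 0, 0, 0, 0, 0, 0, 0, 0, 0, 0,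 0, 0, 0, 0, 0, 0, 0, 0, 0, 0, 0, 0, 0, 0, 0, 0, 0, 0, 0, 1]))) (.node (.leaf ([0, 0, 0, 0, 0, 0, 0, 0, 0, 0, 0, 0, 0, 0, 0, 0, 0, 0, 0, 0, 0, 0, 0, 0, 0, 0, 0, 0, 0, 0, 0, 1])) (.leaf ([0, 0, 0, 0, 0, 0, 0, 0, 0, 0, 0, 0, 0, 0, 0, 0, 0, 0, 0, 0, 0, 0, 0, 0, 0, 0, 0, 0, 0, 0, 0, 1]))))) (.node (.node (.node (.node (.leaf ([0, 0, 0, 0, 0, 0, 0, 0, 0, 0, 0, 0, 0, 0, 0, 0, 0, 0, 0, 0, 0, 0, 0, 0, 0, 0, 0, 0, 0, 0, 0, 1])) (.leaf ([]))) (.leaf ([]))) (.node (.leaf ([0, 0, 0, 0, 0, 0, 0, 0, 0, 0, 0, 0, 0, 0, 0, 0, 0, 0, 0, 0, 0, 0, 0, 0, 0, 0, 0, 0, 0, 0, 0, 1])) (.leaf ([])))) (.node (.node (.node (.leaf ([])) (.leaf ([(-599), (-573), 438, (-1391), 2364, (-501), 485, 49, 0, (-1145), (-491), (-109), (-187), 0, 0, 0, (-688), 807, 0, 0, 0, 0, 0, 0, 0, 646, (-835), (-936), (-1037), 847, 947, (-71), 81, (-17), 3, (-42), (-73), 49, 8, (-8), 6, 12, (-6), 3, (-46), (-3), 4, (-4), 31, 8]))) (.leaf ([0, 0, 0, 0, 0, 0, 0, 0, 0, 0, 0,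 0, 0, 0, 0, 0, 0, 0, 0, 0, 0, 0, 0, 0, 0, 0, 0, 0, 0, 0, 0, 1]))) (.node (.leaf ([])) (.leaf ([76, 24, (-5), 140, (-245), 86, (-123), (-14), 0, 131, 93, 22, 30, 0, 0, 0, 71, (-102), 0, 0, 0, 0, 0, 0, 0, (-74), 115, 112, 142, (-119), (-81), 14, (-23), 9, (-1), 6, 5, (-3), 3, 7, (-3), (-3), 1, (-4), 2, (-1), (-5), (-1), (-5), (-1)])))))

/-- data -/
def val0_01011 : Trie (Vec) := .node (.node (.node (.node (.node (.leaf ([])) (.leaf ([0, 0, 0, 0, 0, 0, 0, 0, 0, 0, 0, 0, 0, 0, 0, 0, 0, 0, 0, 0, 0, 0, 0, 0, 0, 0, 0, 0, 0, 0, 0, 1]))) (.leaf ([]))) (.node (.leaf ([])) (.leaf ([0, 0, 0, 0, 0, 0, 0, 0, 0, 0, 0, 0, 0, 0, 0, 0, 0, 0, 0, 0, 0, 0, 0, 0, 0, 0, 0, 0, 0, 0, 0, 1])))) (.node (.node (.node (.leaf ([])) (.leaf ([303, 436, (-211), 620, (-1063), 53, (-211), (-11), 0, 377, 269, 23, 77, 0, 0, 0, 260, (-316), 0, 0, 0, 0, 0, 0, 0, (-295), 360, 379, 409, (-366), (-378), 26, (-56), (-11), (-4), 14, 27, (-12), (-4), 1, (-2), (-7),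 4, 3, 12, 2, (-5), 5, (-9), (-3)]))) (.leaf ([11, 19, 61, (-160), 34, 26, 15, (-56), 0, (-105), (-21), 15, 15, 0, 0, 0, (-90), 64, 0, 0, 0, 0, 0, 0, 0, 41, (-46), (-50), (-68), 56, 64, 6, 14, 19, 2, 1, 2, (-4), (-1), (-1), 0, (-2), (-1), (-6), 0, 1, (-1), (-1), (-2), 3]))) (.node (.leaf ([0, 0, 0, 0, 0, 0, 0, 0, 0, 0, 0, 0, 0, 0, 0, 0, 0, 0, 0, 0, 0, 0, 0, 0, 0, 0, 0, 0, 0, 0, 0, 1])) (.leaf ([]))))) (.node (.node (.node (.node (.leaf ([0, 0, 0, 0, 0, 0, 0, 0, 0, 0, 0, 0, 0, 0, 0, 0, 0, 0, 0, 0, 0, 0, 0, 0, 0, 0, 0, 0, 0, 0, 0, 1])) (.leaf ([40, (-461), 411, (-679), (-423), 1027, (-258), (-61), 0, 752, (-530), 293, 347, 0, 0, 0, 36, (-116), 0, 0, 0, 0, 0, 0, 0, (-23), 209, 212, 102, (-199), (-71), 81, (-198), 235, 24, (-7), 33, (-25), (-13), 4, 3, (-4), (-8), (-34), (-19), (-21), (-20), (-28), (-29), (-18)]))) (.leaf ([0, 0, 0, 0, 0, 0, 0, 0, 0, 0, 0, 0, 0, 0, 0, 0, 0, 0, 0, 0, 0, 0, 0, 0, 0, 0, 0, 0, 0, 0, 0, 1]))) (.node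 (.leaf ([])) (.leaf ([(-19), (-49), (-28), 5, (-9), 53, 67, 59, 0, 17, (-61), (-21), (-17), 0, 0, 0, 18, 16, 0, 0, 0, 0, 0, 0, 0, 21, (-41), (-20), (-8), 43, (-21), (-9), 11, (-17), (-1), (-4), (-4), 3, 0, (-3), 1, 2, 0, 4, (-1), 1, 3, 2, 5])))) (.node (.node (.node (.leaf ([])) (.leaf ([0, 0, 0, 0, 0, 0, 0, 0, 0, 0, 0, 0, 0, 0, 0, 0, 0, 0, 0, 0, 0, 0, 0, 0, 0, 0, 0, 0, 0, 0, 0, 1]))) (.leaf ([0, 0, 0, 0, 0, 0, 0, 0, 0, 0, 0, 0, 0, 0, 0, 0, 0, 0, 0, 0, 0, 0, 0, 0, 0, 0, 0, 0, 0, 0, 0, 1]))) (.node (.leaf ([0, 0, 0, 0, 0, 0, 0, 0, 0, 0, 0, 0, 0, 0, 0, 0, 0, 0, 0, 0, 0, 0, 0, 0, 0, 0, 0, 0, 0, 0, 0, 1])) (.leaf ([(-15), (-46), (-18), 33, 23, 16, (-7), 34, 0, 43, (-15), (-10), 8, 0, 0, 0, 29, (-26), 0, 0, 0, 0, 0, 0, 0, (-13), 12, 13, 18, (-15), (-12), 2, 1, (-3), 0, 1, 0, (-1), 1, 1, (-1), 0, 0, (-2), 0, (-1), 0, 0, (-2)])))))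

/-- data -/
def val0_01100 : Trie (Vec) := .node (.node (.node (.node (.node (.leaf ([])) (.leaf ([5, 21, 16, (-28), (-28), 10, 15, (-18), 0, (-4), (-12), 11, (-8), 0, 0, 0, (-17), 20, 0, 0, 0, 0, 0, 0, 0, 4, (-1), (-2), (-9), 7, 0, (-2), 3, 1, 0, (-1), 0, 1, (-1), (-1), 1, 1, 0, 2, 0, 1, 1, 0, 3]))) (.leaf ([0, 0, 0, 0, 0, 0, 0, 0, 0, 0, 0, 0, 0, 0, 0, 0, 0, 0, 0, 0, 0, 0, 0, 0, 0, 0, 0, 0, 0, 0, 0, 1]))) (.node (.node (.leaf ([0, 0, 0, 0, 0, 0, 0, 0, 0, 0, 0, 0, 0, 0, 0, 0, 0, 0, 0, 0, 0, 0, 0, 0, 0, 0, 0, 0, 0, 0, 0, 1])) (.leaf ([(-7), 82, 27, (-79), 113, (-122), (-9), (-84), 0, (-83), 15, 24, 27, 0, 0, 0, (-60), 21, 0, 0, 0, 0, 0, 0, 0, 23, (-22), (-33), (-79), 20, 69, 10, 0, 39, 3, 2, 7, (-5), (-2), (-3), (-1), (-4), 0, (-5), 1, 0, (-4), 1, (-4), (-1)]))) (.leaf ([])))) (.node (.node (.node (.leaf ([0, 0, 0, 0, 0, 0, 0, 0, 0, 0, 0, 0, 0, 0, 0, 0, 0, 0, 0, 0, 0, 0, 0, 0, 0, 0, 0, 0, 0, 0, 0, 1])) (.leaf ([0, 0, 0,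 0, 0, 0, 0, 0, 0, 0, 0, 0, 0, 0, 0, 0, 0, 0, 0, 0, 0, 0, 0, 0, 0, 0, 0, 0, 0, 0, 0, 1]))) (.leaf ([28, 42, (-18), 62, (-136), 23, (-40), 9, 0, 77, 6, 4, 2, 0, 0, 0, 35, (-34), 0, 0, 0, 0, 0, 0, 0, (-42), 58, 49, 48, (-55), (-40), 2, 0, (-1), 0, 1, 2, (-1)]))) (.node (.leaf ([])) (.leaf ([]))))) (.node (.node (.node (.node (.leaf ([0, 0, 0, 0, 0, 0, 0, 0, 0, 0, 0, 0, 0, 0, 0, 0, 0, 0, 0, 0, 0, 0, 0, 0, 0, 0, 0, 0, 0, 0, 0, 1])) (.leaf ([30, 42, (-15), 84, (-51), (-43), (-43), (-23), 0, (-23), 87, (-7), (-10), 0, 0, 0, 4, (-26), 0, 0, 0, 0, 0, 0, 0, (-24), 31, 26, 37, (-35), (-13), 3, (-2), (-6), 0, 1, 0, (-1), 2, 2, (-2), 0, 0, (-2), 2, 0, 0, 1, (-2)]))) (.leaf ([0, 0, 0, 0, 0, 0, 0, 0, 0, 0, 0, 0, 0, 0, 0, 0, 0, 0, 0, 0, 0, 0, 0, 0, 0, 0, 0, 0, 0, 0, 0, 1]))) (.node (.leaf ([])) (.leaf ([138, 166, 34, 62, (-410), 91, (-168), (-57), 0, 103, 110, 40, 46, 0, 0, 0, 53, (-93), 0, 0, 0, 0, 0, 0, 0, (-77), 139, 121, 135, (-127),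 (-83), 14, (-31), 11, 0, 4, 6, (-2), 0, 6, 0, (-2), 1, (-2), (-1), 0, (-4), (-3), (-2), (-2)])))) (.node (.node (.node (.leaf ([])) (.leaf ([(-946), (-963), 517, (-1975), 3362, (-554), 1063, 146, 0, (-1463), (-1024), (-130), (-274), 0, 0, 0, (-986), 1251, 0, 0, 0, 0, 0, 0, 0, 971, (-1368), (-1395), (-1516), 1322, 1241, (-105), 181, (-11), 6, (-57), (-92), 61, 5, (-27), 9, 18, (-14), (-2), (-56), (-3), 14, (-5), 40, 11]))) (.leaf ([]))) (.node (.leaf ([])) (.leaf ([(-76), (-24), 5, (-140), 245, (-86), 123, 14, 0, (-131), (-93), (-22), (-30), 0, 0, 0, (-71), 102, 0, 0, 0, 0, 0, 0, 0, 74, (-115), (-112), (-142), 119, 81, (-13), 23, (-9), 1, (-6), (-5), 3, (-3), (-7), 3, 3, (-1), 4, (-2), 1, 5, 1, 5, 1])))))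

/-- data -/
def val0_01101 : Trie (Vec) := .node (.node (.node (.node (.node (.leaf ([])) (.leaf ([]))) (.leaf ([22, 28, 3, 7, (-51), 2, (-8), (-6), 0, 3, 22, 0, 5, 0, 0, 0, 19, (-14), 0, 0, 0, 0, 0, 0, 0, (-6), 4, 11, 19, (-7), (-16), 3, 0, 0, 0, 2, 3, (-1), (-1), 1, 0, (-1), 0, 0, 1, 0, (-1), (-1)]))) (.node (.leaf ([])) (.leaf ([])))) (.node (.node (.node (.leaf ([0, 0, 0, 0, 0, 0, 0, 0, 0, 0, 0, 0, 0, 0, 0, 0, 0, 0, 0, 0, 0, 0, 0, 0, 0, 0, 0, 0, 0, 0, 0, 1])) (.leaf ([]))) (.leaf ([0, 0, 0, 0, 0, 0, 0, 0, 0, 0, 0, 0, 0, 0, 0, 0, 0, 0, 0, 0, 0, 0, 0, 0, 0, 0, 0, 0, 0, 0, 0, 1]))) (.node (.leaf ([])) (.leaf ([0, 0, 0, 0, 0, 0, 0, 0, 0, 0, 0, 0, 0, 0, 0, 0, 0, 0, 0, 0, 0, 0, 0, 0, 0, 0, 0, 0, 0, 0, 0, 1]))))) (.node (.node (.node (.node (.leaf ([])) (.leaf ([(-30), (-42), 15, (-84), 51, 43, 43, 23, 0, 23, (-87), 7, 10, 0, 0, 0, (-4), 26, 0, 0, 0, 0, 0, 0, 0, 24, (-31), (-26), (-37), 35, 13, (-2), 2, 6, 0, (-1), 0, 1,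 (-2), (-2), 2, 0, 0, 2, (-2), 0, 0, (-1), 2]))) (.leaf ([0, 0, 0, 0, 0, 0, 0, 0, 0, 0, 0, 0, 0, 0, 0, 0, 0, 0, 0, 0, 0, 0, 0, 0, 0, 0, 0, 0, 0, 0, 0, 1]))) (.node (.leaf ([])) (.leaf ([])))) (.node (.node (.node (.leaf ([0, 0, 0, 0, 0, 0, 0, 0, 0, 0, 0, 0, 0, 0, 0, 0, 0, 0, 0, 0, 0, 0, 0, 0, 0, 0, 0, 0, 0, 0, 0, 1])) (.leaf ([0, 0, 0, 0, 0, 0, 0, 0, 0, 0, 0, 0, 0, 0, 0, 0, 0, 0, 0, 0, 0, 0, 0, 0, 0, 0, 0, 0, 0, 0, 0, 1]))) (.leaf ([(-28), (-42), 18, (-62), 136, (-23), 40, (-9), 0, (-77), (-6), (-4), (-2), 0, 0, 0, (-35), 34, 0, 0, 0, 0, 0, 0, 0, 42, (-58), (-49), (-48), 55, 40, (-1), 0, 1, 0, (-1), (-2), 1]))) (.node (.leaf ([])) (.leaf ([0, 0, 0, 0, 0, 0, 0, 0, 0, 0, 0, 0, 0, 0, 0, 0, 0, 0, 0, 0, 0, 0, 0, 0, 0, 0, 0, 0, 0, 0, 0, 1])))))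

/-- data -/
def val0_0111 : Trie (Vec) := .node (.node (.node (.node (.node (.node (.leaf ([])) (.leaf ([0, 0, 0, 0, 0, 0, 0, 0, 0, 0, 0, 0, 0, 0, 0, 0, 0, 0, 0, 0, 0, 0, 0, 0, 0, 0, 0, 0, 0, 0, 0, 1]))) (.leaf ([0, 0, 0, 0, 0, 0, 0, 0, 0, 0, 0, 0, 0, 0, 0, 0, 0, 0, 0, 0, 0, 0, 0, 0, 0, 0, 0, 0, 0, 0, 0, 1]))) (.node (.leaf ([])) (.leaf ([])))) (.node (.node (.node (.leaf ([])) (.leaf ([]))) (.leaf ([]))) (.node (.leaf ([0, 0, 0, 0, 0, 0, 0, 0, 0, 0, 0, 0, 0, 0, 0, 0, 0, 0, 0, 0, 0, 0, 0, 0, 0, 0, 0, 0, 0, 0, 0, 1])) (.leaf ([0, 0, 0, 0, 0, 0, 0, 0, 0, 0, 0, 0, 0, 0, 0, 0, 0, 0, 0, 0, 0, 0, 0, 0, 0, 0, 0, 0, 0, 0, 0, 1]))))) (.node (.node (.node (.node (.leaf ([])) (.leaf ([0, 0, 0, 0, 0, 0, 0, 0, 0, 0, 0, 0, 0, 0, 0, 0, 0, 0, 0, 0, 0, 0, 0, 0, 0, 0, 0, 0, 0, 0, 0, 0, 0, 0, 0, 0, 0, 0, 0, 0, 0, 0, 1]))) (.leaf ([0, 0, 0, 0, 0, 0, 0, 0, 0, 0, 0, 0, 0, 0, 0, 0, 0, 0, 0, 0, 0, 0, 0, 0, 0, 0, 0, 0, 0, 0, 0, 1, 0, 0, 0, 0,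 0, 0, 0, 0, (-1)]))) (.node (.leaf ([])) (.leaf ([])))) (.node (.node (.node (.leaf ([])) (.leaf ([0, 0, 0, 0, 0, 0, 0, 0, 0, 0, 0, 0, 0, 0, 0, 0, 0, 0, 0, 0, 0, 0, 0, 0, 0, 0, 0, 0, 0, 0, 0, 1]))) (.leaf ([]))) (.node (.leaf ([0, 0, 0, 0, 0, 0, 0, 0, 0, 0, 0, 0, 0, 0, 0, 0, 0, 0, 0, 0, 0, 0, 0, 0, 0, 0, 0, 0, 0, 0, 0, 1])) (.leaf ([])))))) (.node (.node (.node (.node (.node (.leaf ([])) (.leaf ([]))) (.leaf ([]))) (.node (.leaf ([])) (.leaf ([0, 0, 0, 0, 0, 0, 0, 0, 0, 0, 0, 0, 0, 0, 0, 0, 0, 0, 0, 0, 0, 0, 0, 0, 0, 0, 0, 0, 0, 0, 0, 1, 0, 0, 0, 0, 0, 0, 0, 0, 0, 0, 0, 0, 0, 0, 0, (-1)])))) (.node (.node (.node (.leaf ([])) (.leaf ([0, 0, 0, 0, 0, 0, 0, 0, 0, 0, 0, 0, 0, 0, 0, 0, 0, 0, 0, 0, 0, 0, 0, 0, 0, 0, 0, 0, 0, 0, 0, 1]))) (.leaf ([]))) (.node (.leaf ([0, 0, 0, 0, 0, 0, 0, 0, 0, 0, 0, 0, 0, 0, 0, 0, 0, 0, 0, 0, 0, 0, 0, 0, 0, 0, 0, 0, 0, 0, 0, 1])) (.leaf ([]))))) (.node (.node (.node (.node (.leaf ([0, 0, 0, 0,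 0, 0, 0, 0, 0, 0, 0, 0, 0, 0, 0, 0, 0, 0, 0, 0, 0, 0, 0, 0, 0, 0, 0, 0, 0, 0, 0, 1])) (.leaf ([(-11), (-48), (-10), 21, 27, 20, 1, 27, 0, 27, (-8), (-7), 10, 0, 0, 0, 17, (-20), 0, 0, 0, 0, 0, 0, 0, (-6), 1, 5, 11, (-8), (-6), 3, (-3), 2, 0, 1, 0, (-1), 1, 1, (-1), (-1), 0, (-2), 0, (-1), (-1), 0, (-3)]))) (.leaf ([]))) (.node (.leaf ([0, 0, 0, 0, 0, 0, 0, 0, 0, 0, 0, 0, 0, 0, 0, 0, 0, 0, 0, 0, 0, 0, 0, 0, 0, 0, 0, 0, 0, 0, 0, 1])) (.leaf ([0, 0, 0, 0, 0, 0, 0, 0, 0, 0, 0, 0, 0, 0, 0, 0, 0, 0, 0, 0, 0, 0, 0, 0, 0, 0, 0, 0, 0, 0, 0, 1])))) (.node (.node (.node (.leaf ([0, 0, 0, 0, 0, 0, 0, 0, 0, 0, 0, 0, 0, 0, 0, 0, 0, 0, 0, 0, 0, 0, 0, 0, 0, 0, 0, 0, 0, 0, 0, 1])) (.leaf ([(-29), (-27), 10, (-70), 199, (-87), 38, (-2), 0, (-196), 35, (-48), (-29), 0, 0, 0, (-94), 75, 0, 0, 0, 0, 0, 0, 0, 42, (-69), (-83), (-86), 72, 89, (-4), 19, (-16), 0, (-2), (-6), (-1), 1, (-1), (-1), 2, (-1), (-5), 0, 1, 4, 0, (-2), 5]))) (.leaf ([0,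 0, 0, 0, 0, 0, 0, 0, 0, 0, 0, 0, 0, 0, 0, 0, 0, 0, 0, 0, 0, 0, 0, 0, 0, 0, 0, 0, 0, 0, 0, 1]))) (.node (.leaf ([0, 0, 0, 0, 0, 0, 0, 0, 0, 0, 0, 0, 0, 0, 0, 0, 0, 0, 0, 0, 0, 0, 0, 0, 0, 0, 0, 0, 0, 0, 0, 1])) (.leaf ([]))))))

/-- data -/
def val0_1000 : Trie (Vec) := .node (.node (.node (.node (.node (.node (.leaf ([])) (.leaf ([0, 0, 0, 0, 0, 0, 0, 0, 0, 0, 0, 0, 0, 0, 0, 0, 0, 0, 0, 0, 0, 0, 0, 0, 0, 0, 0, 0, 0, 0, 0, 1, 1]))) (.leaf ([0, 0, 0, 0, 0, 0, 0, 1, 0, 0, 0, 0, 0, 0, 0, 0, 0, 0, 0, 0, 0, 0, 0, 0, 0, 0, 0, 0, 0, 0, 0, 0, (-1)]))) (.node (.node (.leaf ([0, 0, 0, 0, 0, 0, 0, 1, 0, 0, 0, 0, 0, 0, 0, 0, 0, 0, 0, 0, 0, 0, 0, 0, 0, 0, 0, 0, 0, 0, 0, 0, (-1)])) (.leaf ([(-621), (-716), 417, (-1357), 2292, (-313), 551, (-55), 0, (-1038), (-558), (-46), (-209), 0, 0, 0, (-691), 824, 0, 0, 0, 0, 0, 0, 0, 665, (-855), (-893), (-999), 860, 864, (-64), 116, 14, 7, (-37), (-57), 35, 6, (-13), 5, 15, (-9), 2, (-29), (-2),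 10, (-3), 28, 6]))) (.leaf ([])))) (.node (.node (.node (.leaf ([0, 0, 0, 0, 0, 0, 0, 1, 0, 0, 0, 0, 0, 0, 0, 0, 0, 0, 0, 0, 0, 0, 0, 0, 0, 0, 0, 0, 0, 0, 0, 0, (-1)])) (.leaf ([0, 0, 0, 0, 0, 0, 0, 0, 0, 0, 0, 0, 0, 0, 0, 0, 0, 0, 0, 0, 0, 0, 0, 0, 0, 0, 0, 0, 0, 0, 0, 0, 0, 0, 0, 0, 0, 0, 0, 0, 0, 0, 0, 0, 0, 1]))) (.leaf ([]))) (.node (.leaf ([])) (.leaf ([0, 0, 0, 0, 0, 0, 0, 0, 0, 0, 0, 0, 0, 0, 0, 0, 0, 0, 0, 0, 0, 0, 0, 0, 0, 0, 0, 0, 0, 0, 0, 1, 1]))))) (.node (.node (.node (.node (.leaf ([])) (.leaf ([(-91), (-364), 211, (-313), 193, 342, (-98), 50, 0, 214, (-200), 65, 73, 0, 0, 0, (-16), (-2), 0, 0, 0, 0, 0, 0, 0, 41, 6, (-6), (-11), (-20), 60, 10, (-51), 58, 4, (-5), (-7), 1, 2, 8, (-1), 3, (-1), (-9), (-10), (-9), (-4), (-10), (-8), (-4)]))) (.leaf ([]))) (.node (.leaf ([0, 0, 0, 0, 0, 0, 0, 0, 0, 0, 0, 0, 0, 0, 0, 0, 0, 0, 0, 0, 0, 0, 0, 0, 0, 0, 0, 0, 0, 0, 0, 1, 1])) (.leaf ([])))) (.node (.node (.node (.leaf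 ([])) (.leaf ([]))) (.leaf ([]))) (.node (.leaf ([0, 0, 0, 0, 0, 0, 0, 1, 0, 0, 0, 0, 0, 0, 0, 0, 0, 0, 0, 0, 0, 0, 0, 0, 0, 0, 0, 0, 0, 0, 0, 0, (-1), 0, 0, 0, 0, 0, 0, 0, 0, 0, 0, 0, 0, 0, 0, 0, 0, (-1)])) (.leaf ([])))))) (.node (.node (.node (.node (.node (.leaf ([])) (.leaf ([]))) (.leaf ([0, 0, 0, 0, 0, 0, 0, 1, 0, 0, 0, 0, 0, 0, 0, 0, 0, 0, 0, 0, 0, 0, 0, 0, 0, 0, 0, 0, 0, 0, 0, 0, (-1)]))) (.node (.leaf ([])) (.leaf ([])))) (.node (.node (.node (.leaf ([])) (.leaf ([285, 163, (-425), 1133, (-1400), 382, (-121), 13, 0, 1032, 157, 150, 193, 0, 0, 0, 487, (-567), 0, 0, 0, 0, 0, 0, 0, (-475), 578, 697, 756, (-637), (-733), 70, (-141), 68, 0, 33, 65, (-39), (-10), (-2), (-7), (-16), 3, (-3), 34, (-3), (-13), 5, (-33), (-12)]))) (.leaf ([]))) (.node (.leaf ([])) (.leaf ([0, 3, (-8), 8, 1, (-7), 10, 7, 0, 2, 1, (-2), 5, 0, 0, 0, 5, (-6), 0, 0, 0, 0, 0, 0, 0, 0, (-4), (-1), 0, 2, (-3), 0, (-1), 0, 0, 0, 0, 0, 0, 0, 0,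 0, 0, 0, 0, 0, (-1)]))))) (.node (.node (.node (.node (.leaf ([])) (.leaf ([]))) (.leaf ([0, 0, 0, 0, 0, 0, 0, 0, 0, 0, 0, 0, 0, 0, 0, 0, 0, 0, 0, 0, 0, 0, 0, 0, 0, 0, 0, 0, 0, 0, 0, 0, 0, 0, 0, 1]))) (.node (.leaf ([])) (.leaf ([])))) (.node (.node (.node (.leaf ([])) (.leaf ([0, 0, 0, 0, 0, 0, 0, 1, 0, 0, 0, 0, 0, 0, 0, 0, 0, 0, 0, 0, 0, 0, 0, 0, 0, 0, 0, 0, 0, 0, 0, 0, (-1)]))) (.leaf ([53, 66, (-114), 270, (-288), 26, (-5), 82, 0, 183, 51, (-20), 0, 0, 0, 0, 160, (-130), 0, 0, 0, 0, 0, 0, 0, (-96), 90, 108, 154, (-100), (-149), (-4), 0, (-36), (-3), 4, 1, 1, 1, 3, 0, (-1), 2, 5, 4, 2, 1, 3, 3]))) (.node (.leaf ([0, 0, 0, 0, 0, 0, 0, 1, 0, 0, 0, 0, 0, 0, 0, 0, 0, 0, 0, 0, 0, 0, 0, 0, 0, 0, 0, 0, 0, 0, 0, (-1), (-2)])) (.leaf ([50, 102, 27, (-54), (-182), 37, (-6), (-26), 0, (-4), (-10), 9, (-24), 0, 0, 0, (-3), 20, 0, 0, 0, 0, 0, 0, 0, (-6), 21, 13, (-11), 9, (-16), (-16), 17, (-17), (-2), 1, (-2), 2, (-5), (-3), 5,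 4, 1, 8, 0, 1, 6, 0, 4, 1]))))))

/-- data -/
def val0_1001 : Trie (Vec) := .node (.node (.node (.node (.node (.node (.leaf ([])) (.leaf ([]))) (.leaf ([0, 0, 0, 0, 0, 0, 0, 0, 0, 0, 0, 0, 0, 0, 0, 0, 0, 0, 0, 0, 0, 0, 0, 0, 0, 0, 0, 0, 0, 0, 0, (-1), (-3), 0, 0, 0, 0, 0, 0, 0, 0, 0, 0, 0, 0, 0, 0, 0, 0, 1]))) (.node (.leaf ([])) (.leaf ([])))) (.node (.node (.node (.leaf ([])) (.leaf ([]))) (.leaf ([1, (-2), (-1), (-1), 1, 2, 1, 3, 0, (-6), 1, (-2), 0, 0, 0, 0, (-1), 2, 0, 0, 0, 0, 0, 0, 0, 3, (-6), (-4), 0, 4, 1, 0, 0, 0, 0, 0, 0, 0, 0, 0, 0, 0, 0, (-1), (-1)]))) (.node (.leaf ([])) (.leaf ([34, 85, (-45), 21, (-75), (-42), 43, 18, 0, (-102), 40, (-37), (-35), 0, 0, 0, 15, 22, 0, 0, 0, 0, 0, 0, 0, 13, (-35), (-36), (-17), 51, 10, (-12), 27, (-32), (-2), 0, (-5), 4, 1, 0, 2, 0, 0, 2, (-1), 3, 2, 1, 7, 3]))))) (.node (.node (.node (.node (.leaf ([])) (.leaf ([0, 0, 0, 0, 0, 0, 0, 0, 0, 0, 0, 0, 0, 0, 0, 0, 0, 0, 0, 0,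 0, 0, 0, 0, 0, 0, 0, 0, 0, 0, 0, 0, 1, 0, 0, 0, 0, 1]))) (.leaf ([0, 0, 0, 0, 0, 0, 0, 0, 0, 0, 0, 0, 0, 0, 0, 0, 0, 0, 0, 0, 0, 0, 0, 0, 0, 0, 0, 0, 0, 0, 0, 0, 1, 0, 0, 0, 0, 0, 0, 0, 0, 0, 0, 0, 0, 0, 0, 0, (-1)]))) (.node (.leaf ([])) (.leaf ([29, 21, 16, (-34), (-135), 82, (-39), 24, 0, 73, (-34), 5, 22, 0, 0, 0, 44, (-31), 0, 0, 0, 0, 0, 0, 0, (-14), 40, 33, 29, (-20), (-27), 1, (-8), 1, 0, (-1), 1, 0, (-2), 0, 2, 1, 0, 0, (-3), 0, 0, (-2), 2, (-1)])))) (.node (.node (.node (.leaf ([])) (.leaf ([]))) (.leaf ([]))) (.node (.leaf ([])) (.leaf ([])))))) (.node (.node (.node (.node (.node (.leaf ([])) (.leaf ([23, 76, 1, 72, (-3), (-99), (-57), (-68), 0, (-19), 112, 19, 10, 0, 0, 0, (-3), (-46), 0, 0, 0, 0, 0, 0, 0, (-23), 41, 38, 32, (-45), (-12), 7, (-7), 12, 0, 3, 5, (-4), 0, 1, (-1), (-1), 1, 0, 4, 0, (-1), 1, (-4), (-2)]))) (.leaf ([]))) (.node (.leaf ([])) (.leaf ([0, 0, 0, 0, 0, 0, 0, 1, 0, 0, 0, 0, 0, 0, 0, 0,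 0, 0, 0, 0, 0, 0, 0, 0, 0, 0, 0, 0, 0, 0, 0, 0, (-1)])))) (.node (.node (.node (.leaf ([])) (.leaf ([167, 412, (-139), 407, (-444), (-276), (-175), (-30), 0, (-9), 321, (-53), (-38), 0, 0, 0, 129, (-150), 0, 0, 0, 0, 0, 0, 0, (-157), 203, 163, 177, (-178), (-126), (-4), 8, (-59), (-9), 6, 6, 4, 0, 2, (-1), (-2), 5, 10, 5, 6, 0, 8, 7, 2]))) (.leaf ([(-178), (-150), 276, (-751), 795, (-103), 113, (-91), 0, (-495), (-179), (-7), (-45), 0, 0, 0, (-315), 321, 0, 0, 0, 0, 0, 0, 0, 275, (-314), (-366), (-437), 356, 406, (-22), 71, 15, 4, (-13), (-23), 8, 1, (-2), 4, 6, (-4), (-7), (-13), 1, 6, (-6), 9, 7]))) (.node (.leaf ([])) (.leaf ([(-54), (-15), 92, (-316), 250, (-29), 71, (-32), 0, (-205), (-104), 0, (-17), 0, 0, 0, (-127), 150, 0, 0, 0, 0, 0, 0, 0, 115, (-141), (-157), (-188), 159, 158, (-9), 31, 9, 2, (-5), (-7), 4, (-1), (-3), 3, 1, (-2), (-3), (-7), 1, 1, (-2), 6, 3]))))) (.node (.node (.node (.node (.leaf ([])) (.leaf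 ([0, 0, 0, 0, 0, 0, 0, 1, 0, 0, 0, 0, 0, 0, 0, 0, 0, 0, 0, 0, 0, 0, 0, 0, 0, 0, 0, 0, 0, 0, 0, 0, (-1)]))) (.leaf ([]))) (.node (.leaf ([])) (.leaf ([])))) (.node (.node (.node (.leaf ([])) (.leaf ([1, (-48), 15, (-40), (-50), 97, (-9), 14, 0, 49, (-49), 14, 1, 0, 0, 0, 5, 9, 0, 0, 0, 0, 0, 0, 0, 0, 0, 8, 5, 3, (-18), (-3), 0, 0, 0, 0, 1, 0, (-1), (-1), 1, 1, 0, 2, 0, (-1), 1, 0, 1]))) (.leaf ([239, 246, (-293), 723, (-912), 90, (-75), 88, 0, 292, 267, (-49), (-28), 0, 0, 0, 299, (-263), 0, 0, 0, 0, 0, 0, 0, (-209), 228, 299, 411, (-238), (-378), 8, (-10), (-55), (-6), 12, 19, (-4), 2, 1, (-4), (-5), 3, 5, 11, 4, (-4), 8, 4, (-3)]))) (.node (.leaf ([42, 24, (-6), 76, (-101), 13, (-58), (-17), 0, 16, 84, (-7), 12, 0, 0, 0, 22, (-56), 0, 0, 0, 0, 0, 0, 0, (-39), 56, 54, 64, (-51), (-35), 6, 4, (-5), (-1), 4, 3, (-5), 1, 3, (-2), (-1), 1, (-2), 5, 1, 0, 0, (-4), 2])) (.leaf ([0, 3, (-2), 3, 14, (-15), (-5), (-4), 0, (-18),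 14, (-7), (-4), 0, 0, 0, 6, (-1), 0, 0, 0, 0, 0, 0, 0, 6, (-4), (-4), (-3), 4, 5, 0, (-2), 0, 0, 0, 1, 0, 0, 0, (-1), 0, 0, 0, 0, 0, 0, 0, 0, (-1)]))))))

/-- data -/
def val0_1010 : Trie (Vec) := .node (.node (.node (.node (.node (.node (.leaf ([])) (.leaf ([]))) (.leaf ([]))) (.node (.node (.leaf ([])) (.leaf ([(-60), 6, 64, (-261), 253, (-78), 148, (-10), 0, (-205), (-120), (-15), (-24), 0, 0, 0, (-140), 159, 0, 0, 0, 0, 0, 0, 0, 115, (-172), (-168), (-196), 165, 136, (-9), 35, 10, 2, (-5), (-5), 3, (-3), (-7), 2, 1, (-3), (-3), (-5), 1, 3, (-1), 3, 2]))) (.leaf ([])))) (.node (.node (.node (.leaf ([])) (.leaf ([0, 0, 0, 0, 0, 0, 0, 0, 0, 0, 0, 0, 0, 0, 0, 0, 0, 0, 0, 0, 0, 0, 0, 0, 0, 0, 0, 0, 0, 0, 0, 0, 0, 1]))) (.leaf ([]))) (.node (.leaf ([])) (.leaf ([]))))) (.node (.node (.node (.node (.leaf ([0, 0, 0, 0, 0, 0, 0, 1, 0, 0, 0, 0, 0, 0, 0, 0, 0, 0, 0, 0, 0, 0, 0, 0, 0, 0, 0, 0, 0, 0, 0, 0, (-1)])) (.leaf ([752,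 718, (-408), 1082, (-2823), 803, (-412), 84, 0, 1061, 295, 88, 266, 0, 0, 0, 638, (-679), 0, 0, 0, 0, 0, 0, 0, (-605), 756, 849, 970, (-740), (-898), 78, (-113), 20, (-3), 37, 68, (-37), (-9), 6, (-2), (-23), 3, (-16), 20, 4, (-20), (-1), (-20), (-2)]))) (.leaf ([]))) (.node (.leaf ([])) (.leaf ([])))) (.node (.node (.node (.leaf ([])) (.leaf ([7, 1, 2, (-4), (-32), 23, 0, 0, 0, 11, (-4), 4, 3, 0, 0, 0, 1, (-2), 0, 0, 0, 0, 0, 0, 0, (-3), 2, 5, 5, (-2), (-9), 0, (-2), 0, 0, 0, 0, (-1), 0, 0, 0, 1, 0, 0, 0, 0, 0, (-1)]))) (.leaf ([29, 76, (-12), 9, (-73), (-33), (-17), (-4), 0, (-41), 33, (-17), (-17), 0, 0, 0, 13, (-2), 0, 0, 0, 0, 0, 0, 0, (-7), 12, 5, (-5), 9, (-2), (-4), 13, (-16), (-1), (-1), 0, 1, (-1), (-1), 0, 1, 0, 2, 0, 2, 2, 1, 4, 1]))) (.node (.leaf ([])) (.leaf ([])))))) (.node (.node (.node (.node (.node (.leaf ([])) (.leaf ([0, 0, 0, 0, 0, 0, 0, 0, 0, 0, 0, 0, 0, 0, 0, 0, 0, 0, 0, 0, 0, 0, 0, 0, 0, 0, 0,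 0, 0, 0, 0, 1, 1]))) (.leaf ([]))) (.node (.leaf ([])) (.leaf ([])))) (.node (.node (.node (.leaf ([])) (.leaf ([0, 0, 0, 0, 0, 0, 0, 0, 0, 0, 0, 0, 0, 0, 0, 0, 0, 0, 0, 0, 0, 0, 0, 0, 0, 0, 0, 0, 0, 0, 0, 1, 1, 0, 0, 0, 0, (-1)]))) (.leaf ([(-530), (-583), 448, (-1248), 1949, (-240), 325, (-93), 0, (-720), (-523), 27, (-61), 0, 0, 0, (-600), 615, 0, 0, 0, 0, 0, 0, 0, 468, (-588), (-663), (-843), 591, 727, (-35), 36, 58, 8, (-32), (-46), 25, 1, (-7), 4, 10, (-6), (-1), (-24), (-3), 7, (-5), 10, 3]))) (.node (.leaf ([])) (.leaf ([(-80), (-124), 17, (-119), 228, 23, 143, 19, 0, (-53), (-120), 5, (-9), 0, 0, 0, (-68), 94, 0, 0, 0, 0, 0, 0, 0, 71, (-119), (-91), (-89), 99, 48, (-6), 8, 5, 1, (-3), (-3), 1, (-1), (-4), 1, 1, (-1), 0, (-1), (-1), 2, (-1)]))))) (.node (.node (.node (.node (.leaf ([])) (.leaf ([]))) (.leaf ([]))) (.node (.leaf ([])) (.leaf ([0, 0, 0, 0, 0, 0, 0, 0, 0, 0, 0, 0, 0, 0, 0, 0, 0, 0, 0, 0, 0, 0, 0,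 0, 0, 0, 0, 0, 0, 0, 0, 0, 0, 0, 0, 0, 0, 0, 0, 0, 0, 0, 0, 1])))) (.node (.node (.node (.leaf ([])) (.leaf ([1106, 1021, (-883), 2516, (-4625), 1174, (-743), 162, 0, 2352, 614, 187, 398, 0, 0, 0, 1413, (-1520), 0, 0, 0, 0, 0, 0, 0, (-1187), 1505, 1736, 1906, (-1514), (-1872), 106, (-255), 14, (-5), 60, 128, (-75), (-23), 4, 2, (-17), 12, 18, 69, 1, (-6), 9, (-39), (-22)]))) (.leaf ([]))) (.node (.leaf ([(-202), (-141), 201, (-675), 479, 103, 208, (-19), 0, 76, (-534), 132, 114, 0, 0, 0, (-175), 205, 0, 0, 0, 0, 0, 0, 0, 142, (-169), (-175), (-347), 189, 168, (-7), (-69), 93, 10, (-13), 0, 5, (-16), (-14), 15, 7, (-5), 7, (-15), (-7), 4, (-9), 0, (-7)])) (.leaf ([(-96), 271, (-334), 475, 559, (-845), 287, 110, 0, (-634), 352, (-261), (-241), 0, 0, 0, (-37), 111, 0, 0, 0, 0, 0, 0, 0, 67, (-230), (-222), (-127), 219, 98, (-54), 142, (-177), (-14), 0, (-25), 20, 10, (-6), (-4), 1, 5, 22, 11, 17, 12, 22, 23, 14]))))))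

/-- data -/
def val0_1011 : Trie (Vec) := .node (.node (.node (.node (.node (.node (.leaf ([])) (.leaf ([]))) (.leaf ([]))) (.node (.leaf ([])) (.leaf ([])))) (.node (.node (.node (.leaf ([])) (.leaf ([]))) (.leaf ([]))) (.node (.leaf ([0, 0, 0, 0, 0, 0, 0, 1, 0, 0, 0, 0, 0, 0, 0, 0, 0, 0, 0, 0, 0, 0, 0, 0, 0, 0, 0, 0, 0, 0, 0, (-2), (-2)])) (.leaf ([20, 50, (-16), 64, (-34), (-52), (-30), (-19), 0, (-19), 58, (-3), (-7), 0, 0, 0, (-5), (-13), 0, 0, 0, 0, 0, 0, 0, (-22), 20, 19, 21, (-24), (-12), 1, 2, (-3), (-1), 2, 2, 0, 1, 1, (-2), (-1), 1, 0, 2, 0, (-1), 2, (-1), 1]))))) (.node (.node (.node (.node (.leaf ([0, 0, 0, 0, 0, 0, 0, 1, 0, 0, 0, 0, 0, 0, 0, 0, 0, 0, 0, 0, 0, 0, 0, 0, 0, 0, 0, 0, 0, 0, 0, 0, (-1)])) (.leaf ([0, 0, 0, 0, 0, 0, 0, 0, 0, 0, 0, 0, 0, 0, 0, 0, 0, 0, 0, 0, 0, 0, 0, 0, 0, 0, 0, 0, 0, 0, 0, 0, 0, 0, 0, 0, 0, 0, 0, 0, 0, 1]))) (.leaf ([]))) (.node (.leaf ([])) (.leaf ([])))) (.node (.node (.node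 (.leaf ([])) (.leaf ([(-203), 205, 373, (-1083), 1009, (-461), 161, (-318), 0, (-869), (-228), 65, (-162), 0, 0, 0, (-569), 620, 0, 0, 0, 0, 0, 0, 0, 417, (-456), (-553), (-750), 548, 608, (-55), 92, 20, 3, (-26), (-21), 26, (-10), (-19), 14, 14, (-5), 18, (-23), 3, 11, 0, 37, 5]))) (.leaf ([(-63), (-145), (-32), 57, 143, 24, 49, 27, 0, 23, (-35), (-10), (-32), 0, 0, 0, 5, 22, 0, 0, 0, 0, 0, 0, 0, 12, (-26), (-12), 6, 19, 0, (-2), 13, (-4), (-1), 1, (-1), 0, 2, 0, (-2), 0, 0, 0, 3, 0, 0, 2, 0, 1]))) (.node (.leaf ([])) (.leaf ([])))))) (.node (.node (.node (.node (.node (.leaf ([])) (.leaf ([(-48), (-73), 78, (-115), 179, (-7), (-25), (-31), 0, (-12), (-21), 21, 15, 0, 0, 0, (-52), 18, 0, 0, 0, 0, 0, 0, 0, 28, (-14), (-24), (-44), 10, 51, 3, (-8), 18, 1, (-2), (-2), (-1), 0, 1, (-1), 2, 0, (-1), (-1), (-2), 1, (-2), (-4), (-1)]))) (.leaf ([]))) (.node (.leaf ([])) (.leaf ([])))) (.node (.node (.node (.leaf ([])) (.leaf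 ([(-54), (-29), 92, (-178), 255, (-77), (-4), (-52), 0, (-90), (-21), 23, 17, 0, 0, 0, (-92), 56, 0, 0, 0, 0, 0, 0, 0, 55, (-55), (-70), (-97), 48, 96, 2, (-4), 27, 2, (-3), (-2), 0, (-1), 1, 1, 2, (-1), (-1), (-3), (-1), 2, (-3), (-2), (-1)]))) (.leaf ([]))) (.node (.leaf ([])) (.leaf ([0, 0, 0, 0, 0, 0, 0, 0, 0, 0, 0, 0, 0, 0, 0, 0, 0, 0, 0, 0, 0, 0, 0, 0, 0, 0, 0, 0, 0, 0, 0, 0, 0, 0, 0, 0, 0, 0, 0, 0, 0, 0, 0, 0, 1]))))) (.node (.node (.node (.node (.leaf ([])) (.leaf ([0, 0, 0, 0, 0, 0, 0, 1, 0, 0, 0, 0, 0, 0, 0, 0, 0, 0, 0, 0, 0, 0, 0, 0, 0, 0, 0, 1, 0, 0, 0, (-1), (-2), 0, (-1), 0, 0, 1]))) (.leaf ([0, 0, 0, 0, 0, 0, 0, 1, 0, 0, 0, 0, 0, 0, 0, 0, 0, 0, 0, 0, 0, 0, 0, 0, 0, 0, 0, 0, 0, 0, 0, 0, (-1)]))) (.node (.leaf ([])) (.leaf ([1, (-17), 8, (-15), (-26), 41, 4, 10, 0, 35, (-23), 7, 8, 0, 0, 0, 11, (-4), 0, 0, 0, 0, 0, 0, 0, (-4), 4, 7, 13, (-6), (-12), 0, 3, 1, 0, 1, 0, 0, 0, 1, 1, 0, 0, 0, 0, 0, 0, (-2)]))))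 (.node (.node (.node (.leaf ([])) (.leaf ([(-111), (-206), (-10), (-116), 235, 89, 129, 137, 0, 39, (-195), (-37), 1, 0, 0, 0, 21, 50, 0, 0, 0, 0, 0, 0, 0, 57, (-92), (-81), (-64), 98, 36, (-13), 18, (-23), 0, (-5), (-10), 6, 1, (-1), 2, 3, (-1), 0, (-5), 1, 4, (-1), 5, 2]))) (.leaf ([]))) (.node (.leaf ([])) (.leaf ([(-4), (-5), 1, 1, 9, (-2), 1, 3, 0, 1, (-4), (-2), (-3), 0, 0, 0, (-3), 3, 0, 0, 0, 0, 0, 0, 0, (-1), 3, 1, (-1), (-1), 1, (-1), 2, (-3), 0, 0, 0, 0, 0, 0, 0, 1, 0, 0, 0, (-1), 1]))))))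

/-- data -/
def val0_1100 : Trie (Vec) := .node (.node (.node (.node (.node (.node (.leaf ([])) (.leaf ([]))) (.leaf ([0, 15, 24, (-3), 33, (-36), (-64), (-41), 0, 7, 36, 21, 16, 0, 0, 0, (-25), (-15), 0, 0, 0, 0, 0, 0, 0, (-22), 44, 20, 4, (-45), 22, 7, (-10), 17, 1, 2, 1, (-2), 1, 2, (-1), (-1), 0, (-4), 0, (-1), (-2), (-1), (-5)]))) (.node (.node (.leaf ([])) (.leaf ([(-169), (-336), (-38), (-31), 379, 83, 151, 157, 0, 117, (-204), (-28), 0, 0, 0, 0, 53, 5, 0, 0, 0, 0, 0, 0, 0, 40, (-79), (-53), (-50), 79, 21, (-11), 15, (-1), 1, (-4), (-7), 0, 0, (-5), 1, 1, (-1), 0, (-1), (-2), 3, 0, (-1)]))) (.leaf ([0, 0, 0, 0, 0, 0, 0, 0, 0, 0, 0, 0, 0, 0, 0, 0, 0, 0, 0, 0, 0, 0, 0, 0, 0, 0, 0, 0, 0, 0, 0, 1, 1])))) (.node (.node (.node (.leaf ([])) (.leaf ([]))) (.leaf ([]))) (.node (.leaf ([])) (.leaf ([]))))) (.node (.node (.node (.node (.leaf ([])) (.leaf ([]))) (.leaf ([]))) (.node (.leaf ([])) (.leaf ([])))) (.node (.node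 (.node (.leaf ([])) (.leaf ([]))) (.leaf ([25, (-14), (-64), 229, (-132), 8, (-44), 42, 0, 131, 93, (-16), (-1), 0, 0, 0, 106, (-116), 0, 0, 0, 0, 0, 0, 0, (-74), 93, 103, 138, (-100), (-107), 0, (-11), (-23), (-3), 3, 0, (-1), 2, 4, (-2), 1, 2, 4, 5, 0, 2, 1, (-3), (-1)]))) (.node (.leaf ([0, 0, 0, 0, 0, 0, 0, 1, 0, 0, 0, 0, 0, 0, 0, 0, 0, 0, 0, 0, 0, 0, 0, 0, 0, 0, 0, 0, 0, 0, 0, 0, 1, 0, 0, 0, 0, 0, 0, 0, 0, 0, 0, 0, 0, 0, 0, 0, 0, (-1)])) (.leaf ([])))))) (.node (.node (.node (.node (.node (.leaf ([])) (.leaf ([43, 79, (-26), 85, (-143), (-18), (-41), (-8), 0, 37, 44, (-2), (-4), 0, 0, 0, 34, (-35), 0, 0, 0, 0, 0, 0, 0, (-39), 52, 47, 47, (-50), (-39), 4, (-3), (-2), 0, 2, 5, (-2), (-1), 0, (-1), (-1), 0, 0, 1, 0, (-1), 1]))) (.leaf ([]))) (.node (.leaf ([])) (.leaf ([])))) (.node (.node (.node (.leaf ([])) (.leaf ([]))) (.leaf ([]))) (.node (.leaf ([0, 0, 0, 0, 0, 0, 0, 0, 0, 0, 0, 0, 0, 0, 0, 0, 0, 0, 0, 0, 0, 0,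 0, 0, 0, 0, 0, 0, 0, 0, 0, 0, 0, 0, 0, 0, 0, 0, 0, 0, 0, 0, 0, 0, 0, 0, 0, 0, 1])) (.leaf ([]))))) (.node (.node (.node (.node (.leaf ([])) (.leaf ([32, 41, (-27), 92, (-133), 16, (-32), (-7), 0, 87, 12, 18, 18, 0, 0, 0, 26, (-39), 0, 0, 0, 0, 0, 0, 0, (-46), 53, 60, 57, (-68), (-57), 9, (-20), 14, 1, 2, 7, (-3), (-1), (-1), (-1), (-2), 0, (-1), 2, (-1), (-3), 1, (-3), (-2)]))) (.leaf ([]))) (.node (.leaf ([0, 0, 0, 0, 0, 0, 0, 0, 0, 0, 0, 0, 0, 0, 0, 0, 0, 0, 0, 0, 0, 0, 0, 0, 0, 0, 0, 0, 0, 0, 0, 0, 0, 0, 0, 0, 0, 0, 0, 0, 0, 0, 0, 0, 0, 0, 0, 0, 0, 1])) (.leaf ([0, 0, 0, 0, 0, 0, 0, 1, 0, 0, 0, 0, 0, 0, 0, 0, 0, 0, 0, 0, 0, 0, 0, 0, 0, 0, 0, 0, 0, 0, 0, 0, (-1), 0, 0, 0, 0, 0, 0, 0, 0, 0, 0, 0, (-1)])))) (.node (.node (.node (.leaf ([])) (.leaf ([1519, 1828, (-719), 2216, (-5747), 1230, (-1167), 55, 0, 2180, 802, 127, 452, 0, 0, 0, 1421, (-1546), 0, 0, 0, 0, 0, 0, 0, (-1314), 1708, 1814, 1987, (-1615), (-1859), 119,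 (-109), (-69), (-12), 65, 124, (-81), (-19), 17, 0, (-21), 10, (-17), 61, 14, (-5), (-2), (-33), (-1)]))) (.leaf ([(-6), (-22), 3, (-18), 18, 18, 12, 5, 0, (-8), (-14), (-1), 1, 0, 0, 0, (-5), 10, 0, 0, 0, 0, 0, 0, 0, 12, (-16), (-11), (-8), 16, 4, 0, (-2), 0, 0, (-1), 0, 0, 0, 0, 0, 0, 0, 0, 0, 0, 0, 0, 1]))) (.node (.leaf ([])) (.leaf ([0, 0, 0, 0, 0, 0, 0, 1, 0, 0, 0, 0, 0, 0, 0, 0, 0, 0, 0, 0, 0, 0, 0, 0, 0, 0, 0, 0, 0, 0, 0, 0, (-1)]))))))

/-- data -/
def val0_11010 : Trie (Vec) := .node (.node (.node (.node (.node (.leaf ([])) (.leaf ([(-40), (-52), 3, (-36), 147, (-31), 71, (-13), 0, (-63), (-18), 0, (-14), 0, 0, 0, (-43), 45, 0, 0, 0, 0, 0, 0, 0, 36, (-61), (-53), (-52), 46, 39, (-2), 5, 2, 1, (-1), (-3), 0, 1, (-1), 0, 0, (-1), 0, 1, 0, 1, 0, (-1)]))) (.leaf ([0, 0, 0, 0, 0, 0, 0, 0, 0, 0, 0, 0, 0, 0, 0, 0, 0, 0, 0, 0, 0, 0, 0, 0, 0, 0, 0, 0, 0, 0, 0, 1, 1]))) (.node (.leaf ([])) (.leaf ([0, 0, 0, 0, 0, 0, 0,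 1, 0, 0, 0, 0, 0, 0, 0, 0, 0, 0, 0, 0, 0, 0, 0, 0, 0, 0, 0, 0, 0, 0, 0, 0, (-1)])))) (.node (.node (.node (.leaf ([])) (.leaf ([]))) (.leaf ([(-8), (-19), 0, (-8), 12, 17, 20, 4, 0, 8, (-20), 4, 3, 0, 0, 0, (-4), 6, 0, 0, 0, 0, 0, 0, 0, 4, (-11), (-6), (-3), 7, (-1), (-1), 1, 1, 0, 0, (-1), 0, 0, 0, 0, 0, 0, 0, 0, 0, 1, 0, (-1)]))) (.node (.leaf ([])) (.leaf ([]))))) (.node (.node (.node (.node (.leaf ([])) (.leaf ([]))) (.leaf ([]))) (.node (.leaf ([(-26), (-67), 6, (-87), 33, 78, 59, 62, 0, (-1), (-107), (-14), (-8), 0, 0, 0, (-7), 52, 0, 0, 0, 0, 0, 0, 0, 31, (-52), (-48), (-39), 56, 21, (-7), 6, (-12), 0, (-3), (-5), 4, 0, (-1), 1, 1, (-1), 0, (-4), 0, 1, (-1), 4, 2])) (.leaf ([(-45), 12, (-63), 39, 221, (-163), 169, (-35), 0, (-212), 32, (-23), (-63), 0, 0, 0, (-85), 106, 0, 0, 0, 0, 0, 0, 0, 70, (-132), (-111), (-87), 110, 58, (-9), 30, (-22), 0, 1, (-4), 3, 2, (-3), 0, (-1), (-1), 6, 4, 3, 2, 4, 3, 1])))) (.node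 (.node (.node (.leaf ([10, 31, (-88), 253, (-101), (-72), (-12), 48, 0, 103, 96, (-27), (-30), 0, 0, 0, 110, (-104), 0, 0, 0, 0, 0, 0, 0, (-48), 56, 77, 101, (-69), (-106), (-7), (-8), (-23), (-3), (-2), 0, 3, 1, (-1), (-1), 3, 2, 10, 3, 0, 3, 4, 3, (-5)])) (.leaf ([(-527), (-570), 267, (-931), 2111, (-507), 451, 47, 0, (-1054), (-264), (-139), (-222), 0, 0, 0, (-542), 656, 0, 0, 0, 0, 0, 0, 0, 543, (-722), (-786), (-819), 720, 775, (-64), 83, (-45), 0, (-33), (-66), 45, 12, (-4), 1, 8, (-3), 7, (-34), 0, 2, 2, 27, 6]))) (.leaf ([4, 23, 4, (-4), (-1), (-21), (-5), (-11), 0, (-12), 12, 3, (-2), 0, 0, 0, (-7), 4, 0, 0, 0, 0, 0, 0, 0, (-1), 2, (-1), (-3), 0, 5, 0, 1, 0, 0, 0, (-1), 0, 0, 0, 1, 0, 0, 0, 0, 0, 0, 0, 0, 1]))) (.node (.leaf ([0, 0, 0, 0, 0, 0, 0, 1, 0, 0, 0, 0, 0, 0, 0, 0, 0, 0, 0, 0, 0, 0, 0, 0, 0, 0, 0, 0, 0, 0, 0, 0, (-1)])) (.leaf ([(-11), (-48), (-10), 21, 27, 20, 1, 28, 0, 27, (-8), (-7), 10, 0, 0, 0, 17,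 (-20), 0, 0, 0, 0, 0, 0, 0, (-6), 1, 5, 11, (-8), (-6), 2, (-5), 2, 0, 1, 0, (-1), 1, 1, (-1), (-1), 0, (-2), 0, (-1), (-1), 0, (-3)])))))

/-- data -/
def val0_11011 : Trie (Vec) := .node (.node (.node (.node (.node (.leaf ([])) (.leaf ([26, 67, (-6), 87, (-33), (-78), (-59), (-62), 0, 1, 107, 14, 8, 0, 0, 0, 7, (-52), 0, 0, 0, 0, 0, 0, 0, (-31), 52, 48, 39, (-56), (-21), 7, (-5), 12, 0, 3, 5, (-4), 0, 1, (-1), (-1), 1, 0, 4, 0, (-1), 1, (-4), (-2)]))) (.leaf ([]))) (.node (.leaf ([])) (.leaf ([])))) (.node (.node (.node (.leaf ([])) (.leaf ([501, 608, (-275), 874, (-1819), 304, (-363), (-21), 0, 756, 316, 94, 203, 0, 0, 0, 414, (-532), 0, 0, 0, 0, 0, 0, 0, (-471), 597, 642, 679, (-618), (-633), 59, (-128), 37, (-1), 24, 50, (-27), (-8), 3, (-3), (-13), 4, (-4), 18, (-1), (-12), 2, (-24), (-8)]))) (.leaf ([3, 7, 62, (-174), 55, 35, 15, (-60), 0, (-101), (-41), 21, 20, 0, 0, 0, (-91), 71, 0, 0, 0, 0, 0, 0, 0, 43, (-47),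 (-54), (-75), 58, 71, 5, 15, 19, 2, 1, 2, (-4), (-1), (-1), 0, (-2), (-1), (-6), 0, 1, (-1), (-1), (-2), 3]))) (.node (.leaf ([6, 44, 12, (-25), (-19), (-18), (-3), (-29), 0, (-16), (-1), 12, (-8), 0, 0, 0, (-15), 20, 0, 0, 0, 0, 0, 0, 0, 3, 5, (-2), (-10), 4, 6, (-2), 4, (-2), 0, (-1), 0, 1, (-1), (-1), 1, 1, 0, 2, 0, 1, 1, 0, 3])) (.leaf ([0, 0, 0, 0, 0, 0, 0, 1, 0, 0, 0, 0, 0, 0, 0, 0, 0, 0, 0, 0, 0, 0, 0, 0, 0, 0, 0, 0, 0, 0, 0, 0, (-1)]))))) (.node (.node (.node (.node (.leaf ([])) (.leaf ([]))) (.leaf ([]))) (.node (.leaf ([])) (.leaf ([])))) (.node (.node (.node (.leaf ([])) (.leaf ([324, 435, (-225), 514, (-1310), 276, (-116), (-45), 0, 520, 79, 89, 100, 0, 0, 0, 277, (-278), 0, 0, 0, 0, 0, 0, 0, (-279), 350, 410, 407, (-326), (-456), 30, (-50), 19, 2, 17, 45, (-22), (-13), (-8), 4, (-6), 0, 3, 17, 1, (-3), 2, (-6), (-4)]))) (.leaf ([58, 79, (-81), 126, (-204), 12, 14, 29, 0, 5, 38, (-24), (-20), 0, 0, 0, 54, (-19),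 0, 0, 0, 0, 0, 0, 0, (-30), 22, 31, 54, (-14), (-56), (-1), 10, (-19), (-1), 2, 3, 1, 0, (-1), 1, (-2), 0, 0, 0, 2, (-2), 2, 5, 1]))) (.node (.leaf ([])) (.leaf ([0, 0, 0, 0, 0, 0, 0, 0, 0, 0, 0, 0, 0, 0, 0, 0, 0, 0, 0, 0, 0, 0, 0, 0, 0, 0, 0, 0, 0, 0, 0, 0, 0, 0, 0, 0, 0, 0, 0, 0, 0, 0, 0, 0, 0, 0, 1])))))

/-- data -/
def val0_11100 : Trie (Vec) := .node (.node (.node (.node (.node (.leaf ([])) (.leaf ([0, 0, 0, 0, 0, 0, 0, 1, 0, 0, 0, 0, 0, 0, 0, 0, 0, 0, 0, 0, 0, 0, 0, 0, 0, 0, 0, 0, 0, 0, 0, 0, (-1)]))) (.leaf ([]))) (.node (.node (.leaf ([])) (.leaf ([42, (-31), 10, 49, (-183), 138, (-78), 7, 0, 152, 1, 33, 40, 0, 0, 0, 64, (-72), 0, 0, 0, 0, 0, 0, 0, (-45), 79, 83, 101, (-75), (-65), 11, (-24), 15, 0, 5, 5, (-2), 1, 5, (-1), (-3), 1, (-2), 0, (-1), (-5), (-2), (-3), (-1)]))) (.leaf ([56, 103, 31, (-53), (-149), 20, (-42), (-7), 0, 5, 14, 8, 31, 0, 0, 0, 5, (-23), 0, 0, 0, 0, 0, 0, 0, (-14), 27, 19, 8, (-19), (-12),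 2, (-14), 4, 1, (-1), 1, 0, (-2), 0, 2, 0, 0, 0, (-3), 0, 0, (-2), 0, (-1)])))) (.node (.node (.node (.leaf ([])) (.leaf ([66, 121, 4, 52, (-182), (-24), (-119), (-15), 0, 35, 82, (-1), 15, 0, 0, 0, 43, (-67), 0, 0, 0, 0, 0, 0, 0, (-51), 91, 63, 54, (-72), (-24), 5, (-6), (-1), (-1), 2, 2, 0, 0, 3, 0, (-1), 1, 0, (-1), 1, (-2), 0, 1]))) (.leaf ([]))) (.node (.leaf ([0, 0, 0, 0, 0, 0, 0, 1, 0, 0, 0, 0, 0, 0, 0, 0, 0, 0, 0, 0, 0, 0, 0, 0, 0, 0, 0, 0, 0, 0, 0, 0, (-1)])) (.leaf ([0, 0, 0, 0, 0, 0, 0, 1, 0, 0, 0, 0, 0, 0, 0, 0, 0, 0, 0, 0, 0, 0, 0, 0, 0, 0, 0, 0, 0, 0, 0, 0, (-1)]))))) (.node (.node (.node (.node (.leaf ([])) (.leaf ([0, 0, 0, 0, 0, 0, 0, 0, 0, 0, 0, 0, 0, 0, 0, 0, 0, 0, 0, 0, 0, 0, 0, 0, 0, 0, 0, 0, 0, 0, 0, 0, 0, 0, 1]))) (.leaf ([]))) (.node (.leaf ([0, 0, 0, 0, 0, 0, 0, 1, 0, 0, 0, 0, 0, 0, 0, 0, 0, 0, 0, 0, 0, 0, 0, 0, 0, 0, 0, 0, 0, 0, 0, 0, (-1)])) (.leaf ([])))) (.node (.node (.node (.leaf ([])) (.leaf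 ([(-59), (-98), (-3), (-48), 166, 10, 110, 5, 0, (-43), (-71), 4, (-19), 0, 0, 0, (-51), 71, 0, 0, 0, 0, 0, 0, 0, 47, (-87), (-63), (-56), 65, 25, (-5), 5, 1, 1, (-2), (-2), 0, 0, (-4), 0, 1, (-1), 0, 1, (-1), 2, 0, (-1)]))) (.leaf ([0, 0, 0, 0, 0, 0, 0, 1, 0, 0, 0, 0, 0, 0, 0, 0, 0, 0, 0, 0, 0, 0, 0, 0, 0, 0, 0, 0, 0, 0, 0, 0, (-1)]))) (.node (.leaf ([])) (.leaf ([(-31), 41, (-6), (-55), 139, (-115), 66, (-11), 0, (-133), (-3), (-23), (-37), 0, 0, 0, (-56), 63, 0, 0, 0, 0, 0, 0, 0, 38, (-71), (-75), (-97), 68, 58, (-11), 23, (-15), 0, (-5), (-5), 2, (-1), (-5), 1, 3, (-1), 2, 0, 1, 5, 2, 3, 1])))))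

/-- data -/
def val0_11101 : Trie (Vec) := .node (.node (.node (.node (.node (.leaf ([])) (.leaf ([]))) (.leaf ([]))) (.node (.leaf ([])) (.leaf ([])))) (.node (.node (.node (.leaf ([])) (.leaf ([20, 31, (-12), 38, (-87), 12, (-26), 3, 0, 41, 6, 3, 1, 0, 0, 0, 20, (-19), 0, 0, 0, 0, 0, 0, 0, (-25), 32, 28, 28, (-31), (-25), 1, (-2), (-1), 0, 1, 2, (-1)]))) (.leaf ([15, 64, (-31), 151, (-58), (-92), (-61), 1, 0, 45, 89, (-10), (-32), 0, 0, 0, 63, (-60), 0, 0, 0, 0, 0, 0, 0, (-47), 65, 52, 57, (-67), (-43), (-7), (-13), (-21), (-1), (-1), (-3), 4, 1, 1, 1, 4, 1, 6, 0, (-1), 3, 0, 1, (-3)]))) (.node (.leaf ([0, 0, 0, 0, 0, 0, 0, 1, 0, 0, 0, 0, 0, 0, 0, 0, 0, 0, 0, 0, 0, 0, 0, 0, 0, 0, 0, 0, 0, 0, 0, 0, (-1)])) (.leaf ([(-20), (-31), 12, (-38), 87, (-12), 26, (-2), 0, (-41), (-6), (-3), (-1), 0, 0, 0, (-20), 19, 0, 0, 0, 0, 0, 0, 0, 25, (-32), (-28), (-28), 31, 25, (-1), 1, 1, 0, (-1), (-2), 1]))))) (.node (.node (.node (.node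 (.leaf ([])) (.leaf ([(-13), (-28), (-3), (-16), 8, 30, 18, 12, 0, 27, (-39), 4, 2, 0, 0, 0, 8, 5, 0, 0, 0, 0, 0, 0, 0, 5, (-5), (-2), (-7), 7, (-5), (-2), 0, 2, 0, 0, 1, 0, (-1), (-1), 1, 0, 0, 2, 0, 0, 0, 0, 1]))) (.leaf ([]))) (.node (.leaf ([])) (.leaf ([(-1024), (-1205), 312, (-904), 4292, (-1409), 824, (-99), 0, (-2165), 122, (-329), (-633), 0, 0, 0, (-1072), 1125, 0, 0, 0, 0, 0, 0, 0, 957, (-1294), (-1354), (-1303), 1186, 1353, (-116), 198, (-100), (-7), (-48), (-112), 63, 33, (-6), (-18), 18, (-1), 21, (-22), 0, 15, 23, 32, 10])))) (.node (.node (.node (.leaf ([])) (.leaf ([279, 448, 148, (-48), (-709), 61, (-336), (-277), 0, 10, 252, 113, 55, 0, 0, 0, (-35), (-76), 0, 0, 0, 0, 0, 0, 0, (-87), 202, 171, 121, (-178), (-78), 26, (-50), 49, (-2), 12, 20, (-6), (-7), 8, 0, (-3), 3, 3, 1, (-1), (-8), (-4), (-5), (-3)]))) (.leaf ([(-8), (-11), 6, (-24), 49, (-11), 14, (-6), 0, (-36), 0, (-1), (-1), 0, 0, 0, (-15), 15,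 0, 0, 0, 0, 0, 0, 0, 17, (-26), (-21), (-20), 24, 15, 0, (-1)]))) (.node (.leaf ([])) (.leaf ([0, 0, 0, 0, 0, 0, 0, 0, 0, 0, 0, 0, 0, 0, 0, 0, 0, 0, 0, 0, 0, 0, 0, 0, 0, 0, 0, 0, 0, 0, 0, 0, 0, 0, 0, 0, 0, 0, 1])))))

/-- data -/
def val0_11110 : Trie (Vec) := .node (.node (.node (.node (.node (.leaf ([])) (.leaf ([(-6), (-14), (-6), 4, 14, 4, 13, 8, 0, 3, (-8), (-2), 2, 0, 0, 0, 2, 1, 0, 0, 0, 0, 0, 0, 0, 1, (-6), (-2), 0, 4, (-2), 0, 0, 0, 0, 0, 0, 0, 0, 0, 0, (-1), 0, 0, 0, 0, 0, 1]))) (.leaf ([]))) (.node (.leaf ([])) (.leaf ([])))) (.node (.node (.node (.leaf ([0, 0, 0, 0, 0, 0, 0, 1, 0, 0, 0, 0, 0, 0, 0, 0, 0, 0, 0, 0, 0, 0, 0, 0, 0, 0, 0, 0, 0, 0, 0, 0, (-1)])) (.leaf ([187, 400, 115, (-152), (-325), (-92), (-93), (-288), 0, (-306), 198, 69, (-4), 0, 0, 0, (-228), 123, 0, 0, 0, 0, 0, 0, 0, 8, 17, (-19), (-55), (-8), 68, 12, 11, 17, (-1), 5, 8, (-4), 1, 3, (-2), (-1), 0, (-4), 4, 4, (-2), 0, 0, 4]))) (.leaf ([(-1),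 17, (-8), 15, 26, (-41), (-4), (-9), 0, (-35), 23, (-7), (-8), 0, 0, 0, (-11), 4, 0, 0, 0, 0, 0, 0, 0, 4, (-4), (-7), (-13), 6, 12, 0, (-4), (-1), 0, (-1), 0, 0, 0, (-1), (-1), 0, 0, 0, 0, 0, 0, 2]))) (.node (.leaf ([0, 0, 0, 0, 0, 0, 0, 0, 0, 0, 0, 0, 0, 0, 0, 0, 0, 0, 0, 0, 0, 0, 0, 0, 0, 0, 0, 0, 0, 0, 0, 2, 1])) (.leaf ([]))))) (.node (.node (.node (.node (.leaf ([])) (.leaf ([0, 0, 0, 0, 0, 0, 0, 0, 0, 0, 0, 0, 0, 0, 0, 0, 0, 0, 0, 0, 0, 0, 0, 0, 0, 0, 0, 0, 0, 0, 0, 0, 0, 0, 0, 0, 0, 0, 0, 1]))) (.leaf ([]))) (.node (.leaf ([])) (.leaf ([0, 0, 0, 0, 0, 0, 0, 1, 0, 0, 0, 0, 0, 0, 0, 0, 0, 0, 0, 0, 0, 0, 0, 0, 0, 0, 0, 0, 0, 0, 0, 0, (-1)])))) (.node (.node (.node (.leaf ([])) (.leaf ([(-3), 8, (-62), 171, (-58), (-43), (-25), 56, 0, 106, 33, (-15), (-17), 0, 0, 0, 88, (-68), 0, 0, 0, 0, 0, 0, 0, (-46), 43, 50, 70, (-64), (-73), (-6), (-14), (-19), (-2), (-1), (-2), 4, 1, 0, 0, 2, 2, 6, 0, (-1), 1, 1, 2, (-3)]))) (.leaf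 ([]))) (.node (.leaf ([])) (.leaf ([0, 0, 0, 0, 0, 0, 0, 1, 0, 0, 0, 0, 0, 0, 0, 0, 0, 0, 0, 0, 0, 0, 0, 0, 0, 0, 0, 0, 0, 0, 0, 0, (-1), 0, 0, 0, 0, 0, 0, 0, 0, 0, 0, 0, 0, 0, 0, 0, (-1)])))))

/-- data -/
def val0_11111 : Trie (Vec) := .node (.node (.node (.node (.node (.leaf ([])) (.leaf ([(-85), (-132), 67, (-127), 265, (-1), (-7), 11, 0, 22, (-79), 14, 28, 0, 0, 0, (-45), 20, 0, 0, 0, 0, 0, 0, 0, 30, (-24), (-36), (-58), 16, 63, 1, (-6), 23, 1, (-1), (-3), (-1), 0, 1, 0, 2, 0, (-3), (-3), (-2), 1, (-3), (-5), (-1)]))) (.leaf ([]))) (.node (.leaf ([])) (.leaf ([13, 28, 3, 16, (-8), (-30), (-18), (-11), 0, (-27), 39, (-4), (-2), 0, 0, 0, (-8), (-5), 0, 0, 0, 0, 0, 0, 0, (-5), 5, 2, 7, (-7), 5, 1, (-2), (-2), 0, 0, (-1), 0, 1, 1, (-1), 0, 0, (-2), 0, 0, 0, 0, (-1)])))) (.node (.node (.node (.leaf ([])) (.leaf ([20, (-330), 63, (-92), (-455), 688, (-27), 87, 0, 632, (-365), 141, 174, 0, 0, 0, 138, (-132), 0, 0, 0, 0,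 0, 0, 0, (-89), 154, 212, 193, (-159), (-222), 32, (-96), 92, 8, 4, 22, (-17), (-8), (-1), 3, (-1), (-3), (-11), 0, (-10), (-5), (-11), (-17), (-8)]))) (.leaf ([]))) (.node (.leaf ([])) (.leaf ([0, 0, 0, 0, 0, 0, 0, 1, 0, 0, 0, 0, 0, 0, 0, 0, 0, 0, 0, 0, 0, 0, 0, 0, 0, 0, 0, 0, 0, 0, 0, (-1), (-2)]))))) (.node (.node (.node (.node (.leaf ([])) (.leaf ([(-2), (-18), 2, (-10), 1, 24, 10, (-2), 0, 3, (-10), 6, 3, 0, 0, 0, (-4), 6, 0, 0, 0, 0, 0, 0, 0, 4, (-8), (-3), 0, 5, (-1), 1, (-3), 5, 0, 0, 0, 0, 0, 0, 0, (-1), 0, 0, 0, 0, (-1)]))) (.leaf ([]))) (.node (.leaf ([])) (.leaf ([(-599), (-604), 529, (-1544), 2281, (-337), 418, (-111), 0, (-951), (-600), 12, (-75), 0, 0, 0, (-725), 761, 0, 0, 0, 0, 0, 0, 0, 602, (-740), (-834), (-1036), 762, 901, (-45), 59, 68, 9, (-35), (-51), 29, (-1), (-11), 8, 11, (-7), 0, (-32), (-4), 6, (-7), 15, 5])))) (.node (.node (.node (.leaf ([])) (.leaf ([(-68), (-152), 34, (-170), 153, 116, 94,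 80, 0, (-12), (-157), (-11), (-1), 0, 0, 0, (-29), 75, 0, 0, 0, 0, 0, 0, 0, 63, (-94), (-85), (-75), 97, 50, (-11), 7, (-10), 0, (-5), (-10), 6, 1, (-1), 2, 2, (-1), 0, (-5), 0, 2, (-2), 4, 2]))) (.leaf ([48, 73, (-78), 115, (-179), 7, 25, 31, 0, 12, 21, (-21), (-15), 0, 0, 0, 52, (-18), 0, 0, 0, 0, 0, 0, 0, (-28), 14, 24, 44, (-10), (-51), (-3), 9, (-18), (-1), 2, 2, 1, 0, (-1), 1, (-2), 0, 1, 1, 2, (-1), 2, 4, 1]))) (.node (.leaf ([])) (.leaf ([0, 0, 0, 0, 0, 0, 0, 0, 0, 0, 0, 0, 0, 0, 0, 0, 0, 0, 0, 0, 0, 0, 0, 0, 0, 0, 0, 1, 0, 0, 0, 0, (-1), 3, 0, 0, 0, 0, 0, 0, 0, (-1)])))))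

/-- data -/
def val0 : Trie (Vec) := .node (.node (.node (.node (.node (val0_00000) (val0_00001)) (val0_0001)) (.node (val0_0010) (val0_0011))) (.node (.node (val0_0100) (.node (val0_01010) (val0_01011))) (.node (.node (val0_01100) (val0_01101)) (val0_0111)))) (.node (.node (.node (val0_1000) (val0_1001)) (.node (val0_1010) (val0_1011))) (.node (.node (val0_1100) (.node (val0_11010) (val0_11011))) (.node (.node (val0_11100) (val0_11101)) (.node (val0_11110) (val0_11111)))))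

/-- data -/
def rank0_00 : Trie (ℕ) := .node (.node (.node (.node (.node (.node (.node (.node (.leaf 0) (.leaf 105)) (.leaf 0)) (.node (.node (.leaf 0) (.leaf 322)) (.leaf 0))) (.node (.node (.node (.leaf 0) (.leaf 119)) (.leaf 68)) (.node (.leaf 41) (.leaf 91)))) (.node (.node (.node (.node (.leaf 0) (.leaf 0)) (.leaf 61)) (.node (.leaf 35) (.leaf 0))) (.node (.node (.node (.leaf 0) (.leaf 0)) (.leaf 302)) (.node (.leaf 163) (.leaf 99))))) (.node (.node (.node (.node (.node (.leaf 0) (.leaf 0)) (.leaf 293)) (.node (.leaf 32) (.leaf 83))) (.node (.node (.node (.leaf 0) (.leaf 124)) (.leaf 222)) (.node (.leaf 173) (.leaf 0)))) (.node (.node (.node (.node (.leaf 12) (.leaf 116)) (.leaf 64)) (.node (.leaf 0) (.leaf 176))) (.node (.node (.node (.leaf 25) (.leaf 297)) (.leaf 78)) (.node (.leaf 0) (.leaf 307)))))) (.node (.node (.node (.node (.node (.node (.leaf 4) (.leaf 296)) (.leaf 229)) (.node (.leaf 0) (.leaf 82))) (.node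 (.node (.node (.leaf 0) (.leaf 0)) (.leaf 0)) (.node (.leaf 0) (.leaf 0)))) (.node (.node (.node (.node (.leaf 0) (.leaf 114)) (.leaf 63)) (.node (.leaf 0) (.leaf 87))) (.node (.node (.node (.leaf 0) (.leaf 0)) (.leaf 160)) (.node (.leaf 49) (.leaf 101))))) (.node (.node (.node (.node (.node (.leaf 7) (.leaf 325)) (.leaf 60)) (.node (.leaf 33) (.leaf 200))) (.node (.node (.node (.leaf 2) (.leaf 126)) (.leaf 74)) (.node (.leaf 0) (.leaf 97)))) (.node (.node (.node (.node (.leaf 0) (.leaf 243)) (.leaf 0)) (.node (.leaf 39) (.leaf 89))) (.node (.node (.node (.leaf 27) (.leaf 274)) (.leaf 0)) (.node (.leaf 52) (.leaf 254))))))) (.node (.node (.node (.node (.node (.node (.node (.leaf 0) (.leaf 0)) (.leaf 0)) (.node (.node (.leaf 0) (.leaf 135)) (.leaf 0))) (.node (.node (.node (.leaf 16) (.leaf 121)) (.leaf 69)) (.node (.leaf 42) (.leaf 92)))) (.node (.node (.node (.node (.leaf 0) (.leaf 113)) (.leaf 252)) (.node (.leaf 36)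 (.leaf 234))) (.node (.node (.node (.leaf 23) (.leaf 0)) (.leaf 76)) (.node (.leaf 0) (.leaf 100))))) (.node (.node (.node (.node (.node (.leaf 0) (.leaf 109)) (.leaf 59)) (.node (.leaf 0) (.leaf 84))) (.node (.node (.node (.leaf 0) (.leaf 125)) (.leaf 0)) (.node (.leaf 45) (.leaf 0)))) (.node (.node (.node (.node (.leaf 13) (.leaf 118)) (.leaf 65)) (.node (.leaf 38) (.leaf 88))) (.node (.node (.node (.leaf 29) (.leaf 280)) (.leaf 190)) (.node (.leaf 0) (.leaf 312)))))) (.node (.node (.node (.node (.node (.node (.leaf 5) (.leaf 0)) (.leaf 0)) (.node (.leaf 31) (.leaf 0))) (.node (.node (.node (.leaf 18) (.leaf 308)) (.leaf 71)) (.node (.leaf 159) (.leaf 0)))) (.node (.node (.node (.node (.leaf 0) (.leaf 115)) (.leaf 0)) (.node (.leaf 0) (.leaf 291))) (.node (.node (.node (.leaf 24) (.leaf 270)) (.leaf 269)) (.node (.leaf 0) (.leaf 102))))) (.node (.node (.node (.node (.node (.leaf 8) (.leaf 111)) (.leaf 0)) (.node (.leaf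 34) (.leaf 0))) (.node (.node (.node (.leaf 21) (.leaf 127)) (.leaf 0)) (.node (.leaf 0) (.leaf 98)))) (.node (.node (.node (.node (.leaf 0) (.leaf 177)) (.leaf 226)) (.node (.leaf 0) (.leaf 0))) (.node (.node (.node (.leaf 0) (.leaf 133)) (.leaf 0)) (.node (.leaf 285) (.leaf 104)))))))

/-- data -/
def rank0_01 : Trie (ℕ) := .node (.node (.node (.node (.node (.node (.node (.node (.leaf 3) (.leaf 0)) (.leaf 55)) (.node (.node (.leaf 0) (.leaf 134)) (.leaf 81))) (.node (.node (.node (.leaf 0) (.leaf 120)) (.leaf 170)) (.node (.leaf 0) (.leaf 0)))) (.node (.node (.node (.node (.leaf 9) (.leaf 112)) (.leaf 0)) (.node (.leaf 0) (.leaf 86))) (.node (.node (.node (.leaf 22) (.leaf 129)) (.leaf 75)) (.node (.leaf 48) (.leaf 240))))) (.node (.node (.node (.node (.node (.leaf 6) (.leaf 108)) (.leaf 0)) (.node (.leaf 0) (.leaf 242))) (.node (.node (.node (.leaf 19) (.leaf 309)) (.leaf 72)) (.node (.leaf 0) (.leaf 95)))) (.node (.node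 (.node (.node (.leaf 0) (.leaf 117)) (.leaf 0)) (.node (.leaf 0) (.leaf 0))) (.node (.node (.node (.leaf 0) (.leaf 316)) (.leaf 0)) (.node (.leaf 51) (.leaf 0)))))) (.node (.node (.node (.node (.node (.node (.leaf 0) (.leaf 106)) (.leaf 57)) (.node (.leaf 0) (.leaf 256))) (.node (.node (.node (.leaf 0) (.leaf 123)) (.leaf 70)) (.node (.leaf 43) (.leaf 93)))) (.node (.node (.node (.node (.leaf 11) (.leaf 0)) (.leaf 0)) (.node (.leaf 37) (.leaf 0))) (.node (.node (.node (.leaf 0) (.leaf 310)) (.leaf 77)) (.node (.leaf 0) (.leaf 253))))) (.node (.node (.node (.node (.node (.leaf 0) (.leaf 110)) (.leaf 0)) (.node (.leaf 0) (.leaf 85))) (.node (.node (.node (.leaf 0) (.leaf 288)) (.leaf 248)) (.node (.leaf 46) (.leaf 0)))) (.node (.node (.node (.node (.leaf 14) (.leaf 323)) (.leaf 67)) (.node (.leaf 0) (.leaf 261))) (.node (.node (.node (.leaf 0) (.leaf 132)) (.leaf 79)) (.node (.leaf 53) (.leaf 235))))))) (.node (.node (.node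 (.node (.node (.node (.node (.leaf 0) (.leaf 238)) (.leaf 56)) (.node (.node (.leaf 30) (.leaf 279)) (.leaf 0))) (.node (.node (.node (.leaf 17) (.leaf 122)) (.leaf 211)) (.node (.leaf 0) (.leaf 0)))) (.node (.node (.node (.node (.leaf 10) (.leaf 225)) (.leaf 62)) (.node (.leaf 0) (.leaf 273))) (.node (.node (.node (.leaf 0) (.leaf 311)) (.leaf 0)) (.node (.leaf 0) (.leaf 246))))) (.node (.node (.node (.node (.node (.leaf 0) (.leaf 0)) (.leaf 224)) (.node (.leaf 0) (.leaf 0))) (.node (.node (.node (.leaf 20) (.leaf 0)) (.leaf 73)) (.node (.leaf 0) (.leaf 96)))) (.node (.node (.node (.node (.leaf 0) (.leaf 220)) (.leaf 66)) (.node (.leaf 0) (.leaf 0))) (.node (.node (.node (.leaf 26) (.leaf 131)) (.leaf 214)) (.node (.leaf 0) (.leaf 103)))))) (.node (.node (.node (.node (.node (.node (.leaf 0) (.leaf 107)) (.leaf 58)) (.node (.leaf 0) (.leaf 0))) (.node (.node (.node (.leaf 0) (.leaf 0)) (.leaf 0)) (.node (.leaf 44) (.leaf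 94)))) (.node (.node (.node (.node (.leaf 0) (.leaf 165)) (.leaf 174)) (.node (.leaf 0) (.leaf 0))) (.node (.node (.node (.leaf 0) (.leaf 130)) (.leaf 0)) (.node (.leaf 50) (.leaf 0))))) (.node (.node (.node (.node (.node (.leaf 0) (.leaf 0)) (.leaf 0)) (.node (.leaf 0) (.leaf 175))) (.node (.node (.node (.leaf 0) (.leaf 128)) (.leaf 0)) (.node (.leaf 47) (.leaf 0)))) (.node (.node (.node (.node (.leaf 15) (.leaf 236)) (.leaf 0)) (.node (.leaf 40) (.leaf 90))) (.node (.node (.node (.leaf 28) (.leaf 276)) (.leaf 80)) (.node (.leaf 54) (.leaf 0)))))))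

/-- data -/
def rank0_10 : Trie (ℕ) := .node (.node (.node (.node (.node (.node (.node (.node (.leaf 0) (.leaf 146)) (.leaf 153)) (.node (.node (.leaf 149) (.leaf 299)) (.leaf 0))) (.node (.node (.node (.leaf 136) (.leaf 168)) (.leaf 0)) (.node (.leaf 0) (.leaf 144)))) (.node (.node (.node (.node (.leaf 0) (.leaf 295)) (.leaf 0)) (.node (.leaf 138) (.leaf 0))) (.node (.node (.node (.leaf 0) (.leaf 0)) (.leaf 0)) (.node (.leaf 179) (.leaf 0))))) (.node (.node (.node (.node (.node (.leaf 0) (.leaf 0)) (.leaf 188)) (.node (.leaf 0) (.leaf 0))) (.node (.node (.node (.leaf 0) (.leaf 324)) (.leaf 0)) (.node (.leaf 0) (.leaf 208)))) (.node (.node (.node (.node (.leaf 0) (.leaf 0)) (.leaf 158)) (.node (.leaf 0) (.leaf 0))) (.node (.node (.node (.leaf 0) (.leaf 185)) (.leaf 275)) (.node (.leaf 155) (.leaf 281)))))) (.node (.node (.node (.node (.node (.node (.leaf 0) (.leaf 0)) (.leaf 182)) (.node (.leaf 0) (.leaf 0))) (.node (.node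 (.node (.leaf 0) (.leaf 0)) (.leaf 196)) (.node (.leaf 0) (.leaf 250)))) (.node (.node (.node (.node (.leaf 0) (.leaf 199)) (.leaf 192)) (.node (.leaf 0) (.leaf 227))) (.node (.node (.node (.leaf 0) (.leaf 0)) (.leaf 0)) (.node (.leaf 0) (.leaf 0))))) (.node (.node (.node (.node (.node (.leaf 1) (.leaf 258)) (.leaf 0)) (.node (.leaf 0) (.leaf 178))) (.node (.node (.node (.leaf 0) (.leaf 290)) (.leaf 283)) (.node (.leaf 0) (.leaf 268)))) (.node (.node (.node (.node (.leaf 0) (.leaf 180)) (.leaf 0)) (.node (.leaf 0) (.leaf 0))) (.node (.node (.node (.leaf 0) (.leaf 271)) (.leaf 286)) (.node (.leaf 247) (.leaf 195))))))) (.node (.node (.node (.node (.node (.node (.node (.leaf 0) (.leaf 0)) (.leaf 0)) (.node (.node (.leaf 0) (.leaf 282)) (.leaf 0))) (.node (.node (.node (.leaf 0) (.leaf 156)) (.leaf 0)) (.node (.leaf 0) (.leaf 0)))) (.node (.node (.node (.node (.leaf 142) (.leaf 294)) (.leaf 0)) (.node (.leaf 0) (.leaf 0)))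 (.node (.node (.node (.leaf 0) (.leaf 207)) (.leaf 244)) (.node (.leaf 0) (.leaf 0))))) (.node (.node (.node (.node (.node (.leaf 0) (.leaf 147)) (.leaf 0)) (.node (.leaf 0) (.leaf 0))) (.node (.node (.node (.leaf 0) (.leaf 197)) (.leaf 315)) (.node (.leaf 0) (.leaf 231)))) (.node (.node (.node (.node (.leaf 0) (.leaf 0)) (.leaf 0)) (.node (.leaf 0) (.leaf 166))) (.node (.node (.node (.leaf 0) (.leaf 318)) (.leaf 0)) (.node (.leaf 314) (.leaf 300)))))) (.node (.node (.node (.node (.node (.node (.leaf 0) (.leaf 0)) (.leaf 0)) (.node (.leaf 0) (.leaf 0))) (.node (.node (.node (.leaf 0) (.leaf 0)) (.leaf 0)) (.node (.leaf 181) (.leaf 221)))) (.node (.node (.node (.node (.leaf 137) (.leaf 164)) (.leaf 0)) (.node (.leaf 0) (.leaf 0))) (.node (.node (.node (.leaf 0) (.leaf 305)) (.leaf 264)) (.node (.leaf 0) (.leaf 0))))) (.node (.node (.node (.node (.node (.leaf 0) (.leaf 267)) (.leaf 0)) (.node (.leaf 0) (.leaf 0))) (.node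 (.node (.node (.leaf 0) (.leaf 284)) (.leaf 0)) (.node (.leaf 0) (.leaf 167)))) (.node (.node (.node (.node (.leaf 0) (.leaf 206)) (.leaf 154)) (.node (.leaf 0) (.leaf 219))) (.node (.node (.node (.leaf 0) (.leaf 301)) (.leaf 0)) (.node (.leaf 0) (.leaf 209)))))))

/-- data -/
def rank0_11 : Trie (ℕ) := .node (.node (.node (.node (.node (.node (.node (.node (.leaf 0) (.leaf 0)) (.leaf 245)) (.node (.node (.leaf 0) (.leaf 313)) (.leaf 143))) (.node (.node (.node (.leaf 0) (.leaf 0)) (.leaf 0)) (.node (.leaf 0) (.leaf 0)))) (.node (.node (.node (.node (.leaf 0) (.leaf 0)) (.leaf 0)) (.node (.leaf 0) (.leaf 0))) (.node (.node (.node (.leaf 0) (.leaf 0)) (.leaf 259)) (.node (.leaf 183) (.leaf 0))))) (.node (.node (.node (.node (.node (.leaf 0) (.leaf 228)) (.leaf 0)) (.node (.leaf 0) (.leaf 0))) (.node (.node (.node (.leaf 0) (.leaf 0)) (.leaf 0)) (.node (.leaf 171) (.leaf 0)))) (.node (.node (.node (.node (.leaf 0) (.leaf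 263)) (.leaf 0)) (.node (.leaf 172) (.leaf 202))) (.node (.node (.node (.leaf 0) (.leaf 320)) (.leaf 184)) (.node (.leaf 0) (.leaf 193)))))) (.node (.node (.node (.node (.node (.node (.leaf 0) (.leaf 223)) (.leaf 141)) (.node (.leaf 0) (.leaf 191))) (.node (.node (.node (.leaf 0) (.leaf 0)) (.leaf 212)) (.node (.leaf 0) (.leaf 0)))) (.node (.node (.node (.node (.leaf 0) (.leaf 0)) (.leaf 0)) (.node (.leaf 251) (.leaf 292))) (.node (.node (.node (.leaf 278) (.leaf 306)) (.leaf 189)) (.node (.leaf 151) (.leaf 239))))) (.node (.node (.node (.node (.node (.leaf 0) (.leaf 257)) (.leaf 0)) (.node (.leaf 0) (.leaf 0))) (.node (.node (.node (.leaf 0) (.leaf 289)) (.leaf 255)) (.node (.leaf 237) (.leaf 218)))) (.node (.node (.node (.node (.leaf 0) (.leaf 0)) (.leaf 0)) (.node (.leaf 0) (.leaf 0))) (.node (.node (.node (.leaf 0) (.leaf 304)) (.leaf 262)) (.node (.leaf 0) (.leaf 169))))))) (.node (.node (.node (.node (.node (.node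 (.node (.leaf 0) (.leaf 194)) (.leaf 0)) (.node (.node (.leaf 0) (.leaf 272)) (.leaf 241))) (.node (.node (.node (.leaf 0) (.leaf 232)) (.leaf 0)) (.node (.leaf 152) (.leaf 148)))) (.node (.node (.node (.node (.leaf 0) (.leaf 157)) (.leaf 0)) (.node (.leaf 140) (.leaf 0))) (.node (.node (.node (.leaf 0) (.leaf 233)) (.leaf 201)) (.node (.leaf 0) (.leaf 266))))) (.node (.node (.node (.node (.node (.leaf 0) (.leaf 0)) (.leaf 0)) (.node (.leaf 0) (.leaf 0))) (.node (.node (.node (.leaf 0) (.leaf 215)) (.leaf 287)) (.node (.leaf 150) (.leaf 217)))) (.node (.node (.node (.node (.leaf 0) (.leaf 216)) (.leaf 0)) (.node (.leaf 0) (.leaf 319))) (.node (.node (.node (.leaf 0) (.leaf 321)) (.leaf 205)) (.node (.leaf 0) (.leaf 161)))))) (.node (.node (.node (.node (.node (.node (.leaf 0) (.leaf 203)) (.leaf 0)) (.node (.leaf 0) (.leaf 0))) (.node (.node (.node (.leaf 145) (.leaf 317)) (.leaf 230)) (.node (.leaf 139) (.leaf 0)))) (.node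 (.node (.node (.node (.leaf 0) (.leaf 162)) (.leaf 0)) (.node (.leaf 0) (.leaf 187))) (.node (.node (.node (.leaf 0) (.leaf 265)) (.leaf 0)) (.node (.leaf 0) (.leaf 198))))) (.node (.node (.node (.node (.node (.leaf 0) (.leaf 277)) (.leaf 0)) (.node (.leaf 0) (.leaf 213))) (.node (.node (.node (.leaf 0) (.leaf 298)) (.leaf 0)) (.node (.leaf 0) (.leaf 186)))) (.node (.node (.node (.node (.leaf 0) (.leaf 210)) (.leaf 0)) (.node (.leaf 0) (.leaf 303))) (.node (.node (.node (.leaf 0) (.leaf 260)) (.leaf 249)) (.node (.leaf 0) (.leaf 204)))))))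

/-- data -/
def rank0 : Trie (ℕ) := .node (.node (rank0_00) (rank0_01)) (.node (rank0_10) (rank0_11))

/-- data -/
def tree0 : Trie (ℕ × ℕ) := .node (.node (.node (.node (.node (.node (.node (.node (.node (.leaf (0, 0)) (.leaf (208, 0))) (.leaf (86, 1))) (.node (.node (.leaf (42, 1)) (.leaf (305, 1))) (.leaf (142, 1)))) (.node (.node (.node (.leaf (20, 1)) (.leaf (247, 0))) (.leaf (114, 0))) (.node (.leaf (65, 0)) (.leaf (174, 0))))) (.node (.node (.node (.node (.leaf (9, 1)) (.leaf (226, 1))) (.leaf (97, 0))) (.node (.leaf (53, 0)) (.leaf (155, 1)))) (.node (.node (.node (.leaf (31, 1)) (.leaf (273, 1))) (.leaf (127, 1))) (.node (.leaf (74, 1)) (.leaf (194, 0)))))) (.node (.node (.node (.node (.node (.leaf (4, 1)) (.leaf (216, 1))) (.leaf (91, 1))) (.node (.leaf (48, 0)) (.leaf (149, 0)))) (.node (.node (.node (.leaf (26, 1)) (.leaf (262, 0))) (.leaf (119, 1))) (.node (.leaf (69, 1)) (.leaf (183, 1))))) (.node (.node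 (.node (.node (.leaf (15, 0)) (.leaf (234, 0))) (.leaf (105, 0))) (.node (.leaf (59, 1)) (.leaf (162, 1)))) (.node (.node (.node (.leaf (37, 0)) (.leaf (292, 1))) (.leaf (137, 0))) (.node (.leaf (79, 1)) (.leaf (200, 1))))))) (.node (.node (.node (.node (.node (.node (.leaf (2, 0)) (.leaf (211, 1))) (.leaf (88, 1))) (.node (.leaf (45, 1)) (.leaf (145, 0)))) (.node (.node (.node (.leaf (23, 1)) (.leaf (257, 1))) (.leaf (116, 1))) (.node (.leaf (67, 1)) (.leaf (176, 1))))) (.node (.node (.node (.node (.leaf (11, 1)) (.leaf (230, 0))) (.leaf (100, 0))) (.node (.leaf (56, 1)) (.leaf (159, 0)))) (.node (.node (.node (.leaf (34, 1)) (.leaf (282, 1))) (.leaf (131, 1))) (.node (.leaf (77, 0)) (.leaf (198, 0)))))) (.node (.node (.node (.node (.node (.leaf (7, 0)) (.leaf (221, 1))) (.leaf (94, 0))) (.node (.leaf (51, 0)) (.leaf (151, 1)))) (.node (.node (.node (.leaf (28, 1)) (.leaf (267, 0))) (.leaf (123, 0))) (.node (.leaf (72,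 1)) (.leaf (190, 0))))) (.node (.node (.node (.node (.leaf (17, 1)) (.leaf (241, 1))) (.leaf (108, 1))) (.node (.leaf (62, 0)) (.leaf (167, 0)))) (.node (.node (.node (.leaf (40, 0)) (.leaf (297, 1))) (.leaf (140, 1))) (.node (.leaf (83, 0)) (.leaf (203, 1)))))))) (.node (.node (.node (.node (.node (.node (.node (.leaf (0, 1)) (.leaf (209, 1))) (.leaf (87, 1))) (.node (.node (.leaf (44, 1)) (.leaf (308, 0))) (.leaf (143, 1)))) (.node (.node (.node (.leaf (22, 0)) (.leaf (255, 0))) (.leaf (115, 0))) (.node (.leaf (66, 0)) (.leaf (175, 0))))) (.node (.node (.node (.node (.leaf (10, 1)) (.leaf (228, 0))) (.leaf (98, 1))) (.node (.leaf (55, 0)) (.leaf (156, 1)))) (.node (.node (.node (.leaf (33, 0)) (.leaf (277, 1))) (.leaf (130, 0))) (.node (.leaf (75, 1)) (.leaf (195, 0)))))) (.node (.node (.node (.node (.node (.leaf (5, 1)) (.leaf (219, 0))) (.leaf (93, 0))) (.node (.leaf (49, 1)) (.leaf (150, 0)))) (.node (.node (.node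 (.leaf (27, 1)) (.leaf (264, 0))) (.leaf (121, 1))) (.node (.leaf (71, 0)) (.leaf (186, 1))))) (.node (.node (.node (.node (.leaf (16, 0)) (.leaf (239, 0))) (.leaf (107, 0))) (.node (.leaf (61, 0)) (.leaf (164, 0)))) (.node (.node (.node (.leaf (38, 1)) (.leaf (294, 1))) (.leaf (138, 1))) (.node (.leaf (81, 1)) (.leaf (202, 1))))))) (.node (.node (.node (.node (.node (.node (.leaf (3, 0)) (.leaf (214, 1))) (.leaf (90, 1))) (.node (.leaf (47, 0)) (.leaf (146, 1)))) (.node (.node (.node (.leaf (25, 0)) (.leaf (258, 1))) (.leaf (118, 0))) (.node (.leaf (68, 1)) (.leaf (180, 1))))) (.node (.node (.node (.node (.leaf (13, 1)) (.leaf (232, 0))) (.leaf (101, 1))) (.node (.leaf (57, 1)) (.leaf (160, 1)))) (.node (.node (.node (.leaf (36, 0)) (.leaf (289, 1))) (.leaf (134, 1))) (.node (.leaf (78, 1)) (.leaf (199, 0)))))) (.node (.node (.node (.node (.node (.leaf (8, 0)) (.leaf (225, 0))) (.leaf (95, 1))) (.node (.leaf (52, 0))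 (.leaf (153, 1)))) (.node (.node (.node (.leaf (30, 0)) (.leaf (271, 0))) (.leaf (125, 1))) (.node (.leaf (73, 1)) (.leaf (192, 0))))) (.node (.node (.node (.node (.leaf (19, 1)) (.leaf (244, 1))) (.leaf (110, 1))) (.node (.leaf (63, 1)) (.leaf (169, 1)))) (.node (.node (.node (.leaf (41, 1)) (.leaf (304, 0))) (.leaf (141, 1))) (.node (.leaf (84, 1)) (.leaf (206, 0))))))))) (.node (.node (.node (.node (.node (.node (.node (.node (.leaf (0, 0)) (.leaf (208, 1))) (.leaf (87, 0))) (.node (.node (.leaf (43, 1)) (.leaf (306, 0))) (.leaf (143, 0)))) (.node (.node (.node (.leaf (21, 1)) (.leaf (249, 0))) (.leaf (114, 1))) (.node (.leaf (65, 1)) (.leaf (174, 1))))) (.node (.node (.node (.node (.leaf (10, 0)) (.leaf (227, 0))) (.leaf (97, 1))) (.node (.leaf (54, 1)) (.leaf (156, 0)))) (.node (.node (.node (.leaf (32, 0)) (.leaf (277, 0))) (.leaf (128, 0))) (.node (.leaf (75, 0)) (.leaf (194, 1)))))) (.node (.node (.node (.node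 (.node (.leaf (5, 0)) (.leaf (217, 0))) (.leaf (92, 1))) (.node (.leaf (48, 1)) (.leaf (149, 1)))) (.node (.node (.node (.leaf (27, 0)) (.leaf (262, 1))) (.leaf (120, 0))) (.node (.leaf (70, 1)) (.leaf (185, 0))))) (.node (.node (.node (.node (.leaf (15, 1)) (.leaf (237, 0))) (.leaf (106, 1))) (.node (.leaf (60, 1)) (.leaf (163, 1)))) (.node (.node (.node (.leaf (37, 1)) (.leaf (293, 1))) (.leaf (137, 1))) (.node (.leaf (81, 0)) (.leaf (201, 1))))))) (.node (.node (.node (.node (.node (.node (.leaf (2, 1)) (.leaf (213, 0))) (.leaf (89, 0))) (.node (.leaf (46, 1)) (.leaf (145, 1)))) (.node (.node (.node (.leaf (24, 1)) (.leaf (258, 0))) (.leaf (117, 0))) (.node (.leaf (68, 0)) (.leaf (179, 0))))) (.node (.node (.node (.node (.leaf (13, 0)) (.leaf (231, 1))) (.leaf (100, 1))) (.node (.leaf (57, 0)) (.leaf (159, 1)))) (.node (.node (.node (.leaf (35, 1)) (.leaf (285, 1))) (.leaf (134, 0))) (.node (.leaf (77, 1)) (.leaf (198,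 1)))))) (.node (.node (.node (.node (.node (.leaf (7, 1)) (.leaf (222, 0))) (.leaf (94, 1))) (.node (.leaf (51, 1)) (.leaf (153, 0)))) (.node (.node (.node (.leaf (29, 1)) (.leaf (267, 1))) (.leaf (123, 1))) (.node (.leaf (73, 0)) (.leaf (190, 1))))) (.node (.node (.node (.node (.leaf (18, 0)) (.leaf (242, 1))) (.leaf (110, 0))) (.node (.leaf (62, 1)) (.leaf (168, 1)))) (.node (.node (.node (.leaf (40, 1)) (.leaf (299, 0))) (.leaf (141, 0))) (.node (.leaf (84, 0)) (.leaf (205, 1)))))))) (.node (.node (.node (.node (.node (.node (.node (.leaf (1, 1)) (.leaf (210, 1))) (.leaf (88, 0))) (.node (.node (.leaf (45, 0)) (.leaf (308, 1))) (.leaf (144, 1)))) (.node (.node (.node (.leaf (23, 0)) (.leaf (257, 0))) (.leaf (115, 1))) (.node (.leaf (66, 1)) (.leaf (175, 1))))) (.node (.node (.node (.node (.leaf (11, 0)) (.leaf (229, 1))) (.leaf (99, 0))) (.node (.leaf (55, 1)) (.leaf (157, 1)))) (.node (.node (.node (.leaf (33, 1))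 (.leaf (280, 1))) (.leaf (130, 1))) (.node (.leaf (76, 1)) (.leaf (196, 1)))))) (.node (.node (.node (.node (.node (.leaf (6, 1)) (.leaf (220, 1))) (.leaf (93, 1))) (.node (.leaf (50, 1)) (.leaf (150, 1)))) (.node (.node (.node (.leaf (28, 0)) (.leaf (264, 1))) (.leaf (122, 0))) (.node (.leaf (71, 1)) (.leaf (188, 0))))) (.node (.node (.node (.node (.leaf (16, 1)) (.leaf (240, 1))) (.leaf (108, 0))) (.node (.leaf (61, 1)) (.leaf (166, 1)))) (.node (.node (.node (.leaf (39, 0)) (.leaf (295, 0))) (.leaf (139, 1))) (.node (.leaf (82, 1)) (.leaf (203, 0))))))) (.node (.node (.node (.node (.node (.node (.leaf (3, 1)) (.leaf (215, 0))) (.leaf (91, 0))) (.node (.leaf (47, 1)) (.leaf (147, 1)))) (.node (.node (.node (.leaf (25, 1)) (.leaf (260, 1))) (.leaf (118, 1))) (.node (.leaf (69, 0)) (.leaf (183, 0))))) (.node (.node (.node (.node (.leaf (14, 1)) (.leaf (233, 1))) (.leaf (104, 1))) (.node (.leaf (58, 1)) (.leaf (161, 1))))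 (.node (.node (.node (.leaf (36, 1)) (.leaf (292, 0))) (.leaf (135, 1))) (.node (.leaf (79, 0)) (.leaf (199, 1)))))) (.node (.node (.node (.node (.node (.leaf (8, 1)) (.leaf (225, 1))) (.leaf (96, 1))) (.node (.leaf (52, 1)) (.leaf (154, 1)))) (.node (.node (.node (.leaf (30, 1)) (.leaf (272, 0))) (.leaf (126, 1))) (.node (.leaf (74, 0)) (.leaf (192, 1))))) (.node (.node (.node (.node (.leaf (20, 0)) (.leaf (246, 1))) (.leaf (111, 1))) (.node (.leaf (64, 0)) (.leaf (170, 0)))) (.node (.node (.node (.leaf (42, 0)) (.leaf (304, 1))) (.leaf (142, 0))) (.node (.leaf (86, 0)) (.leaf (206, 1)))))))))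

/-- data -/
def cert0_00 : Trie (ℕ × ℕ × ℕ) := .node (.node (.node (.node (.node (.node (.node (.leaf (0, 0, 4)) (.leaf (3, 37, 11))) (.leaf (2, 277, 1))) (.node (.node (.leaf (2, 107, 1)) (.leaf (5, 43, 21))) (.leaf (3, 99, 6)))) (.node (.node (.node (.leaf (2, 51, 1)) (.leaf (4, 159, 26))) (.leaf (9, 0, 11))) (.node (.leaf (2, 190, 1)) (.leaf (2, 275, 0))))) (.node (.node (.node (.node (.leaf (2, 23, 1)) (.leaf (3, 245, 5))) (.leaf (3, 60, 4))) (.node (.leaf (2, 143, 1)) (.leaf (3, 199, 13)))) (.node (.node (.node (.leaf (2, 77, 1)) (.leaf (4, 286, 16))) (.leaf (2, 279, 1))) (.node (.leaf (2, 228, 1)) (.leaf (4, 88, 45)))))) (.node (.node (.node (.node (.node (.leaf (2, 10, 1)) (.leaf (3, 123, 13))) (.leaf (3, 12, 7))) (.node (.leaf (2, 122, 1)) (.leaf (3, 216, 4)))) (.node (.node (.node (.leaf (2, 65, 1)) (.leaf (4, 256, 44))) (.leaf (17, 0, 12))) (.node (.leaf (2, 208, 1)) (.leaf (3, 229, 8))))) (.node (.node (.node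 (.node (.leaf (2, 37, 1)) (.leaf (4, 104, 19))) (.leaf (3, 224, 6))) (.node (.leaf (2, 167, 1)) (.leaf (3, 63, 4)))) (.node (.node (.node (.leaf (2, 89, 1)) (.leaf (5, 22, 52))) (.leaf (3, 11, 6))) (.node (.leaf (2, 255, 1)) (.leaf (14, 283, 91))))))) (.node (.node (.node (.node (.node (.node (.leaf (2, 3, 1)) (.leaf (3, 93, 3))) (.leaf (2, 304, 1))) (.node (.node (.leaf (2, 115, 1)) (.leaf (5, 71, 57))) (.leaf (3, 131, 4)))) (.node (.node (.node (.leaf (2, 57, 1)) (.leaf (4, 210, 4))) (.leaf (13, 0, 12))) (.node (.leaf (2, 198, 1)) (.leaf (3, 88, 1))))) (.node (.node (.node (.node (.leaf (2, 30, 1)) (.leaf (4, 64, 7))) (.leaf (3, 96, 4))) (.node (.leaf (2, 153, 1)) (.leaf (10, 288, 33)))) (.node (.node (.node (.leaf (2, 84, 1)) (.leaf (5, 2, 44))) (.leaf (3, 6, 6))) (.node (.leaf (2, 237, 1)) (.leaf (9, 87, 96)))))) (.node (.node (.node (.node (.node (.leaf (2, 16, 1)) (.leaf (3, 182, 14))) (.leaf (3, 26, 4))) (.node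 (.leaf (2, 134, 1)) (.leaf (3, 30, 7)))) (.node (.node (.node (.leaf (2, 71, 1)) (.leaf (4, 263, 13))) (.leaf (2, 102, 1))) (.node (.leaf (2, 219, 1)) (.leaf (3, 66, 13))))) (.node (.node (.node (.node (.leaf (2, 44, 1)) (.leaf (4, 137, 4))) (.leaf (5, 0, 12))) (.node (.leaf (2, 179, 1)) (.leaf (4, 70, 13)))) (.node (.node (.node (.leaf (2, 97, 1)) (.leaf (5, 36, 14))) (.leaf (3, 40, 4))) (.node (.leaf (2, 264, 1)) (.leaf (2, 243, 1)))))))

/-- data -/
def cert0_01 : Trie (ℕ × ℕ × ℕ) := .node (.node (.node (.node (.node (.node (.node (.leaf (2, 0, 1)) (.leaf (3, 77, 6))) (.leaf (2, 295, 1))) (.node (.node (.leaf (2, 110, 1)) (.leaf (5, 57, 35))) (.leaf (3, 112, 6)))) (.node (.node (.node (.leaf (2, 53, 1)) (.leaf (4, 199, 38))) (.leaf (11, 0, 9))) (.node (.leaf (2, 194, 1)) (.leaf (3, 33, 7))))) (.node (.node (.node (.node (.leaf (2, 27, 1)) (.leaf (4, 18, 9))) (.leaf (3, 78, 4))) (.node (.leaf (2, 149, 1)) (.leaf (4,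 89, 38)))) (.node (.node (.node (.leaf (2, 81, 1)) (.leaf (4, 301, 32))) (.leaf (3, 2, 6))) (.node (.leaf (2, 232, 1)) (.leaf (4, 205, 47)))))) (.node (.node (.node (.node (.node (.leaf (2, 13, 1)) (.leaf (3, 174, 2))) (.leaf (3, 19, 4))) (.node (.leaf (2, 128, 1)) (.leaf (3, 263, 0)))) (.node (.node (.node (.leaf (2, 68, 1)) (.leaf (4, 259, 45))) (.leaf (19, 0, 9))) (.node (.leaf (2, 215, 1)) (.leaf (2, 210, 1))))) (.node (.node (.node (.node (.leaf (2, 40, 1)) (.leaf (4, 128, 43))) (.leaf (3, 266, 7))) (.node (.leaf (2, 174, 1)) (.leaf (4, 12, 53)))) (.node (.node (.node (.leaf (2, 93, 1)) (.leaf (5, 31, 49))) (.leaf (3, 32, 6))) (.node (.leaf (2, 258, 1)) (.leaf (20, 290, 38))))))) (.node (.node (.node (.node (.node (.node (.leaf (2, 7, 1)) (.leaf (3, 95, 9))) (.leaf (2, 308, 1))) (.node (.leaf (2, 118, 1)) (.leaf (3, 162, 4)))) (.node (.node (.node (.leaf (2, 62, 1)) (.leaf (4, 237, 50))) (.leaf (15, 0, 11))) (.node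 (.leaf (2, 203, 1)) (.leaf (10, 30, 21))))) (.node (.node (.node (.node (.leaf (2, 33, 1)) (.leaf (4, 98, 44))) (.leaf (3, 166, 4))) (.node (.leaf (2, 159, 1)) (.leaf (3, 27, 6)))) (.node (.node (.node (.leaf (2, 87, 1)) (.leaf (5, 15, 31))) (.leaf (3, 9, 6))) (.node (.leaf (2, 247, 1)) (.leaf (11, 194, 68)))))) (.node (.node (.node (.node (.node (.leaf (2, 20, 1)) (.leaf (3, 201, 4))) (.leaf (3, 43, 4))) (.node (.leaf (2, 141, 1)) (.leaf (3, 71, 7)))) (.node (.node (.node (.leaf (2, 74, 1)) (.leaf (4, 267, 6))) (.leaf (2, 161, 1))) (.node (.leaf (2, 225, 1)) (.leaf (3, 246, 6))))) (.node (.node (.node (.node (.leaf (2, 47, 1)) (.leaf (4, 146, 43))) (.leaf (7, 0, 8))) (.node (.leaf (2, 185, 1)) (.leaf (10, 27, 89)))) (.node (.node (.node (.leaf (2, 100, 1)) (.leaf (5, 40, 67))) (.leaf (3, 64, 6))) (.node (.leaf (2, 271, 1)) (.leaf (3, 15, 11)))))))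

/-- data -/
def cert0_10 : Trie (ℕ × ℕ × ℕ) := .node (.node (.node (.node (.node (.node (.node (.leaf (1, 0, 6)) (.leaf (3, 58, 8))) (.leaf (2, 292, 1))) (.node (.node (.leaf (2, 108, 1)) (.leaf (5, 47, 24))) (.leaf (3, 107, 6)))) (.node (.node (.node (.leaf (2, 52, 1)) (.leaf (4, 187, 41))) (.leaf (10, 0, 12))) (.node (.leaf (2, 192, 1)) (.leaf (3, 20, 12))))) (.node (.node (.node (.node (.leaf (2, 25, 1)) (.leaf (3, 316, 14))) (.leaf (3, 72, 4))) (.node (.leaf (2, 145, 1)) (.leaf (3, 206, 7)))) (.node (.node (.node (.leaf (2, 79, 1)) (.leaf (4, 299, 28))) (.leaf (3, 1, 6))) (.node (.leaf (2, 230, 1)) (.leaf (4, 194, 17)))))) (.node (.node (.node (.node (.node (.leaf (2, 11, 1)) (.leaf (3, 143, 11))) (.leaf (3, 14, 4))) (.node (.leaf (2, 123, 1)) (.leaf (3, 218, 6)))) (.node (.node (.node (.leaf (2, 66, 1)) (.leaf (4, 257, 43))) (.leaf (18, 0, 10))) (.node (.leaf (2, 213, 1)) (.leaf (8, 164, 28))))) (.node (.node (.node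 (.node (.leaf (2, 39, 1)) (.leaf (4, 105, 22))) (.leaf (3, 256, 6))) (.node (.leaf (2, 170, 1)) (.leaf (3, 115, 6)))) (.node (.node (.node (.leaf (2, 91, 1)) (.leaf (5, 25, 47))) (.leaf (3, 17, 6))) (.node (.leaf (2, 257, 1)) (.leaf (16, 224, 14))))))) (.node (.node (.node (.node (.node (.node (.leaf (2, 5, 1)) (.leaf (3, 94, 2))) (.leaf (2, 306, 1))) (.node (.leaf (2, 117, 1)) (.leaf (3, 138, 6)))) (.node (.node (.node (.leaf (2, 61, 1)) (.leaf (4, 213, 39))) (.leaf (14, 0, 11))) (.node (.leaf (2, 199, 1)) (.leaf (3, 117, 8))))) (.node (.node (.node (.node (.leaf (2, 32, 1)) (.leaf (4, 80, 1))) (.leaf (3, 155, 4))) (.node (.leaf (2, 156, 1)) (.leaf (2, 163, 1)))) (.node (.node (.node (.leaf (2, 86, 1)) (.leaf (5, 3, 31))) (.leaf (3, 7, 6))) (.node (.leaf (2, 239, 1)) (.leaf (9, 138, 12)))))) (.node (.node (.node (.node (.node (.leaf (2, 18, 1)) (.leaf (3, 194, 5))) (.leaf (3, 35, 6))) (.node (.leaf (2, 137, 1)) (.leaf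 (3, 59, 6)))) (.node (.node (.node (.leaf (2, 73, 1)) (.leaf (4, 265, 32))) (.leaf (2, 112, 1))) (.node (.leaf (2, 222, 1)) (.leaf (3, 106, 5))))) (.node (.node (.node (.node (.leaf (2, 45, 1)) (.leaf (4, 140, 15))) (.leaf (6, 0, 10))) (.node (.leaf (2, 183, 1)) (.leaf (7, 142, 11)))) (.node (.node (.node (.leaf (2, 99, 1)) (.leaf (5, 37, 32))) (.leaf (3, 62, 3))) (.node (.leaf (2, 267, 1)) (.leaf (2, 252, 0)))))))

/-- data -/
def cert0_11 : Trie (ℕ × ℕ × ℕ) := .node (.node (.node (.node (.node (.node (.node (.leaf (2, 2, 1)) (.leaf (3, 85, 7))) (.leaf (2, 299, 1))) (.node (.node (.leaf (2, 114, 1)) (.leaf (5, 64, 19))) (.leaf (3, 116, 4)))) (.node (.node (.node (.leaf (2, 55, 1)) (.leaf (4, 206, 39))) (.leaf (12, 0, 12))) (.node (.leaf (2, 195, 1)) (.leaf (3, 52, 11))))) (.node (.node (.node (.node (.leaf (2, 28, 1)) (.leaf (4, 44, 34))) (.leaf (3, 83, 6))) (.node (.leaf (2, 150, 1)) (.leaf (4, 147, 41)))) (.node (.node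 (.node (.leaf (2, 83, 1)) (.leaf (4, 304, 32))) (.leaf (3, 5, 6))) (.node (.leaf (2, 234, 1)) (.leaf (7, 245, 12)))))) (.node (.node (.node (.node (.node (.leaf (2, 15, 1)) (.leaf (3, 177, 4))) (.leaf (3, 22, 6))) (.node (.leaf (2, 130, 1)) (.leaf (3, 290, 9)))) (.node (.node (.node (.leaf (2, 69, 1)) (.leaf (4, 261, 43))) (.leaf (20, 0, 8))) (.node (.leaf (2, 217, 1)) (.leaf (3, 47, 10))))) (.node (.node (.node (.node (.leaf (2, 42, 1)) (.leaf (4, 130, 41))) (.leaf (4, 0, 13))) (.node (.leaf (2, 175, 1)) (.leaf (4, 28, 54)))) (.node (.node (.node (.leaf (2, 94, 1)) (.leaf (5, 35, 29))) (.leaf (3, 39, 6))) (.node (.leaf (2, 262, 1)) (.leaf (2, 146, 0))))))) (.node (.node (.node (.node (.node (.node (.leaf (2, 8, 1)) (.leaf (3, 104, 8))) (.leaf (3, 3, 6))) (.node (.leaf (2, 120, 1)) (.leaf (3, 204, 14)))) (.node (.node (.node (.leaf (2, 64, 1)) (.leaf (4, 245, 14))) (.leaf (16, 0, 12))) (.node (.leaf (2, 206, 1)) (.leaf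 (3, 130, 11))))) (.node (.node (.node (.node (.leaf (2, 36, 1)) (.leaf (4, 99, 12))) (.leaf (3, 193, 6))) (.node (.leaf (2, 164, 1)) (.leaf (3, 31, 6)))) (.node (.node (.node (.leaf (2, 88, 1)) (.leaf (5, 18, 53))) (.leaf (3, 10, 6))) (.node (.leaf (2, 249, 1)) (.leaf (14, 280, 89)))))) (.node (.node (.node (.node (.node (.leaf (2, 22, 1)) (.leaf (3, 240, 7))) (.leaf (3, 56, 4))) (.node (.leaf (2, 142, 1)) (.leaf (3, 154, 9)))) (.node (.node (.node (.leaf (2, 75, 1)) (.leaf (4, 272, 24))) (.leaf (2, 180, 1))) (.node (.leaf (2, 227, 1)) (.leaf (4, 10, 8))))) (.node (.node (.node (.node (.leaf (2, 48, 1)) (.leaf (4, 151, 29))) (.leaf (8, 0, 10))) (.node (.leaf (2, 188, 1)) (.leaf (2, 139, 0)))) (.node (.node (.node (.leaf (2, 105, 1)) (.leaf (5, 42, 72))) (.leaf (3, 67, 2))) (.node (.leaf (2, 272, 1)) (.leaf (3, 28, 12)))))))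

/-- data -/
def cert0 : Trie (ℕ × ℕ × ℕ) := .node (.node (cert0_00) (cert0_01)) (.node (cert0_10) (cert0_11))

/-- data -/
def pot0 : Trie (Vec) := .node (.node (.node (.node (.node (.node (.node (.node (.node (.leaf ([])) (.leaf ([6, 6]))) (.leaf ([2, 7]))) (.node (.node (.leaf ([1, 6])) (.leaf ([5, 9]))) (.leaf ([2, 8])))) (.node (.node (.node (.leaf ([2, 4])) (.leaf ([3, 9]))) (.leaf ([4, 6]))) (.node (.leaf ([3, 5])) (.leaf ([5, 6]))))) (.node (.node (.node (.node (.leaf ([1, 3])) (.leaf ([4, 8]))) (.leaf ([3, 6]))) (.node (.leaf ([4, 4])) (.leaf ([5, 6])))) (.node (.node (.node (.leaf ([3, 4])) (.leaf ([4, 9]))) (.leaf ([3, 7]))) (.node (.leaf ([3, 6])) (.leaf ([4, 7])))))) (.node (.node (.node (.node (.node (.leaf ([1, 2])) (.leaf ([4, 8]))) (.leaf ([2, 7]))) (.node (.leaf ([4, 4])) (.leaf ([3, 7])))) (.node (.node (.node (.leaf ([2, 4])) (.leaf ([5, 8]))) (.leaf ([3, 7]))) (.node (.leaf ([4, 5])) (.leaf ([3, 8])))))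 (.node (.node (.node (.node (.leaf ([2, 3])) (.leaf ([4, 8]))) (.leaf ([5, 5]))) (.node (.leaf ([2, 6])) (.leaf ([4, 7])))) (.node (.node (.node (.leaf ([3, 4])) (.leaf ([5, 9]))) (.leaf ([4, 6]))) (.node (.leaf ([2, 7])) (.leaf ([3, 8]))))))) (.node (.node (.node (.node (.node (.node (.leaf ([1, 1])) (.leaf ([4, 8]))) (.leaf ([2, 7]))) (.node (.leaf ([1, 6])) (.leaf ([3, 7])))) (.node (.node (.node (.leaf ([2, 4])) (.leaf ([5, 8]))) (.leaf ([3, 7]))) (.node (.leaf ([2, 6])) (.leaf ([3, 8]))))) (.node (.node (.node (.node (.leaf ([2, 3])) (.leaf ([4, 8]))) (.leaf ([3, 6]))) (.node (.leaf ([3, 5])) (.leaf ([5, 6])))) (.node (.node (.node (.leaf ([2, 5])) (.leaf ([3, 10]))) (.leaf ([3, 7]))) (.node (.leaf ([3, 6])) (.leaf ([3, 8])))))) (.node (.node (.node (.node (.node (.leaf ([2, 2])) (.leaf ([3, 9]))) (.leaf ([3, 6]))) (.node (.leaf ([3, 5])) (.leaf ([4, 7])))) (.node (.node (.node (.leaf ([1, 5])) (.leaf ([5, 8]))) (.leaf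 ([4, 6]))) (.node (.leaf ([4, 5])) (.leaf ([3, 8]))))) (.node (.node (.node (.node (.leaf ([1, 4])) (.leaf ([3, 9]))) (.leaf ([4, 6]))) (.node (.leaf ([3, 5])) (.leaf ([4, 7])))) (.node (.node (.node (.leaf ([3, 4])) (.leaf ([4, 10]))) (.leaf ([3, 7]))) (.node (.leaf ([3, 6])) (.leaf ([2, 9])))))))) (.node (.node (.node (.node (.node (.node (.node (.leaf ([0, 1])) (.leaf ([5, 7]))) (.leaf ([2, 7]))) (.node (.node (.leaf ([1, 6])) (.leaf ([4, 10]))) (.leaf ([3, 7])))) (.node (.node (.node (.leaf ([2, 4])) (.leaf ([5, 8]))) (.leaf ([4, 6]))) (.node (.leaf ([2, 6])) (.leaf ([4, 7]))))) (.node (.node (.node (.node (.leaf ([0, 4])) (.leaf ([4, 8]))) (.leaf ([2, 7]))) (.node (.leaf ([3, 5])) (.leaf ([4, 7])))) (.node (.node (.node (.leaf ([3, 4])) (.leaf ([4, 9]))) (.leaf ([3, 7]))) (.node (.leaf ([3, 6])) (.leaf ([4, 7])))))) (.node (.node (.node (.node (.node (.leaf ([0, 3])) (.leaf ([5, 7]))) (.leaf ([3, 6]))) (.node (.leaf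 ([3, 5])) (.leaf ([3, 7])))) (.node (.node (.node (.leaf ([1, 5])) (.leaf ([5, 8]))) (.leaf ([4, 6]))) (.node (.leaf ([4, 5])) (.leaf ([3, 8]))))) (.node (.node (.node (.node (.leaf ([2, 3])) (.leaf ([3, 9]))) (.leaf ([4, 6]))) (.node (.leaf ([3, 5])) (.leaf ([4, 7])))) (.node (.node (.node (.leaf ([2, 5])) (.leaf ([5, 9]))) (.leaf ([3, 7]))) (.node (.leaf ([3, 6])) (.leaf ([3, 8]))))))) (.node (.node (.node (.node (.node (.node (.leaf ([2, 1])) (.leaf ([4, 8]))) (.leaf ([3, 6]))) (.node (.leaf ([4, 4])) (.leaf ([2, 8])))) (.node (.node (.node (.leaf ([2, 4])) (.leaf ([5, 8]))) (.leaf ([4, 6]))) (.node (.leaf ([1, 7])) (.leaf ([3, 8]))))) (.node (.node (.node (.node (.leaf ([1, 4])) (.leaf ([4, 8]))) (.leaf ([2, 7]))) (.node (.leaf ([2, 6])) (.leaf ([4, 7])))) (.node (.node (.node (.leaf ([3, 4])) (.leaf ([3, 10]))) (.leaf ([3, 7]))) (.node (.leaf ([3, 6])) (.leaf ([3, 8])))))) (.node (.node (.node (.node (.node (.leaf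 ([2, 2])) (.leaf ([5, 7]))) (.leaf ([2, 7]))) (.node (.leaf ([3, 5])) (.leaf ([4, 7])))) (.node (.node (.node (.leaf ([4, 3])) (.leaf ([5, 8]))) (.leaf ([4, 6]))) (.node (.leaf ([3, 6])) (.leaf ([3, 8]))))) (.node (.node (.node (.node (.leaf ([3, 3])) (.leaf ([3, 9]))) (.leaf ([3, 7]))) (.node (.leaf ([2, 6])) (.leaf ([3, 8])))) (.node (.node (.node (.leaf ([2, 5])) (.leaf ([5, 9]))) (.leaf ([2, 8]))) (.node (.leaf ([3, 6])) (.leaf ([5, 7]))))))))) (.node (.node (.node (.node (.node (.node (.node (.node (.leaf ([1])) (.leaf ([5, 7]))) (.leaf ([3, 6]))) (.node (.node (.leaf ([2, 5])) (.leaf ([5, 9]))) (.leaf ([4, 6])))) (.node (.node (.node (.leaf ([2, 4])) (.leaf ([3, 9]))) (.leaf ([3, 7]))) (.node (.leaf ([2, 6])) (.leaf ([4, 7]))))) (.node (.node (.node (.node (.leaf ([1, 3])) (.leaf ([4, 8]))) (.leaf ([2, 7]))) (.node (.leaf ([3, 5])) (.leaf ([5, 6])))) (.node (.node (.node (.leaf ([3, 4])) (.leaf ([5, 8]))) (.leaf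 ([3, 7]))) (.node (.leaf ([4, 5])) (.leaf ([3, 8])))))) (.node (.node (.node (.node (.node (.leaf ([1, 2])) (.leaf ([4, 8]))) (.leaf ([3, 6]))) (.node (.leaf ([3, 5])) (.leaf ([2, 8])))) (.node (.node (.node (.leaf ([2, 4])) (.leaf ([4, 9]))) (.leaf ([3, 7]))) (.node (.leaf ([4, 5])) (.leaf ([4, 7]))))) (.node (.node (.node (.node (.leaf ([1, 4])) (.leaf ([3, 9]))) (.leaf ([4, 6]))) (.node (.leaf ([3, 5])) (.leaf ([3, 8])))) (.node (.node (.node (.leaf ([2, 5])) (.leaf ([6, 8]))) (.leaf ([3, 7]))) (.node (.leaf ([4, 5])) (.leaf ([2, 9]))))))) (.node (.node (.node (.node (.node (.node (.leaf ([0, 2])) (.leaf ([5, 7]))) (.leaf ([4, 5]))) (.node (.leaf ([4, 4])) (.leaf ([2, 8])))) (.node (.node (.node (.leaf ([2, 4])) (.leaf ([6, 7]))) (.leaf ([3, 7]))) (.node (.leaf ([2, 6])) (.leaf ([3, 8]))))) (.node (.node (.node (.node (.leaf ([2, 3])) (.leaf ([4, 8]))) (.leaf ([2, 7]))) (.node (.leaf ([3, 5])) (.leaf ([4, 7])))) (.node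 (.node (.node (.leaf ([3, 4])) (.leaf ([4, 9]))) (.leaf ([4, 6]))) (.node (.leaf ([2, 7])) (.leaf ([2, 9])))))) (.node (.node (.node (.node (.node (.leaf ([1, 3])) (.leaf ([4, 8]))) (.leaf ([2, 7]))) (.node (.leaf ([2, 6])) (.leaf ([5, 6])))) (.node (.node (.node (.leaf ([1, 5])) (.leaf ([4, 9]))) (.leaf ([3, 7]))) (.node (.leaf ([4, 5])) (.leaf ([2, 9]))))) (.node (.node (.node (.node (.leaf ([1, 4])) (.leaf ([4, 8]))) (.leaf ([4, 6]))) (.node (.leaf ([2, 6])) (.leaf ([3, 8])))) (.node (.node (.node (.leaf ([2, 5])) (.leaf ([5, 9]))) (.leaf ([3, 7]))) (.node (.leaf ([4, 5])) (.leaf ([5, 7])))))))) (.node (.node (.node (.node (.node (.node (.node (.leaf ([1, 1])) (.leaf ([4, 8]))) (.leaf ([3, 6]))) (.node (.node (.leaf ([2, 5])) (.leaf ([3, 11]))) (.leaf ([3, 7])))) (.node (.node (.node (.leaf ([3, 3])) (.leaf ([6, 7]))) (.leaf ([3, 7]))) (.node (.leaf ([1, 7])) (.leaf ([3, 8]))))) (.node (.node (.node (.node (.leaf ([3,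 2])) (.leaf ([3, 9]))) (.leaf ([2, 7]))) (.node (.leaf ([2, 6])) (.leaf ([4, 7])))) (.node (.node (.node (.leaf ([2, 5])) (.leaf ([4, 9]))) (.leaf ([2, 8]))) (.node (.leaf ([3, 6])) (.leaf ([3, 8])))))) (.node (.node (.node (.node (.node (.leaf ([2, 2])) (.leaf ([4, 8]))) (.leaf ([2, 7]))) (.node (.leaf ([3, 5])) (.leaf ([2, 8])))) (.node (.node (.node (.leaf ([2, 4])) (.leaf ([4, 9]))) (.leaf ([4, 6]))) (.node (.leaf ([3, 6])) (.leaf ([4, 7]))))) (.node (.node (.node (.node (.leaf ([1, 4])) (.leaf ([4, 8]))) (.leaf ([5, 5]))) (.node (.leaf ([2, 6])) (.leaf ([4, 7])))) (.node (.node (.node (.leaf ([2, 5])) (.leaf ([5, 9]))) (.leaf ([2, 8]))) (.node (.leaf ([3, 6])) (.leaf ([3, 8]))))))) (.node (.node (.node (.node (.node (.node (.leaf ([1, 2])) (.leaf ([4, 8]))) (.leaf ([3, 6]))) (.node (.leaf ([3, 5])) (.leaf ([2, 8])))) (.node (.node (.node (.leaf ([1, 5])) (.leaf ([4, 9]))) (.leaf ([3, 7]))) (.node (.leaf ([5, 4]))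 (.leaf ([4, 7]))))) (.node (.node (.node (.node (.leaf ([2, 3])) (.leaf ([4, 8]))) (.leaf ([4, 6]))) (.node (.leaf ([2, 6])) (.leaf ([3, 8])))) (.node (.node (.node (.leaf ([2, 5])) (.leaf ([6, 8]))) (.leaf ([3, 7]))) (.node (.leaf ([3, 6])) (.leaf ([2, 9])))))) (.node (.node (.node (.node (.node (.leaf ([1, 3])) (.leaf ([4, 8]))) (.leaf ([3, 6]))) (.node (.leaf ([2, 6])) (.leaf ([4, 7])))) (.node (.node (.node (.leaf ([3, 4])) (.leaf ([5, 8]))) (.leaf ([3, 7]))) (.node (.leaf ([4, 5])) (.leaf ([2, 9]))))) (.node (.node (.node (.node (.leaf ([3, 3])) (.leaf ([3, 9]))) (.leaf ([4, 6]))) (.node (.leaf ([2, 6])) (.leaf ([5, 6])))) (.node (.node (.node (.leaf ([2, 5])) (.leaf ([4, 10]))) (.leaf ([3, 7]))) (.node (.leaf ([3, 6])) (.leaf ([4, 8])))))))))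

/-- the table -/
def table0 : Table where
  size := 324
  ngen := 2
  next g x := next0.getK (2 * g + x)
  prev g x := prev0.getK (2 * g + x)
  lab g x := lab0.getK (2 * g + x)
  val g x := val0.getK (2 * g + x)
  rank g x := rank0.getK (2 * g + x)
  tree g := tree0.getK g
  cert j := cert0.getK j
  nded := 325
  rels := [⟨[(0, true), (1, true), (1, true), (0, true), (1, true), (0, false), (1, false), (0, false)], [(0, true)], []⟩,
    ⟨[(1, true), (1, true), (1, true), (0, true), (1, true), (1, true), (0, true), (1, false), (0, false), (1, false), (1, false), (1, false), (0, false), (1, false)], [(1, true)], []⟩,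
    ⟨[(0, true), (0, true)], [], [0, 0, 0, 0, 0, 0, 0, 0, 0, 0, 0, 0, 0, 0, 0, 0, 0, 0, 0, 0, 0, 0, 0, 0, 0, 0, 0, 0, 0, 0, 0, 1]⟩,
    ⟨[(1, true), (0, true), (1, true), (0, true), (1, true), (0, true), (1, false), (1, false), (1, false), (1, false), (0, false), (1, true), (0, false), (1, true), (0, false)], [], [0, 0, 0, 0, 0, 0, 0, 0, 0, 0, 0, 0, 0, 0, 0, 0, 0, 0, 0, 0, 0, 0, 0, 0, 0, 0, 0, 0, 0, 0, 0, 0, 1]⟩,
    ⟨[(0, true), (1, true), (0, true), (1, true), (0, true), (1, true), (1, true), (1, true), (0, true), (1, true), (1, true), (1, true), (0, true), (1, true), (0, false), (1, false), (1, false), (0, false), (1, false), (1, false), (1, false), (0, false), (1, false), (0, false), (1, false), (0, false), (1, true), (1, true), (1, true), (0, true), (1, true), (1, true), (0, true), (1, false), (0, false), (1, false), (1, false), (1, false), (0, false), (1, false), (0, true), (1, true), (0, true), (1, false), (0, false),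 (1, false), (1, false), (0, false), (1, true), (1, true), (1, true), (0, true), (1, true), (1, true), (0, true), (1, false), (0, false), (1, false), (1, false), (1, false), (0, false), (1, false)], [], [0, 0, 0, 0, 0, 0, 0, 0, 0, 0, 0, 0, 0, 0, 0, 0, 0, 0, 0, 0, 0, 0, 0, 0, 0, 0, 0, 0, 0, 0, 0, 0, 0, 1]⟩,
    ⟨[(1, true), (0, true), (1, true), (1, true), (1, true), (0, true), (1, true), (1, true), (1, true), (1, true), (0, true), (1, true), (1, true), (0, false), (1, false), (1, false), (0, false), (1, false), (0, true), (1, false), (0, false), (1, false), (1, false), (1, false), (0, false), (1, false), (0, true), (1, true), (1, true), (0, true), (1, true), (0, false), (1, false), (0, false), (1, true), (0, true), (1, true), (1, true), (1, true), (0, true), (1, true), (0, false), (1, false), (1, false), (0, false), (1, false), (1, false), (1, false), (0, true), (1, true), (1, true), (0, true), (1, true), (0, false), (1,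 false), (0, false), (1, true), (0, true), (1, true), (1, true), (1, true), (0, true), (1, true), (0, false), (1, false), (1, false), (0, false), (1, false), (1, false), (0, true), (1, true), (1, true), (1, true), (0, true), (1, true), (0, false), (1, false), (1, false), (0, false), (1, false), (1, false), (1, false)], [], [0, 0, 0, 0, 0, 0, 0, 0, 0, 0, 0, 0, 0, 0, 0, 0, 0, 0, 0, 0, 0, 0, 0, 0, 0, 0, 0, 0, 0, 0, 0, 0, 0, 0, 1]⟩,
    ⟨[(0, true), (1, true), (0, true), (1, true), (0, true), (1, true), (1, true), (0, true), (1, true), (0, true), (1, true), (0, false), (1, false), (0, false), (1, false), (1, false), (0, false), (1, true), (0, true), (1, true), (1, true), (0, true), (1, false), (0, false), (1, false), (1, false), (1, false), (0, false), (1, false), (0, true), (1, true), (1, true), (0, true), (1, true), (0, false), (1, false), (0, false), (1, true), (1, true), (1, true), (0, true), (1, true), (1, true), (0, true),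 (1, false), (0, false), (1, false), (1, false), (1, false), (0, false), (1, false), (0, true), (1, true), (1, true), (0, true), (1, true), (0, false), (1, false), (0, false), (1, true), (0, true), (1, true), (1, true), (1, true), (0, true), (1, true), (0, false), (1, false), (1, false), (0, false), (1, false), (1, false), (1, false), (0, true), (1, true), (1, true), (0, true), (1, true), (0, false), (1, false), (0, false), (1, true), (0, true), (1, true), (1, true), (1, true), (0, true), (1, true), (0, false), (1, false), (1, false), (0, false), (1, false), (1, false), (1, false)], [], [0, 0, 0, 0, 0, 0, 0, 0, 0, 0, 0, 0, 0, 0, 0, 0, 0, 0, 0, 0, 0, 0, 0, 0, 0, 0, 0, 0, 0, 0, 0, 0, 0, 0, 0, 1]⟩,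
    ⟨[(1, true), (1, true), (1, true), (1, true), (0, true), (1, true), (1, true), (1, true), (0, true), (1, false), (1, false), (0, false), (1, false), (0, false), (1, false), (1, false), (0, false), (1, false), (1, false), (0, false), (1, true), (0, true), (1, true), (1, true), (1, true), (0, true), (1, true), (0, false), (1, false), (1, false), (0, false), (1, false), (1, false), (1, false), (0, true), (1, true), (1, true), (0, true), (1, true), (0, false), (1, false), (0, false), (1, true), (0, true), (1, true), (1, true), (1, true), (0, true), (1, true), (0, false), (1, false), (1, false), (0, false), (1, false), (1, false), (1, false), (0, true), (1, true), (1, true), (0, true), (1, true), (0, false), (1, false), (0, false), (1, true), (0, true), (1, true), (1, true), (1, true), (0, true), (1, true), (0, false), (1, false), (1, false), (0, false), (1, false), (1, false), (1, false), (0, true), (1, true), (0, true),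 (1, false), (0, false), (1, false), (1, false), (0, false), (1, true), (1, true), (1, true), (0, true), (1, true), (1, true), (0, true), (1, false), (0, false), (1, false), (1, false), (1, false), (0, false), (1, false)], [], [0, 0, 0, 0, 0, 0, 0, 0, 0, 0, 0, 0, 0, 0, 0, 0, 0, 0, 0, 0, 0, 0, 0, 0, 0, 0, 0, 0, 0, 0, 0, 0, 0, 0, 0, 0, 1]⟩,
    ⟨[(1, true), (0, true), (1, true), (1, true), (1, true), (1, true), (0, true), (1, true), (0, true), (1, true), (0, true), (1, false), (0, false), (1, false), (0, false), (1, false), (1, false), (0, false), (1, false), (1, false), (1, false), (0, false), (1, true), (1, true), (1, true), (0, true), (1, true), (1, true), (0, true), (1, false), (0, false), (1, false), (1, false), (1, false), (0, false), (1, true), (1, true), (0, true), (1, true), (1, true), (0, true), (1, false), (0, false), (1, false), (1, false), (1, false), (0, false), (1, false), (0, true), (1, true), (1, true), (0,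 true), (1, true), (0, false), (1, false), (0, false), (1, true), (0, true), (1, true), (1, true), (1, true), (0, true), (1, true), (0, false), (1, false), (1, false), (0, false), (1, false), (1, false), (1, false), (0, true), (1, true), (0, true), (1, false), (0, false), (1, false), (1, false), (0, false), (1, true), (1, true), (1, true), (0, true), (1, true), (1, true), (0, true), (1, false), (0, false), (1, false), (1, false), (1, false), (0, false), (1, false), (0, true), (1, true), (0, true), (1, false), (0, false), (1, false), (1, false), (0, false)], [], [0, 0, 0, 0, 0, 0, 0, 0, 0, 0, 0, 0, 0, 0, 0, 0, 0, 0, 0, 0, 0, 0, 0, 0, 0, 0, 0, 0, 0, 0, 0, 0, 0, 0, 0, 0, 0, 1]⟩,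
    ⟨[(1, true), (1, true), (1, true), (1, true), (0, true), (1, true), (1, true), (0, true), (1, true), (1, true), (0, true), (1, true), (0, false), (1, false), (0, false), (1, false), (1, false), (0, false), (1, false), (1, false), (1, false), (0, true), (1, true), (1, true), (1, true), (0, true), (1, true), (0, false), (1, false), (1, false), (0, false), (1, false), (1, false), (1, false), (0, true), (1, true), (1, true), (0, true), (1, true), (0, false), (1, false), (0, false), (1, true), (0, true), (1, true), (1, true), (1, true), (0, true), (1, true), (0, false), (1, false), (1, false), (0, false), (1, false), (1, false), (1, false), (0, true), (1, true), (1, true), (0, true), (1, true), (0, false), (1, false), (0, false), (1, true), (1, true), (1, true), (0, true), (1, true), (1, true), (0, true), (1, false), (0, false), (1, false), (1, false), (1, false), (0, false), (1, false), (0, true), (1, true), (0, true),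 (1, false), (0, false), (1, false), (1, false), (0, false), (1, true), (1, true), (1, true), (0, true), (1, true), (1, true), (0, true), (1, false), (0, false), (1, false), (1, false), (1, false), (0, false), (1, false)], [], [0, 0, 0, 0, 0, 0, 0, 0, 0, 0, 0, 0, 0, 0, 0, 0, 0, 0, 0, 0, 0, 0, 0, 0, 0, 0, 0, 0, 0, 0, 0, 0, 0, 0, 0, 0, 0, 0, 1]⟩,
    ⟨[(1, true), (1, true), (0, true), (1, true), (1, true), (0, true), (1, true), (0, true), (1, true), (1, true), (0, true), (1, true), (1, true), (0, false), (1, false), (1, false), (0, false), (1, false), (0, false), (1, false), (0, false), (1, false), (1, false), (1, false), (0, false), (1, false), (1, false), (0, false), (1, true), (1, true), (1, true), (0, true), (1, true), (1, true), (0, true), (1, false), (0, false), (1, false), (1, false), (1, false), (0, false), (1, false), (0, true), (1, true), (1, true), (0, true), (1, true), (0, false), (1, false), (0, false), (1, true),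 (0, true), (1, true), (1, true), (1, true), (0, true), (1, true), (0, false), (1, false), (1, false), (0, false), (1, false), (1, false), (1, false), (0, true), (1, true), (1, true), (0, true), (1, true), (0, false), (1, false), (0, false), (1, true), (1, true), (1, true), (0, true), (1, true), (1, true), (0, true), (1, false), (0, false), (1, false), (1, false), (1, false), (0, false), (1, false), (0, true), (1, true), (0, true), (1, false), (0, false), (1, false), (1, false), (0, false), (1, true), (0, true), (1, true), (1, true), (1, true), (0, true), (1, true), (0, false), (1, false), (1, false), (0, false), (1, false), (1, false), (1, false)], [], [0, 0, 0, 0, 0, 0, 0, 0, 0, 0, 0, 0, 0, 0, 0, 0, 0, 0, 0, 0, 0, 0, 0, 0, 0, 0, 0, 0, 0, 0, 0, 0, 0, 0, 0, 0, 0, 0, 0, 1]⟩,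
    ⟨[(0, true), (1, true), (0, true), (1, true), (1, true), (1, true), (0, true), (1, true), (1, true), (0, true), (1, false), (1, false), (1, false), (0, false), (1, false), (0, false), (1, false), (0, false), (1, true), (0, true), (1, true), (0, false), (1, false), (0, false), (1, true), (0, true), (1, true), (1, true), (1, true), (0, true), (1, true), (0, false), (1, false), (1, false), (0, false), (1, false), (1, false), (1, false), (0, true), (1, true), (0, true), (1, false), (0, false), (1, false), (1, false), (0, false), (1, true), (0, true), (1, true), (1, true), (1, true), (0, true), (1, true), (0, false), (1, false), (1, false), (0, false), (1, false), (1, false), (1, false), (0, true), (1, true), (1, true), (0, true), (1, true), (0, false), (1, false), (0, false), (1, true), (0, true), (1, true), (1, true), (1, true), (0, true), (1, true), (0, false), (1, false), (1, false), (0, false), (1, false), (1, false),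 (1, false), (0, true), (1, true), (1, true), (0, true), (1, true), (0, false), (1, false), (0, false), (1, true), (0, true), (1, true), (1, true), (1, true), (0, true), (1, true), (0, false), (1, false), (1, false), (0, false), (1, false), (1, false), (1, false), (0, true), (1, true), (0, true), (1, false), (0, false), (1, false), (1, false), (0, false)], [], [0, 0, 0, 0, 0, 0, 0, 0, 0, 0, 0, 0, 0, 0, 0, 0, 0, 0, 0, 0, 0, 0, 0, 0, 0, 0, 0, 0, 0, 0, 0, 0, 0, 0, 0, 0, 0, 0, 0, 0, 1]⟩,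
    ⟨[(1, true), (1, true), (0, true), (1, true), (0, true), (1, true), (1, true), (1, true), (0, true), (1, true), (1, true), (0, true), (1, true), (0, false), (1, false), (1, false), (1, false), (0, false), (1, false), (1, false), (0, false), (1, false), (1, false), (0, false), (1, true), (1, true), (1, true), (0, true), (1, true), (1, true), (0, true), (1, false), (0, false), (1, false), (1, false), (1, false), (0, false), (1, false), (0, true), (1, true), (0, true), (1, false), (0, false), (1, false), (1, false), (0, false), (1, true), (0, true), (1, true), (1, true), (1, true), (0, true), (1, true), (0, false), (1, false), (1, false), (0, false), (1, false), (1, false), (1, false), (0, true), (1, true), (1, true), (0, true), (1, true), (0, false), (1, false), (0, false), (1, true), (0, true), (1, true), (1, true), (1, true), (0, true), (1, true), (0, false), (1, false), (1, false), (0, false), (1, false), (1, false),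 (1, false), (0, true), (1, true), (1, true), (0, true), (1, true), (0, false), (1, false), (0, false), (1, true), (0, true), (1, true), (1, true), (1, true), (0, true), (1, true), (0, false), (1, false), (1, false), (0, false), (1, false), (1, false), (1, false), (0, true), (1, true), (0, true), (1, false), (0, false), (1, false), (1, false), (0, false)], [], [0, 0, 0, 0, 0, 0, 0, 0, 0, 0, 0, 0, 0, 0, 0, 0, 0, 0, 0, 0, 0, 0, 0, 0, 0, 0, 0, 0, 0, 0, 0, 0, 0, 0, 0, 0, 0, 0, 0, 0, 0, 1]⟩,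
    ⟨[(1, true), (1, true), (0, true), (1, true), (1, true), (0, true), (1, true), (0, true), (1, true), (1, true), (0, true), (1, true), (0, true), (1, false), (0, false), (1, false), (1, false), (0, false), (1, false), (0, true), (1, false), (0, false), (1, false), (1, false), (1, false), (0, false), (1, false), (0, true), (1, true), (1, true), (0, true), (1, true), (0, false), (1, false), (0, false), (1, true), (0, true), (1, true), (1, true), (1, true), (0, true), (1, true), (0, false), (1, false), (1, false), (0, false), (1, false), (1, false), (0, true), (1, true), (1, true), (1, true), (0, true), (1, true), (0, false), (1, false), (1, false), (0, false), (1, false), (1, false), (1, false), (0, true), (1, true), (0, true), (1, false), (0, false), (1, false), (1, false), (0, false), (1, true), (0, true), (1, true), (1, true), (1, true), (0, true), (1, true), (0, false), (1, false), (1, false), (0, false), (1, false),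 (1, false), (1, false), (0, true), (1, true), (1, true), (0, true), (1, true), (0, false), (1, false), (0, false), (1, true), (1, true), (1, true), (0, true), (1, true), (1, true), (0, true), (1, false), (0, false), (1, false), (1, false), (1, false), (0, false), (1, false), (0, true), (1, true), (1, true), (0, true), (1, true), (0, false), (1, false), (0, false)], [], [0, 0, 0, 0, 0, 0, 0, 0, 0, 0, 0, 0, 0, 0, 0, 0, 0, 0, 0, 0, 0, 0, 0, 0, 0, 0, 0, 0, 0, 0, 0, 0, 0, 0, 0, 0, 0, 0, 0, 0, 0, 0, 1]⟩,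
    ⟨[(0, true), (1, true), (1, true), (1, true), (0, true), (1, true), (1, true), (1, true), (0, true), (1, true), (0, true), (1, true), (0, false), (1, false), (0, false), (1, false), (1, false), (1, false), (0, false), (1, false), (1, false), (0, true), (1, false), (0, false), (1, false), (1, false), (0, false), (1, true), (1, true), (1, true), (0, true), (1, true), (1, true), (0, true), (1, false), (0, false), (1, false), (1, false), (1, false), (0, false), (1, false), (0, true), (1, true), (0, true), (1, false), (0, false), (1, false), (1, false), (0, false), (1, true), (0, true), (1, true), (1, true), (1, true), (0, true), (1, true), (0, false), (1, false), (1, false), (0, false), (1, false), (1, false), (1, false), (0, true), (1, true), (0, true), (1, false), (0, false), (1, false), (1, false), (0, false), (1, true), (0, true), (1, true), (1, true), (1, true), (0, true), (1, true), (0, false), (1, false), (1, false),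 (0, false), (1, false), (1, false), (1, false), (0, true), (1, true), (0, true), (1, false), (0, false), (1, false), (1, false), (0, false), (1, true), (0, true), (1, true), (1, true), (1, true), (0, true), (1, true), (0, false), (1, false), (1, false), (0, false), (1, false), (1, false), (0, true), (1, true), (1, true), (1, true), (0, true), (1, true), (0, false), (1, false), (1, false), (0, false), (1, false), (1, false), (1, false)], [], [0, 0, 0, 0, 0, 0, 0, 0, 0, 0, 0, 0, 0, 0, 0, 0, 0, 0, 0, 0, 0, 0, 0, 0, 0, 0, 0, 0, 0, 0, 0, 0, 0, 0, 0, 0, 0, 0, 0, 0, 0, 0, 0, 1]⟩,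
    ⟨[(1, true), (1, true), (0, true), (1, true), (1, true), (1, true), (1, true), (0, true), (1, true), (1, true), (0, true), (1, true), (0, false), (1, false), (1, false), (0, false), (1, false), (1, false), (1, false), (0, false), (1, true), (1, true), (1, true), (0, true), (1, true), (1, true), (0, true), (1, false), (0, false), (1, false), (1, false), (1, false), (0, false), (1, false), (0, true), (1, true), (0, true), (1, false), (0, false), (1, false), (1, false), (0, false), (1, true), (1, true), (1, true), (0, true), (1, true), (1, true), (0, true), (1, false), (0, false), (1, false), (1, false), (1, false), (0, false), (1, false), (0, true), (1, true), (1, true), (0, true), (1, true), (0, false), (1, false), (0, false), (1, true), (1, true), (1, true), (0, true), (1, true), (1, true), (0, true), (1, false), (0, false), (1, false), (1, false), (1, false), (0, false), (1, false), (0, true), (1, true), (1, true),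 (0, true), (1, true), (0, false), (1, false), (0, false), (1, true), (1, true), (1, true), (0, true), (1, true), (1, true), (0, true), (1, false), (0, false), (1, false), (1, false), (1, false), (0, false), (1, true), (1, true), (0, true), (1, true), (1, true), (0, true), (1, false), (0, false), (1, false), (1, false), (1, false), (0, false), (1, false), (0, true), (1, true), (1, true), (0, true), (1, true), (0, false), (1, false), (0, false)], [], [0, 0, 0, 0, 0, 0, 0, 0, 0, 0, 0, 0, 0, 0, 0, 0, 0, 0, 0, 0, 0, 0, 0, 0, 0, 0, 0, 0, 0, 0, 0, 0, 0, 0, 0, 0, 0, 0, 0, 0, 0, 0, 0, 0, 1]⟩,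
    ⟨[(1, true), (1, true), (1, true), (0, true), (1, true), (1, true), (1, true), (1, true), (0, true), (1, true), (1, true), (0, true), (1, true), (0, false), (1, false), (1, false), (1, false), (0, false), (1, false), (1, false), (1, false), (0, false), (1, false), (1, false), (0, false), (1, false), (1, false), (0, false), (1, true), (1, true), (1, true), (0, true), (1, true), (1, true), (0, true), (1, false), (0, false), (1, false), (1, false), (1, false), (0, false), (1, false), (0, true), (1, true), (1, true), (0, true), (1, true), (0, false), (1, false), (0, false), (1, true), (0, true), (1, true), (1, true), (1, true), (0, true), (1, true), (0, false), (1, false), (1, false), (0, false), (1, false), (1, false), (1, false), (0, true), (1, true), (0, true), (1, false), (0, false), (1, false), (1, false), (0, false), (1, true), (0, true), (1, true), (1, true), (1, true), (0, true), (1, true), (0, false), (1, false),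 (1, false), (0, false), (1, false), (1, false), (1, false), (0, true), (1, true), (1, true), (0, true), (1, true), (0, false), (1, false), (0, false), (1, true), (0, true), (1, true), (1, true), (1, true), (0, true), (1, true), (0, false), (1, false), (1, false), (0, false), (1, false), (1, false), (0, true), (1, true), (1, true), (1, true), (0, true), (1, true), (0, false), (1, false), (1, false), (0, false), (1, false), (1, false), (1, false)], [], [0, 0, 0, 0, 0, 0, 0, 0, 0, 0, 0, 0, 0, 0, 0, 0, 0, 0, 0, 0, 0, 0, 0, 0, 0, 0, 0, 0, 0, 0, 0, 0, 0, 0, 0, 0, 0, 0, 0, 0, 0, 0, 0, 0, 0, 1]⟩,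
    ⟨[(0, true), (1, true), (0, true), (1, true), (0, true), (1, true), (1, true), (1, true), (0, true), (1, true), (0, true), (1, true), (1, true), (0, false), (1, false), (1, false), (1, false), (0, false), (1, false), (0, false), (1, false), (1, false), (0, true), (1, true), (1, true), (0, true), (1, true), (0, false), (1, false), (0, false), (1, true), (0, true), (1, true), (1, true), (1, true), (0, true), (1, true), (0, false), (1, false), (1, false), (0, false), (1, false), (1, false), (1, false), (0, true), (1, true), (0, true), (1, false), (0, false), (1, false), (1, false), (0, false), (1, true), (0, true), (1, true), (1, true), (1, true), (0, true), (1, true), (0, false), (1, false), (1, false), (0, false), (1, false), (1, false), (1, false), (0, true), (1, true), (1, true), (0, true), (1, true), (0, false), (1, false), (0, false), (1, true), (1, true), (1, true), (0, true), (1, true), (1, true), (0, true), (1,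 false), (0, false), (1, false), (1, false), (1, false), (0, false), (1, false), (0, true), (1, true), (1, true), (0, true), (1, true), (0, false), (1, false), (0, false), (1, true), (1, true), (1, true), (0, true), (1, true), (1, true), (0, true), (1, false), (0, false), (1, false), (1, false), (1, false), (0, false), (1, true), (1, true), (0, true), (1, true), (1, true), (0, true), (1, false), (0, false), (1, false), (1, false), (1, false), (0, false), (1, false)], [], [0, 0, 0, 0, 0, 0, 0, 0, 0, 0, 0, 0, 0, 0, 0, 0, 0, 0, 0, 0, 0, 0, 0, 0, 0, 0, 0, 0, 0, 0, 0, 0, 0, 0, 0, 0, 0, 0, 0, 0, 0, 0, 0, 0, 0, 0, 1]⟩,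
    ⟨[(0, true), (1, true), (1, true), (1, true), (0, true), (1, true), (0, true), (1, true), (1, true), (1, true), (0, true), (1, false), (0, false), (1, false), (1, false), (1, false), (1, false), (0, false), (1, false), (1, false), (0, false), (1, false), (1, false), (0, false), (1, true), (1, true), (1, true), (0, true), (1, true), (1, true), (0, true), (1, false), (0, false), (1, false), (1, false), (1, false), (0, false), (1, false), (0, true), (1, true), (1, true), (0, true), (1, true), (0, false), (1, false), (0, false), (1, true), (1, true), (1, true), (0, true), (1, true), (1, true), (0, true), (1, false), (0, false), (1, false), (1, false), (1, false), (0, false), (1, true), (1, true), (0, true), (1, true), (1, true), (0, true), (1, false), (0, false), (1, false), (1, false), (1, false), (0, false), (1, false), (0, true), (1, true), (1, true), (0, true), (1, true), (0, false), (1, false), (0, false), (1, true),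 (0, true), (1, true), (1, true), (1, true), (0, true), (1, true), (0, false), (1, false), (1, false), (0, false), (1, false), (1, false), (1, false), (0, true), (1, true), (1, true), (0, true), (1, true), (0, false), (1, false), (0, false), (1, true), (0, true), (1, true), (1, true), (1, true), (0, true), (1, true), (0, false), (1, false), (1, false), (0, false), (1, false), (1, false), (1, false), (0, true), (1, true), (0, true), (1, false), (0, false), (1, false), (1, false), (0, false)], [], [0, 0, 0, 0, 0, 0, 0, 0, 0, 0, 0, 0, 0, 0, 0, 0, 0, 0, 0, 0, 0, 0, 0, 0, 0, 0, 0, 0, 0, 0, 0, 0, 0, 0, 0, 0, 0, 0, 0, 0, 0, 0, 0, 0, 0, 0, 0, 1]⟩,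
    ⟨[(0, true), (1, true), (0, true), (1, true), (0, true), (1, true), (1, true), (0, true), (1, true), (1, true), (0, false), (1, false), (1, false), (1, false), (1, false), (0, false), (1, false), (1, false), (1, false), (0, true), (1, true), (1, true), (0, true), (1, true), (0, false), (1, false), (0, false), (1, true), (0, true), (1, true), (1, true), (1, true), (0, true), (1, true), (0, false), (1, false), (1, false), (0, false), (1, false), (1, false), (1, false), (0, true), (1, true), (1, true), (0, true), (1, true), (0, false), (1, false), (0, false), (1, true), (0, true), (1, true), (1, true), (1, true), (0, true), (1, true), (0, false), (1, false), (1, false), (0, false), (1, false), (1, false), (1, false), (0, true), (1, true), (0, true), (1, false), (0, false), (1, false), (1, false), (0, false), (1, true), (0, true), (1, true), (1, true), (1, true), (0, true), (1, true), (0, false), (1, false), (1, false),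 (0, false), (1, false), (1, false), (1, false), (0, true), (1, true), (0, true), (1, false), (0, false), (1, false), (1, false), (0, false), (1, true), (1, true), (1, true), (0, true), (1, true), (1, true), (0, true), (1, false), (0, false), (1, false), (1, false), (1, false), (0, false), (1, false), (0, true), (1, true), (0, true), (1, false), (0, false), (1, false), (1, false), (0, false), (1, true), (1, true), (1, true), (0, true), (1, true), (1, true), (0, true), (1, false), (0, false), (1, false), (1, false), (1, false), (0, false), (1, false)], [], [0, 0, 0, 0, 0, 0, 0, 0, 0, 0, 0, 0, 0, 0, 0, 0, 0, 0, 0, 0, 0, 0, 0, 0, 0, 0, 0, 0, 0, 0, 0, 0, 0, 0, 0, 0, 0, 0, 0, 0, 0, 0, 0, 0, 0, 0, 0, 0, 1]⟩,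
    ⟨[(1, true), (1, true), (0, true), (1, true), (0, true), (1, true), (0, true), (1, true), (1, true), (0, false), (1, false), (1, false), (1, false), (0, false), (1, true), (0, true), (1, true), (0, false), (1, false), (0, false), (1, true), (0, true), (1, true), (1, true), (1, true), (0, true), (1, true), (0, false), (1, false), (1, false), (0, false), (1, false), (1, false), (1, false), (0, true), (1, true), (1, true), (0, true), (1, true), (0, false), (1, false), (0, false), (1, true), (1, true), (1, true), (0, true), (1, true), (1, true), (0, true), (1, false), (0, false), (1, false), (1, false), (1, false), (0, false), (1, false), (0, true), (1, true), (1, true), (0, true), (1, true), (0, false), (1, false), (0, false), (1, true), (1, true), (1, true), (0, true), (1, true), (1, true), (0, true), (1, false), (0, false), (1, false), (1, false), (1, false), (0, false), (1, false), (0, true), (1, true), (0, true),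 (1, false), (0, false), (1, false), (1, false), (0, false), (1, true), (0, true), (1, true), (1, true), (1, true), (0, true), (1, true), (0, false), (1, false), (1, false), (0, false), (1, false), (1, false), (1, false), (0, true), (1, true), (1, true), (0, true), (1, true), (0, false), (1, false), (0, false), (1, true), (0, true), (1, true), (1, true), (1, true), (0, true), (1, true), (0, false), (1, false), (1, false), (0, false), (1, false), (1, false), (1, false), (0, true), (1, true), (1, true), (0, true), (1, true), (0, false), (1, false), (0, false)], [], [0, 0, 0, 0, 0, 0, 0, 0, 0, 0, 0, 0, 0, 0, 0, 0, 0, 0, 0, 0, 0, 0, 0, 0, 0, 0, 0, 0, 0, 0, 0, 0, 0, 0, 0, 0, 0, 0, 0, 0, 0, 0, 0, 0, 0, 0, 0, 0, 0, 1]⟩]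
  pot g := pot0.getK g
  innerSize := 20160
  innerGen := 2

/-- data -/
def level0eqsPart0 : List (ℕ × ℕ × Vec) := [(3, 89, [0, 0, 0, 0, 0, 0, 0, 1, 0, 0, 0, 0, 0, 0, 0, 0, 0, 0, 0, 0, 0, 0, 0, 0, 0, (-1)]), (3, 161, [0, 0, 0, 0, 0, 0, 0, 1, 0, 0, 0, 0, 0, 0, 0, 0, 0, 0, 0, 0, 0, 0, 0, 0, 0, 0, 0, (-1), 0, 0, 0, 0, 0, (-3)]), (3, 281, [0, (-1), (-1), 3, 0, (-1), (-2), (-2), 0, (-3), 3, 0, (-5), 0, 0, 0, (-1), 3]), (3, 69, [(-1), 1, 3, (-5), 2, (-1), (-1), 2, 0, 1, 0, (-1), 0, 0, 0, 0, 0, 0, 0, 0, 0, 0, 0, 0, 0, 0, 0, 0, 0, (-3), 0, (-3), (-6), 0, 0, 0, (-3)]), (9, 28, [(-5), 4, (-16), 30, 22, (-28), 1, (-19), 0, (-12), 23, 8, (-9), 0, 0, 0, 0, (-1), 0, 0, 0, 0, 0, 0, 0, 0, 0, 0, 0, (-1), 0, (-1), (-2), 0, 0, 0, (-1), 0, (-1)]), (3, 238, [10, 24, (-6), 16, 3, (-34), 0, (-4), 0, (-42), 33, (-11), (-10), 0, 0, 0, (-6), 1, 0, 0, 0, 0, 0, 0, 0, 1, (-17), (-13), (-9), 7, 9, 0, (-1), 0, 0, 0, 0, 0, 0, 0, 0, 0, 0, (-5)]), (9,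 207, [9, 57, 0, 4, (-2), (-59), (-17), (-22), 0, (-28), 35, 1, (-7), 0, 0, 0, 3, (-3), 0, 0, 0, 0, 0, 0, 0, 0, 0, (-2), (-4), (-1), 4, (-1), (-2), 0, 0, 0, (-1)]), (9, 17, [22, 53, (-11), 6, (-57), (-19), (-21), 2, 0, (-35), 24, (-17), (-17), 0, 0, 0, 13, (-4), 0, 0, 0, 0, 0, 0, 0, (-10), 19, 11, (-5), 9, (-4), (-4), 13, (-15), (-1), (-1), 0, 1, (-2), (-1), 0, 1, 0, 2, 0, 2, 2, 1, 4, 1]), (9, 61, [3, 44, (-1), (-3), 42, (-68), 5, (-32), 0, (-66), 29, 1, (-8), 0, 0, 0, (-28), 25, 0, 0, 0, 0, 0, 0, 0, 19, (-19), (-23), (-17), 14, 24, 0, 0, 1, 0, 0, 0, 0, (-1)]), (2, 201, [(-4), (-54), 9, (-40), (-38), 97, 8, 16, 0, 49, (-59), 13, 4, 0, 0, 0, 8, 11, 0, 0, 0, 0, 0, 0, 0, 6, (-9), 3, 3, 11, (-18), (-3), 1, 0, 0, 0, 1, 0, (-1), (-1), 1, 1, 0, 2, 0, (-1), 1, 0, 1]), (7, 249, [(-14), (-30), (-15), 48, 4, 3, (-17), 17, 0, 61, (-3), (-6), (-4), 0, 0, 0, 49, (-35), 0, 0, 0, 0, 0, 0, 0, (-20), 40, 30, 34, (-23), (-21), (-7), 8, (-16),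 0, (-1), (-2), (-1), 0, 0, 1, 5, 0, 0, 1, 0, 5, 0, 1, 1]), (10, 60, [(-41), (-78), (-9), (-7), 84, 25, 20, 31, 0, 47, (-55), (-6), 4, 0, 0, 0, 36, (-8), 0, 0, 0, 0, 0, 0, 0, 16, (-23), (-15), (-3), 10, 1, (-1), (-1), 4, 0, 0, 0, 0, 0, (-1), 0, (-1), 0, 0, 0, 1, 0, 0, 1, 1]), (5, 253, [18, 69, (-26), 73, (-32), (-78), 19, (-21), 0, (-23), 62, (-2), (-11), 0, 0, 0, 2, (-6), 0, 0, 0, 0, 0, 0, 0, (-4), (-11), 3, 19, (-10), (-22), 0, (-4), (-1), (-2), 1, 1, 0, 0, 0, 1, (-2), 1, 2, 2, 0, (-1), 1, 0, 1]), (5, 210, [(-13), (-39), 23, (-33), 48, 27, 39, (-39), 0, (-8), (-20), 27, 2, 0, 0, 0, (-42), 35, 0, 0, 0, 0, 0, 0, 0, 20, (-23), (-20), (-15), 1, 19, 2, (-14), 25, 1, 0, (-2), 0, 0, 1, 2, (-1), (-1), 0, 0, 0, (-1), (-1), (-1)]), (6, 233, [23, (-13), 46, (-80), (-100), 109, (-42), (-8), 0, 34, (-22), 18, 4, 0, 0, 0, 4, 4, 0, 0, 0, 0, 0, 0, 0, 7, 4, 15, 16, (-1), (-20), (-1), (-10), 10, 0, (-1), (-1), 0, (-2), (-1), 1, 0, 0, 2,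 0, (-1), 0, 0, (-1)]), (9, 89, [(-14), (-30), (-39), 81, (-23), 5, 1, 70, 0, 38, (-13), (-32), (-44), 0, 0, 0, 65, (-16), 0, 0, 0, 0, 0, 0, 0, (-10), 10, 4, 16, (-1), (-21), (-15), (-15), (-31), (-1), (-5), (-9), 8, 0, (-1), 2, 5, 0, 6, (-4), (-1), 3, 1, 6, (-1)]), (9, 320, [(-34), (-57), 17, (-49), 108, 2, 48, 1, 0, (-27), (-27), 1, (-5), 0, 0, 0, (-29), 34, 0, 0, 0, 0, 0, 0, 0, 26, (-44), (-36), (-29), 32, 24, (-2), 5, 2, 1, (-1), (-3), 0, 0, (-1), 0, 0, (-1), 0, 1, 0, 1, 0, (-1)]), (5, 238, [54, 29, (-20), 37, (-121), 38, (-50), 39, 0, (-8), 46, (-21), 17, 0, 0, 0, 42, (-34), 0, 0, 0, 0, 0, 0, 0, (-11), 6, 15, 41, (-11), (-24), 2, (-3), (-9), (-3), 2, (-1), 2, 1, 4, (-1), (-3), 1, 0, (-2), 1, (-3), 1, 2]), (8, 135, [12, 29, 32, (-98), (-92), 69, (-19), 26, 0, 70, (-70), 13, 27, 0, 0, 0, 34, (-15), 0, 0, 0, 0, 0, 0, 0, 4, 23, 12, (-3), 3, (-7), (-2), (-12), 3, 1, (-3), (-1), 0, (-3), (-1), 4, 2, (-1), 1, (-5), 0, 1,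 (-4), 3, (-1)]), (5, 254, [(-33), (-42), (-8), (-3), 152, (-61), (-28), (-22), 0, (-85), 37, (-15), (-18), 0, 0, 0, (-33), 28, 0, 0, 0, 0, 0, 0, 0, 14, (-4), (-13), (-25), 31, 40, 2, 4, (-5), (-1), 1, 1, (-1), 0, 1, (-1), 1, 0, (-2), 0, 1, 1, 0, (-1), 1])]

/-- data -/
def level0eqsPart1 : List (ℕ × ℕ × Vec) := [(6, 47, [(-24), (-16), 13, (-97), 36, 29, 14, 52, 0, (-7), (-83), (-24), 0, 0, 0, 0, 23, 24, 0, 0, 0, 0, 0, 0, 0, 17, (-24), (-36), (-37), 49, 21, (-11), 8, (-29), 0, (-3), (-6), 4, (-1), 0, 3, 5, 0, 0, (-5), 1, 4, (-2), 5, 3]), (4, 3, [44, 106, (-26), 73, (-114), (-62), (-18), (-22), 0, (-32), 68, (-14), (-20), 0, 0, 0, (-1), (-11), 0, 0, 0, 0, 0, 0, 0, (-9), 13, 11, 14, (-26), (-19), 0, 1, (-8), (-2), 1, 2, (-1), 0, 0, (-1), 1, 0, 2, 2, 0, 1, 1]), (16, 71, [(-13), (-90), (-3), 98, 51, 10, 30, (-25), 0, 35, 78, 17, 2, 0, 0, 0, (-16), (-36), 0, 0, 0, 0, 0, 0, 0, (-11), (-8), 19, 51, (-40), (-34), 3, 3, 12, 2, 3,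 (-2), (-4), 4, 2, (-2), 0, 0, (-4), 6, (-3), 1, (-1), (-10), (-2)]), (12, 252, [(-27), (-6), 29, (-15), 97, (-42), 76, (-45), 0, (-36), (-11), 27, (-20), 0, 0, 0, (-50), 62, 0, 0, 0, 0, 0, 0, 0, 43, (-46), (-35), (-1), 22, 7, (-4), (-16), 3, 1, 0, (-1), 5, 0, 0, 2, 0, 0, 9, (-1), (-1), 1, 0, 1, (-2)]), (9, 59, [(-41), (-2), (-25), 103, 131, (-133), 15, (-21), 0, (-13), 61, (-5), (-46), 0, 0, 0, 25, (-11), 0, 0, 0, 0, 0, 0, 0, (-6), 4, (-8), (-1), (-19), 8, (-9), (-8), (-19), 0, (-2), (-6), 4, 1, 0, 1, 4, 0, 6, 1, (-1), 4, 0, 0, (-3)]), (7, 66, [(-43), (-90), (-44), 79, 83, 0, 43, 50, 0, 58, (-13), (-25), (-3), 0, 0, 0, 68, (-38), 0, 0, 0, 0, 0, 0, 0, (-3), 3, 15, 44, (-6), (-31), (-3), 10, (-11), 0, 1, (-2), 0, 1, 1, (-1), 1, 0, 0, 2, 1, 1, 2, 1]), (5, 89, [(-47), (-118), (-8), 8, 84, 58, 79, 71, 0, 44, (-76), (-15), 0, 0, 0, 0, (-4), 16, 0, 0, 0, 0, 0, 0, 0, 21, (-48), (-24), 3, 22, (-13), (-6), (-9), (-3), (-1), (-3),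 (-6), 2, 2, (-1), (-2), 1, 0, 0, (-1), (-1), 1, 1])]

/-- the table with its checks -/
def level0 : CfsgLib.Sporadic.ChainLevel where
  table := table0
  gexp := [[1], [0, 1]]
  perm := [0x1181c2387b03032140b01a07d38c3e0104e2a0140685d1108303d821042834039040850048d1e8512488034488328773483c05c7834d3015c420d83f114660143a324470b865168190cc4c09cc802c2f150160b45804830000351345f31ccf0ec48034960181f3b0b31008c3882c10cb80e0a92601119049464e646cb9178370c49e020f03a90d218c41bc6e2e8c24311647d0f294250a4840780327c093608f084de3bc131e41b1b0b208ca045cfb1541d0087f28cab080d9408e013cf41711036cac2c4e519c7c224a42d090284763fd3e0385b4f49126d433a0bd01c9c21c53289413f93a164631c12f300af499002f1221c5361b52b39c4a0f4340911e469113c84b060220982a3a4f63e9091f89337c9a3ad1c204da254ee1580a4189d184c62b8d41a8dc14940384821a5283390a25d04355134dd033588b451422d8a62fd33250f93d6723910841cd73cd3c1c86b46075264cd4b4f73f1241cc8a43860330623752c32c744fd38305344552a2f92e3c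53b494c54751249cbb0ad324c50148d3930cf8485352dd2942caa29d203b4b53f4ad7698a7499a59de07757c579d05496663dc453964619565565c731605d56a7096253196565c95757254dc653d4884dbc56daa895bb89d797f61458d8b6415a6e9ee8496f8721552d946c1805fda305592639f3551c8785d1515737f1b1611505d1b260df05f5b957e1e815a651e356ae1d6cdd9706267a9819f631665f26b6065ad9c7b5a87d2095f98d6459e976619966f8f1955d96d5a66394e4a8f5a05721a54616595cb61d61761c7562178922e53589519e58d2007ae807299f511ec7d94a8b27952588845e67ddd378dfe82e20689d676dac5de2b64e3869d856ba67771e4822859aa326317079e647561b9b20e9d1986a6667e1af9f9e8a126980e5e989e25e1685c57b715cd8661870e015e99d65e7f7a656942297396c6856e8fa239d9ef77a4f73e4496da57ee477519b9a2817c67a8fe4c6e1c08a23a94a8795e758be5a9c6339627c6fe608ee549ba2d88a59901be9368288642922519163055db483e7092db5841bd7fdb681df58da0d7ea8680a77939b797e4641678812438aa6d9cddf8e683925a482a1f75e379567b831f99ae41, 0x9b2659be6292e1196e2b80e666b66e881b56f9f48d5c16a667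6bcc2a0a869c1e89165ea127ea1e3d9ae5da16646de749aa319a65f9865c9660f98e7d7ea5488a36816386a24290e7f91e0881e5886dbf7fa3978e529ce347ee4c7cdb4959b1791669e6377e66895e51836218b24f83998a0e3e79e4877a0b775c06ad6b6866d7de2a9258e8119f8b97c692198598c629a2549bc7fe718261d93a776f64694de281a2d969f88ce4a6819184226679828a60c9122f8edb9a01ae55a2773d996759a6517f7118b7c67a6da407b632955e66cd6488da564a1e555ba68d8675da77499b6217763d7d8059652579569b0532005855d5c967540158a24d9ee0a9d99385590761f6a05f59f260721838957e8c27580a1c671f09e25075581905d48fdd07bde97b1e577e3c861db7f21f71976551fd74d57785b284dea5cda6771748ea125c1b8745bb769aa85dee6b1e05395e5b5ce5156f7595356d847ad5c71e1a5817165d48625687314d636245b1ca7356a5114a589875edc2595515e1587c9d9601c95e98551d635a61457d4b6555970d75519cb53d6e465382f141448c44b8f24f1281cd1e491404090d2f9072b8954bd0f4d9223150c401254f543474ba2f51b18cfa4e8bb47cfe4fcf0459271b4c04ac9c40d2c4d0b1461422e51a4a53929cdb26470374ad330b633d171d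44d44cab3851427474354a64c0b422933444c11a08b2b06f12ca82889b278982dc482cc46418b20dc0f25ceb1ac850485742462410bf09c0b24806244af3dc723d0111f40c0e85f9c937481154a92621d3b35d2d4393e3c486428f8440ff3b0b5380b0404e4335321a4f53886448cd4284321549a11cd1034963f0c3420f33b4ea3b8b818131364073384c160431ec5e414e9184773d8e70f45423c2d1688129434104ca040391a87e0588832d35394fd3ec711b8e342c593a0833e43e17490068e6470dc31caa1f0a90fca0124043bc790e05b1987a0d83007c8e1400e484a33583134c940ec8c14c140d4a4138893206c0bc801fc4002044114df13c82144650cc8d028241e02e0ac260a01e1581d04cd008c020a81c12800024030a44227c1700405714d8080de3185224cc934867064da084841702c1d83c094180881b]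
  pinv := [0x1181c2387b03032140b01a07d38c3e0104e2a0140685d1108303d821042834039040850048d1e8512488034488328773483c05c7834d3015c420d83f114660143a324470b865168190cc4c09cc802c2f150160b45804830000351345f31ccf0ec48034960181f3b0b31008c3882c10cb80e0a92601119049464e646cb9178370c49e020f03a90d218c41bc6e2e8c24311647d0f294250a4840780327c093608f084de3bc131e41b1b0b208ca045cfb1541d0087f28cab080d9408e013cf41711036cac2c4e519c7c224a42d090284763fd3e0385b4f49126d433a0bd01c9c21c53289413f93a164631c12f300af499002f1221c5361b52b39c4a0f4340911e469113c84b060220982a3a4f63e9091f89337c9a3ad1c204da254ee1580a4189d184c62b8d41a8dc14940384821a5283390a25d04355134dd033588b451422d8a62fd33250f93d6723910841cd73cd3c1c86b46075264cd4b4f73f1241cc8a43860330623752c32c744fd38305344552a2f92e3c53b494c54751249cbb0ad324c50148d3930cf8485352dd2942caa29d203b4b53f4ad7698a7499a59de07757c579d05496663dc453964619565565c731605d56a7096253196565c95757254dc653d4884dbc56daa895bb89d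797f61458d8b6415a6e9ee8496f8721552d946c1805fda305592639f3551c8785d1515737f1b1611505d1b260df05f5b957e1e815a651e356ae1d6cdd9706267a9819f631665f26b6065ad9c7b5a87d2095f98d6459e976619966f8f1955d96d5a66394e4a8f5a05721a54616595cb61d61761c7562178922e53589519e58d2007ae807299f511ec7d94a8b27952588845e67ddd378dfe82e20689d676dac5de2b64e3869d856ba67771e4822859aa326317079e647561b9b20e9d1986a6667e1af9f9e8a126980e5e989e25e1685c57b715cd8661870e015e99d65e7f7a656942297396c6856e8fa239d9ef77a4f73e4496da57ee477519b9a2817c67a8fe4c6e1c08a23a94a8795e758be5a9c6339627c6fe608ee549ba2d88a59901be9368288642922519163055db483e7092db5841bd7fdb681df58da0d7ea8680a77939b797e4641678812438aa6d9cddf8e683925a482a1f75e379567b831f99ae41, 0x9a6709966b8b6716ddf593a6a961b56fde88e5a9831bd6ba6290cc58426fa167c88a8799e6197e369d27ea1a6496684975b497a6c99a5ca060596e4a8d63d78e56826448d1a88c20d70240a0e0287e2a9360a9b5f993e50695e668e2c9a19c7dd8991a528e2549de4280de4981af7e21b8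1a31a02207edc17c9fe6c56677e558ca7b661dc839ac925708619b606176ed4e63d88a09ff96a2f8cdfa8a1be83e4c92e0794e1d9fdad73dc88464765199906578de04885b86da788fd577a5aa685807959f5cd8e6826e8ade267a3b916086457e6762989d8b66983559b975d7769da464dd5615a27c57a58d6951964551b35c597055eb5255c9da269227982e12611da7d98698de79ea3e785908f1ca9cdf49f57f895829d6517598c77a197661488e01871fd7bdab751ee7c22e5b5ce52ded6f1dd801ba7461e59e167aa155add3579d8549746c9fc699557b1b07421a5755373159749965218a635c55b9875e1445ed658916253d6a7123a56de05415f71d6f5357c719725d5cb52958649f376d955da13569c35157d5a1c9531607356c545475e5614990e5013646cba49d3b2f91f429423112d1d1113c8ac250f54bd3d2f112454c142d3a460c04a13729d2c134c347538494634890c50d0f40119308fa3f53f3c4b54b8bb4d12a1b4b735c9b4c8e122cd544d352bd292d11c1c89d1c5201a4b6334872a8cb2693c2e51a16497264b3370982286b218641ccae1b8a93ecb10d812414624200a24c142f44b3dca61240d28024404912b5031d47c0383f184114ad3e272723c1163513348d414792443496395022c8f438ce0440b033931410ed3f060178ea424f61fc42130e92945c064e73e5143a0a241ce63749e4c04803cd133c6620c500c0463b8f3100762fcb8368081a8342003c0ec783245f234541602d220053fcf84e4cc1c1063b06f45c3e36c792acef030550c8a8484d6224953188c19c07158811b08f3602728c84114100cc4f0d4413f8903ac1f16ce4284e20dc382381a1f43a174682140411cc71e85737c5310c7e0c4a4128520f42c208060ac2106c2934c2a00c2e08c010241314428098200006502c020607770844094d93287b3784e27cc83482f07439248d00585a0702205c1e]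
  defs := [[(0, true), (1, true), (1, true), (0, true), (1, true), (0, false), (1, false), (0, false)], [(1, true), (1, true), (1, true), (0, true), (1, true), (1, true), (0, true), (1, false), (0, false), (1, false), (1, false), (1, false), (0, false), (1, false)]]
  eqs := level0eqsPart0 ++ level0eqsPart1
  pts := [0]

end CfsgLib.Sporadic.MultTwoUnit
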