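import Mathlib
import Cfsg.Agent.Lib.Sporadic.ChainCertificate
import Cfsg.Agent.Lib.Schur.TrieFast

/-!
# Coset table 1 of a chain
-/

set_option autoImplicit false
set_option maxRecDepth 100000
set_option maxHeartbeats 0
set_option Elab.async false

noncomputable section

namespace CfsgLib.Sporadic.MultTwoUnit

open CfsgLib.Schur.Cert

/-- data -/
def next1 : Trie (ℕ) := .node (.node (.node (.node (.node (.node (.leaf 0) (.leaf 20)) (.leaf 13)) (.node (.node (.leaf 1) (.leaf 19)) (.leaf 5))) (.node (.node (.node (.leaf 4) (.leaf 8)) (.leaf 3)) (.node (.leaf 10) (.leaf 14)))) (.node (.node (.node (.node (.leaf 2) (.leaf 7)) (.leaf 12)) (.node (.leaf 9) (.leaf 18))) (.node (.node (.node (.leaf 6) (.leaf 16)) (.leaf 17)) (.node (.leaf 11) (.leaf 15))))) (.node (.node (.node (.node (.node (.leaf 1) (.leaf 11)) (.leaf 14)) (.node (.node (.leaf 8) (.leaf 13)) (.leaf 0))) (.node (.node (.node (.leaf 5) (.leaf 17)) (.leaf 16))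 (.node (.leaf 6) (.leaf 2)))) (.node (.node (.node (.node (.leaf 3) (.leaf 20)) (.leaf 15)) (.node (.leaf 4) (.leaf 19))) (.node (.node (.node (.leaf 7) (.leaf 18)) (.leaf 9)) (.node (.leaf 12) (.leaf 10)))))

/-- data -/
def prev1 : Trie (ℕ) := .node (.node (.node (.node (.node (.node (.leaf 0) (.leaf 19)) (.leaf 18)) (.node (.node (.leaf 2) (.leaf 16)) (.leaf 9))) (.node (.node (.node (.leaf 1) (.leaf 13)) (.leaf 6)) (.node (.leaf 3) (.leaf 14)))) (.node (.node (.node (.node (.leaf 4) (.leaf 11)) (.leaf 5)) (.node (.leaf 12) (.leaf 8))) (.node (.node (.node (.leaf 10) (.leaf 20)) (.leaf 7)) (.node (.leaf 17) (.leaf 15))))) (.node (.node (.node (.node (.node (.leaf 12) (.leaf 10)) (.leaf 4)) (.node (.node (.leaf 5) (.leaf 17)) (.leaf 7))) (.node (.node (.node (.leaf 14) (.leaf 19)) (.leaf 15)) (.node (.leaf 6) (.leaf 8)))) (.node (.node (.node (.node (.leaf 0) (.leaf 18)) (.leaf 11)) (.node (.leaf 2) (.leaf 20))) (.node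 (.node (.node (.leaf 1) (.leaf 13)) (.leaf 16)) (.node (.leaf 3) (.leaf 9)))))

/-- data -/
def lab1 : Trie (Word) := .node (.node (.node (.node (.node (.node (.leaf ([(0, true)])) (.leaf ([]))) (.leaf ([]))) (.node (.node (.leaf ([])) (.leaf ([(0, true), (1, true), (1, true), (0, true), (1, false), (1, false), (0, false), (1, false), (0, false)]))) (.leaf ([(0, true), (1, false), (1, false), (0, true), (1, true), (0, true), (1, false), (0, true)])))) (.node (.node (.node (.leaf ([])) (.leaf ([]))) (.leaf ([]))) (.node (.leaf ([])) (.leaf ([(1, false), (0, true), (1, true), (0, true), (1, false), (0, true), (1, true), (0, false), (1, false)]))))) (.node (.node (.node (.node (.leaf ([])) (.leaf ([]))) (.leaf ([(0, false), (1, true), (0, false), (1, false), (0, false), (1, true), (1, true), (0, false)]))) (.node (.leaf ([])) (.leaf ([])))) (.node (.node (.node (.leaf ([])) (.leaf ([(0, true), (1, true), (0, true), (1, true),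 (1, true), (0, false), (1, false), (1, false), (0, false)]))) (.leaf ([]))) (.node (.leaf ([])) (.leaf ([(1, false), (0, false), (1, true), (0, false), (1, false), (0, false)])))))) (.node (.node (.node (.node (.node (.leaf ([])) (.leaf ([(0, true)]))) (.leaf ([]))) (.node (.node (.leaf ([])) (.leaf ([(0, false), (1, false), (0, true), (1, true), (0, true), (1, true), (0, true), (1, false)]))) (.leaf ([])))) (.node (.node (.node (.leaf ([])) (.leaf ([(1, false), (0, false), (1, true), (1, true), (0, true), (1, true), (0, false), (1, false)]))) (.leaf ([]))) (.node (.leaf ([(1, true)])) (.leaf ([(1, true), (0, true), (1, true), (1, true), (0, false), (1, false), (1, false), (0, false)]))))) (.node (.node (.node (.node (.leaf ([])) (.leaf ([(0, true), (1, true), (0, true), (1, true)]))) (.leaf ([]))) (.node (.leaf ([(0, true), (1, true), (1, true), (0, true), (1, false), (1, false), (0, false), (1, false)])) (.leaf ([]))))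 (.node (.node (.node (.leaf ([])) (.leaf ([(1, true), (0, true), (1, false), (1, false), (0, false), (1, false), (0, false), (1, true)]))) (.leaf ([(1, false), (0, true), (1, true), (0, false), (1, false), (0, false), (1, true), (0, true)]))) (.node (.leaf ([])) (.leaf ([(0, false), (1, false), (0, false), (1, true), (0, false), (1, false), (0, true), (1, true), (0, true)]))))))

/-- data -/
def val1 : Trie (Vec) := .node (.node (.node (.node (.node (.node (.leaf ([])) (.leaf ([]))) (.leaf ([]))) (.node (.node (.leaf ([0, 0, 0, 0, 0, 0, 0, 0, 0, 0, 0, 0, 0, 0, 0, 0, 0, 0, 0, 0, 0, 0, 0, 0, 0, 1])) (.leaf ([0, 0, 0, 0, 0, 0, 0, 0, 0, 0, 0, 0, 0, 0, 0, 0, 0, 0, 0, 0, 0, 0, 0, 0, 0, 1, (-1), 0, 0, 1, (-1)]))) (.leaf ([0, 3, 0, 3, (-2), (-3), (-2), (-1), 0, 5, 1, 1, 0, 0, 0, 0, 1, (-2), 0, 0, 0, 0, 0, 0, 0, (-3), 5, 3, 2, (-4), (-1)])))) (.node (.node (.node (.leaf ([])) (.leaf ([0, 0, 0, 0, 0, 0, 0, 0, 0, 0, 0, 0, 0, 0, 0,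 0, 0, 0, 0, 0, 0, 0, 0, 0, 0, 1]))) (.leaf ([0, 0, 0, 0, 0, 0, 0, 0, 0, 0, 0, 0, 0, 0, 0, 0, 0, 0, 0, 0, 0, 0, 0, 0, 0, 1]))) (.node (.leaf ([])) (.leaf ([(-3), (-8), 0, (-3), 7, 5, 4, 1, 0, 0, (-5), 0, 0, 0, 0, 0, (-2), 3, 0, 0, 0, 0, 0, 0, 0, 2, (-3), (-2), (-2), 3, 1]))))) (.node (.node (.node (.node (.leaf ([])) (.leaf ([0, 0, 0, 0, 0, 0, 0, 0, 0, 0, 0, 0, 0, 0, 0, 0, 0, 0, 0, 0, 0, 0, 0, 0, 0, 1]))) (.leaf ([0, (-9), 0, (-1), 1, 9, 1, 0, 0, (-3), (-1), 0, (-1), 0, 0, 0, 0, 2, 0, 0, 0, 0, 0, 0, 0, 2, (-1), 0, 0, 3, 1]))) (.node (.leaf ([])) (.leaf ([])))) (.node (.node (.node (.leaf ([])) (.leaf ([0, 0, 0, 0, 0, 0, 0, 0, 0, 0, 0, 0, 0, 0, 0, 0, 0, 0, 0, 0, 0, 0, 0, 0, 0, 0, 1, 0, 0, (-1), 1]))) (.leaf ([]))) (.node (.leaf ([])) (.leaf ([(-6), (-20), (-2), 2, 6, 15, 3, 9, 0, 14, (-11), (-1), 1, 0, 0, 0, 7, (-2), 0, 0, 0, 0, 0, 0, 0, 0, 0, 2, 4, 0, (-4)])))))) (.node (.node (.node (.node (.node (.leaf ([])) (.leaf ([0,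 0, 0, 0, 0, 0, 0, 0, 0, 0, 0, 0, 0, 0, 0, 0, 0, 0, 0, 0, 0, 0, 0, 0, 0, 1, (-1), (-1)]))) (.leaf ([]))) (.node (.node (.leaf ([])) (.leaf ([(-1), 0, 0, (-2), 2, 0, (-1), (-1), 0, 0, (-2), 1, 0, 0, 0, 0, (-1), 1, 0, 0, 0, 0, 0, 0, 0, 1, (-1), (-1), (-1), 1]))) (.leaf ([0, 0, 0, 0, 0, 0, 0, 0, 0, 0, 0, 0, 0, 0, 0, 0, 0, 0, 0, 0, 0, 0, 0, 0, 0, 0, 1])))) (.node (.node (.node (.leaf ([])) (.leaf ([1, (-3), 0, (-1), (-7), 8, 1, 2, 0, 4, (-3), 0, 1, 0, 0, 0, 2, (-1), 0, 0, 0, 0, 0, 0, 0, 0, 0, 1, 1, 0, (-2)]))) (.leaf ([]))) (.node (.leaf ([])) (.leaf ([0, 0, 0, 0, 0, 0, 0, 0, 0, 0, 0, 0, 0, 0, 0, 0, 0, 0, 0, 0, 0, 0, 0, 0, 0, 0, 1, 0, 0, (-1)]))))) (.node (.node (.node (.node (.leaf ([])) (.leaf ([0, 0, 0, 0, 0, 0, 0, 0, 0, 0, 0, 0, 0, 0, 0, 0, 0, 0, 0, 0, 0, 0, 0, 0, 0, 0, 0, 0, 1]))) (.leaf ([]))) (.node (.leaf ([0, 0, 0, 0, 0, 0, 0, 0, 0, 0, 0, 0, 0, 0, 0, 0, 0, 0, 0, 0, 0, 0, 0, 0, 0, 0, 0, 0, 0, 1])) (.leaf ([])))) (.node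 (.node (.node (.leaf ([])) (.leaf ([0, 2, 0, 1, 2, (-4), (-3), (-2), 0, (-2), 3, 0, (-1), 0, 0, 0, 0, 0, 0, 0, 0, 0, 0, 0, 0, (-1), 2, 0, (-1), (-1), 2]))) (.leaf ([(-1), 8, 0, 0, 6, (-12), (-1), (-3), 0, (-3), 3, 0, 0, 0, 0, 0, 0, (-1), 0, 0, 0, 0, 0, 0, 0, 0, 1, (-1), (-2), (-1), 2]))) (.node (.leaf ([])) (.leaf ([3, (-7), 1, 0, (-16), 18, (-1), 3, 0, 8, (-4), 1, 1, 0, 0, 0, 2, (-1), 0, 0, 0, 0, 0, 0, 0, (-2), 4, 5, 6, (-1), (-5)]))))))

/-- data -/
def rank1 : Trie (ℕ) := .node (.node (.node (.node (.node (.node (.leaf 1) (.leaf 0)) (.leaf 0)) (.node (.node (.leaf 3) (.leaf 13)) (.leaf 18))) (.node (.node (.node (.leaf 0) (.leaf 6)) (.leaf 4)) (.node (.leaf 0) (.leaf 15)))) (.node (.node (.node (.node (.leaf 0) (.leaf 5)) (.leaf 20)) (.node (.leaf 0) (.leaf 0))) (.node (.node (.node (.leaf 0) (.leaf 14)) (.leaf 0)) (.node (.leaf 0) (.leaf 22))))) (.node (.node (.node (.node (.node (.leaf 0) (.leaf 8)) (.leaf 0)) (.node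 (.node (.leaf 0) (.leaf 12)) (.leaf 7))) (.node (.node (.node (.leaf 0) (.leaf 17)) (.leaf 0)) (.node (.leaf 2) (.leaf 11)))) (.node (.node (.node (.node (.leaf 0) (.leaf 9)) (.leaf 0)) (.node (.leaf 10) (.leaf 0))) (.node (.node (.node (.leaf 0) (.leaf 16)) (.leaf 19)) (.node (.leaf 0) (.leaf 21)))))

/-- data -/
def tree1 : Trie (ℕ × ℕ) := .node (.node (.node (.node (.node (.leaf (0, 0)) (.leaf (10, 1))) (.leaf (4, 1))) (.node (.node (.leaf (2, 0)) (.leaf (16, 0))) (.leaf (7, 1)))) (.node (.node (.node (.leaf (1, 0)) (.leaf (13, 0))) (.leaf (6, 0))) (.node (.leaf (3, 0)) (.leaf (8, 1))))) (.node (.node (.node (.node (.leaf (0, 1)) (.leaf (11, 0))) (.leaf (5, 0))) (.node (.leaf (2, 1)) (.leaf (8, 0)))) (.node (.node (.node (.leaf (1, 1)) (.leaf (13, 1))) (.leaf (7, 0))) (.node (.leaf (3, 1)) (.leaf (9, 1)))))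

/-- data -/
def cert1 : Trie (ℕ × ℕ × ℕ) := .node (.node (.node (.node (.node (.leaf (0, 0, 0)) (.leaf (3, 13, 2))) (.leaf (5, 0, 5))) (.node (.node (.leaf (2, 7, 2)) (.leaf (5, 11, 2))) (.leaf (7, 20, 16)))) (.node (.node (.node (.leaf (2, 1, 2)) (.leaf (4, 5, 1))) (.leaf (3, 2, 4))) (.node (.leaf (3, 0, 4)) (.leaf (5, 17, 10))))) (.node (.node (.node (.node (.leaf (1, 0, 3)) (.leaf (4, 4, 3))) (.leaf (6, 0, 3))) (.node (.node (.leaf (2, 8, 2)) (.leaf (5, 14, 16))) (.leaf (2, 16, 2)))) (.node (.node (.node (.leaf (2, 3, 2)) (.leaf (5, 10, 3))) (.leaf (4, 1, 4))) (.node (.leaf (4, 0, 4)) (.leaf (7, 13, 15)))))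

/-- data -/
def pot1 : Trie (Vec) := .node (.node (.node (.node (.node (.leaf ([])) (.leaf ([0, 4]))) (.leaf ([0, 4]))) (.node (.node (.leaf ([0, 4])) (.leaf ([0, 6]))) (.leaf ([])))) (.node (.node (.node (.leaf ([0, 2])) (.leaf ([0, 8]))) (.leaf ([0, 4]))) (.node (.leaf ([0, 2])) (.leaf ([0, 4]))))) (.node (.node (.node (.node (.leaf ([])) (.leaf ([0, 4]))) (.leaf ([0, 4]))) (.node (.leaf ([0, 2])) (.leaf ([0, 6])))) (.node (.node (.node (.leaf ([])) (.leaf ([0, 6]))) (.leaf ([0, 2]))) (.node (.leaf ([])) (.leaf ([0, 4])))))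

/-- the table -/
def table1 : Table where
  size := 21
  ngen := 2
  next g x := next1.getK (2 * g + x)
  prev g x := prev1.getK (2 * g + x)
  lab g x := lab1.getK (2 * g + x)
  val g x := val1.getK (2 * g + x)
  rank g x := rank1.getK (2 * g + x)
  tree g := tree1.getK g
  cert j := cert1.getK j
  nded := 22
  rels := [⟨[(0, true)], [(0, true)], []⟩,
    ⟨[(1, true), (1, true), (0, true), (1, true), (0, false), (1, false), (1, false)], [(1, true)], []⟩,
    ⟨[(0, true), (0, true), (0, true)], [], [0, 0, 0, 0, 0, 0, 0, 0, 0, 0, 0, 0, 0, 0, 0, 0, 0, 0, 0, 0, 0, 0, 0, 0, 0, 1]⟩,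
    ⟨[(1, true), (1, true), (1, true), (1, true), (1, true)], [], [0, 0, 0, 0, 0, 0, 0, 0, 0, 0, 0, 0, 0, 0, 0, 0, 0, 0, 0, 0, 0, 0, 0, 0, 0, 0, 1]⟩,
    ⟨[(0, true), (1, false), (1, false), (0, true), (1, false), (1, false), (0, true), (1, false), (1, false)], [], [0, 0, 0, 0, 0, 0, 0, 0, 0, 0, 0, 0, 0, 0, 0, 0, 0, 0, 0, 0, 0, 0, 0, 0, 0, 0, 0, 1]⟩,
    ⟨[(1, true), (1, true), (1, true), (0, true), (0, true), (1, true), (0, false), (1, false), (0, false), (1, false), (0, false), (1, false), (1, false), (0, false), (1, true), (1, true), (0, true), (1, false), (0, false), (1, false), (1, false), (0, false)], [], [0, 0, 0, 0, 0, 0, 0, 0, 0, 0, 0, 0, 0, 0, 0, 0, 0, 0, 0, 0, 0, 0, 0, 0, 0, 0, 0, 0, 1]⟩,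
    ⟨[(1, true), (0, true), (1, true), (1, true), (0, false), (0, false), (1, true), (0, true), (1, true), (0, false), (1, false), (1, false), (0, true), (1, true), (1, true), (0, true), (1, true), (1, true), (0, false), (1, false), (1, false), (0, false), (1, true), (1, true), (0, true), (1, false), (1, false), (0, false), (1, false), (1, false), (0, false)], [], [0, 0, 0, 0, 0, 0, 0, 0, 0, 0, 0, 0, 0, 0, 0, 0, 0, 0, 0, 0, 0, 0, 0, 0, 0, 0, 0, 0, 0, 1]⟩,
    ⟨[(0, false), (1, false), (0, true), (1, false), (0, true), (1, false), (1, false), (1, false), (0, true), (1, false), (0, false), (1, true), (0, false), (1, true), (0, true), (1, true), (0, false)], [], [0, 0, 0, 0, 0, 0, 0, 0, 0, 0, 0, 0, 0, 0, 0, 0, 0, 0, 0, 0, 0, 0, 0, 0, 0, 0, 0, 0, 0, 0, 1]⟩]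
  pot g := pot1.getK g
  innerSize := 960
  innerGen := 2

/-- the table with its checks -/
def level1 : CfsgLib.Sporadic.ChainLevel where
  table := table1
  gexp := [[0, 2], [0, 0]]
  perm := [0xa1e809d67aa0e819fe79a0a7c9f6749ce77a1a7ba12859da7e9e27293e2d92a239565a87e1999e6e902328765094e4689a2e8be3b986149c6189aa3890a2b9264c8c6649825296e2095a2c93a359b6668a64491e6290e348e66985e589962786e1a8de3e906339be578864898e5f8c25188a549366b916288725d84e3a9a2708da4b8aa1e8f63c97a249666c85a3f896128565c7c5e67a60b841d780604819ef789f4815df7e1e4839cb7d6087b9e0845cf831f780e0078e09725d27edcc7f9da7c9eb71dc4779fa80a0d735e77fdd4765c282a0f7c1d6715fd745db7e5ca74e0770ded785ea7a1e5739dd7d9dc719c87b1f3761d0755fc705c06f9bd6fdba6f1bb6e5b86759b6a5ae5c9756698f6d998681876555b695ad5b97d6d5a468d656dda85e9596858b6bd6a58db4585b3589645a1695cdaa6199e61185569795dda75e1b056167581825fd816015e57db2689715bdac5c1835f17e5759667d896298865197665b15995c635925ed6d5ada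b5b17669974645936419c6398c5194753d535314b5295554152545545394d5255652144515574c14250d3f4c53e4e9394cd364d5374c93d4f13b4d138501413ecf93acf73d0f644ce14451b3711c4690c3d4fa4ad21358ee3c0f33fcfd3f8e83c52a4250b4111736d18458e5355284a50741908415274812f35d0f381104392d409033a501375144791f48d253512634d24474d83f0e64b90d37cd0488e438cd242919368e24b0f2400e73bcd13e0ed44915364de3b0ea33cce330cb334c8328c931cc622cb22dcaf2509b2fcc12ac912a8b92889f274a6268c4200b42f48e2b0b6228c22c4971e07d314ae2cc88280ba1e885234a930cc0270952b4892ec8c2d4be1f8a421c842407b2e07629c991fc922f07928c8f2a08224ca52608120c862c0771f09e284960ac721d4621207106c2e18c2912c4a1a45d0f05105c1f134740a86b17c420703a0cc650d8570a0240fc660c01815046124501b46c180220bc700784e14c440944010c5e0841a1483916c3119c2c0d42708c560ec3e1704513c1d1bc161cc261305816461104340dc6a15447064201b8680b4321903d168380540f0241100803030010401404c0a02c0503808018040341201c00, 0xa1e76936429224088e83932199d62292a497021890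61f8fa2193d319661b946869a6618f67d8da609b27ba0a2c992589fa8191e318a2159b6798c27c976849a2639e2709423499a7789a7494a7395a5fa025b94e398d67a9122a84a2e8be1a9fe3c93a6f706469ae3891654969bd90e6a92e3295dbf9c61d8fe37871bb955be8ee6e8823a8adba8b61799e33879bc8521684db8839f97be026d1fb82da877e057d60f79df7835d4829f6685e9641c5841f466dde7918473e047b9ce805c2799ca5e162731d17e1a0661a45bdfa6a5f15c1f0695b66356d5a9655b1736d56b5a59d5c9a25a15b75d6e6c1d65ed5872d5a68d95565cd5c587a165e996628a65c8962489db9825fe81de37f1da785d86dde88219c6c9d080de26c5836be06631ea6b9ff63ded8455f831dd71dad7c9ac7b1d56097c5d95e7717e5d1817cde059997629ab719d3725db6655c67dc87adaa699967f5896398079560712006515d765885fd755f56770dd264d9e61979645856cd9a5e96469d63649775858b521545294b55552539575354554d515114f541465314951c159c9404f93b505374e1434d9345093a4c1394d5324f13d4cd3f3f126440f5490e048d0d3b4d4408f6439013a4f42d4c44810a449083fcae4a8f321cc349ca241cf93f88a3c4e13749c2fce84acee2b0be2d0c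1370fd3c12129c9441913424ab4a51142d052c89b36c95368c02a87b4a076268f8220d9274fb204d8410d6294842dcd53ac7f27cd02bca62b48b290802247e3386018c620ac5e094220a402401162e92e3c8e44b4bc4bd0c2c4d7464b04b11f395153a91e470d24511b4891d468fa344e225d17258de2351838cef39c8f2d8bb4950f2f4a1314862e49920cb840ca32a4ec24c77308f7278e62447d2cc7a240a01e092208a837c7c230d3214982387933c741c47332c69150201c05a3345c134670644c324323306b140481a816320301543c074443282d0cc4213c1c104c60603912c081b458164751744303452138340b0070a0310503504c610402114c3705c0f0901f00c2a02c570381a1c85f15840018090bc2316c050301b09c510284a0981e004361b02e55838198491a0461bcc70f83d194121b83b0106411c3f1143a04400]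
  pinv := [0xa1e799da77a0e7fa0a86a06749f67e9e284a02739ea75a167c9ee7296e228d668926188aa59902239a6488f6528c644976518c21b89a1293e6c8663e8d24d9b62c98e508ba649c64b8ae548826f95632916628a64690e578de6785a388761c97a24906588e62192a428da6694e2f97e609c24c95a1f91e288f2618561a9ba2d8ce4e9ae1e996278ee3a9aa5a8fe1784e5c896147ee0d77a01799f9839df7d1fe752098160a7dde782df678def769c27c5e875e037e1cb7fe06719ed845dd821fd749c77b1d083dcf7921073a027d607745fc811e9731ca761ee785c5831dc70de2755f2765c47e9cd795f0801d67cdc87adc976dea74de0705c06f5bf6f9bb6e9bc6e5b8685af695986597c5a98666db46a178589906d5a06215f6a5a468d7b675ad5c58e6dd5a6d9b15adae5b1726ad6d571665755b6c15959d586716f5c16e6b18f6318d5d9826017f60574699755959f62987625606c95e645b35e9775e5a75916158d9a6499361169689946659565d835f57e5cd686a98b67985511485414c5514e5354f5554b5295354951525475595751546505424c1315013e4d9354d13d4f1324e13a4e5334ed374fd43408e93f0dd47d144250a410f03c8ee3cce5479033d0f53b52449923381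0e4410d350f64a4d549cfe400fd3a122448e144d0642107415113e8fb3e0db46517460eb4bd204b8d74b12a4852b468dc4551b3651c358d14b4d03e516368ea430e438cde4a0ff39cd23dd2543cdf34cec4051d42cf13bce2360e633cce32ccd330c9320ca31cc629cb4274ac2f89c2fc942c48725ca22e88d30cae254b2294c42ac7b308a6264af2f4bb2788322cb620092214b91dca32e0782dc9b300b52287f2a876268c1204882f08f210b027c96314ad260a42447c280901f4821f8b3224932a079238a1218a91e88c1cc620ac741c0480b41d1344c180221a41c0e454168191b4720984b17c401a0310ec1709c2816034084511143d1984e0bc4618c291ac6a13c71080500c0441045e0944215432060670cc5c0f01608c590dc2416c1a0e8531246e06c381d4611b0570d82a10c560d44a0fc1e190470b85d1bc3e07c521942c0540c02c020480d0500700c0f0240a04c0600405020040401103800, 0xa1e6e70656a0265982478ee619aa5899a4296a5393a869f64c929438a6528e22096e678d62e9b6558664f6fe63951be9b268921c095dbc91a319c6628ae4988e329164b9be519ce39a167f8b67b9ea8397e368ce418be849de8289e759ae3a8861e9123489a6990e508622c97a598f63e8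6e64876406f65d6e64d6edbaa067c9d21f9da178a2259c23c9fa7886a149721584e3f675fb81a1180d9b82e016ddad6d5a4821f46a60e7c572681b65e5b3831e4841e98120081dfa62d97789e083df3679955f5a27f9ae815ef5d5f76d1a86c58a825f86698f609b25bdb073dcc65202611687a9aa7d5f2711eb725ee60d7e665857f1735a5f08de798aa228c2168921c6e2126bdde75e0d585ab69dcd695a1661966197c78e0a5757b77de671dd27fde85fd66751ac7e560605e76217a7197159d5b58dfd67d77775a3561875e16e70965589f669993631765b58e5ad9272d5f591ed569915b18d761d370de1795ce771d9759db755d15a9897695e571ec56574671905c180741c8715ca5401554d5653552531495295153d475515551957515485394b4f1394fd424c1414c933501384d93d4f93b4d53a4c5349c9372f4c22fcb741d173dceb44d2e26d2b4a4ad3f91d2d8b22b0b12b8ab2e4a2298c42d0af3e91b3d92d269234a0bc3d51c3e51a444fb3d0e124525488c54650f4012f390aa440e8229244b120458c1434ff2810649c8e36cb34850827c882d4c0284a84312a1f4a442d013c4ef398e22e8e0371261e8b02a4d81d4cf1ac631c4571945d0385025d1e4508b408ee42504264be270c3254923749d47d03214f32ecb835d18355053e0ed23c7e3f4d637cd32411226082364893950a3c8e92507829ca53c0fc2348021c832787728c7b3510e344e7454961e4de24c7f38cd2368d02187c3b0841d881230ea120741c82b1cc6d03c0912c171885f1c0111a01302c06334cc0e8ce0a8ca11c6a08c6c1244a0b82916c6f0dc440786114c431a4661341c048600141000c5811854144280100d0305a02002138140d8180f042154640f85c094161584132c3031c3f07c1b32433090c80e06e0c81a164520802c19c4f0d45e5103d0ec0a004390d02d114210bc1d0984c10027088070c4c606400]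
  defs := [[(0, true)], [(1, true), (1, true), (0, true), (1, true), (0, false), (1, false), (1, false)]]
  eqs := [(3, 6, [0, 0, 0, 0, 0, 0, 0, 0, 0, 1, 0, 0, 0, 0, 0, 0, 0, 1, 0, 0, 0, 0, 0, 0, 0, 0, (-1)]), (4, 18, [0, (-2), 0, 0, 0, 2]), (4, 2, [0, 1, 0, 0, (-3), 0, 0, 0, 0, 3, 0, 0, 0, 0, 0, 0, 0, 0, 0, 0, 0, 0, 0, 0, 0, 0, 0, (-1), 0, (-3)]), (4, 14, [1, (-2), (-1), 3, (-3), 3, 0, (-1), 0, 0, 0, 0, (-1), 0, 0, 0, 1]), (2, 5, [0, (-6), 0, 2, (-1), 6, (-1), (-1), 0, 2, 0, 1, (-1), 0, 0, 0, 1, 0, 0, 0, 0, 0, 0, 0, 0, (-2), 4, 3, 2, (-1)]), (4, 16, [2, 2, (-1), 4, 0, (-3), (-2), (-4), 0, (-7), 6, 1, (-2), 0, 0, 0, (-4), 2]), (5, 18, [2, 9, 0, 0, (-5), (-5), (-5), (-2), 0, (-1), 4, 0, 2, 0, 0, 0, 1, (-3), 0, 0, 0, 0, 0, 0, 0, (-2), 2, 1, 0, (-2)]), (5, 2, [3, (-4), 1, (-4), (-10), 13, 1, 1, 0, 0, (-3), 0, 1, 0, 0, 0, 0, 1, 0, 0, 0, 0, 0, 0, 0, 0, (-2), 1, 0, 3, (-3)]), (4, 20, [2, (-5), 3, 3, (-5), 5, 3, 4, 0, 2, 4, (-2),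 (-2), 0, 0, 0, 1, (-3), 0, 0, 0, 0, 0, 0, 0, 0, 0, 2, 3, 0, (-3)])]
  pts := [21]

end CfsgLib.Sporadic.MultTwoUnit
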