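import Mathlib
import Cfsg.Agent.Lib.Sporadic.ChainCertificate
import Cfsg.Agent.Lib.Schur.TrieFast

/-!
# Coset table 4 of a chain
-/

set_option autoImplicit false
set_option maxRecDepth 100000
set_option maxHeartbeats 0
set_option Elab.async false

noncomputable section

namespace CfsgLib.Sporadic.MultTwoUnit

open CfsgLib.Schur.Cert

/-- data -/
def next4 : Trie (ℕ) := .node (.node (.node (.node (.node (.node (.node (.node (.leaf 1) (.leaf 27)) (.leaf 31)) (.node (.leaf 18) (.leaf 47))) (.node (.node (.leaf 16) (.leaf 28)) (.node (.leaf 2) (.leaf 47)))) (.node (.node (.node (.node (.leaf 9) (.leaf 14)) (.leaf 38)) (.node (.leaf 29) (.leaf 46))) (.node (.node (.leaf 13) (.leaf 4)) (.node (.leaf 31) (.leaf 41))))) (.node (.node (.node (.node (.node (.leaf 5) (.leaf 25)) (.leaf 40)) (.node (.leaf 14) (.leaf 42))) (.node (.node (.leaf 20) (.leaf 8)) (.node (.leaf 37) (.leaf 5)))) (.node (.node (.node (.node (.leaf 0) (.leaf 15)) (.leaf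 3)) (.node (.leaf 33) (.leaf 46))) (.node (.node (.leaf 24) (.leaf 45)) (.node (.leaf 3) (.leaf 18)))))) (.node (.node (.node (.node (.node (.node (.leaf 3) (.leaf 20)) (.leaf 37)) (.node (.leaf 25) (.leaf 44))) (.node (.node (.leaf 18) (.leaf 30)) (.node (.leaf 35) (.leaf 42)))) (.node (.node (.node (.node (.leaf 11) (.leaf 17)) (.leaf 36)) (.node (.leaf 31) (.leaf 43))) (.node (.node (.leaf 22) (.leaf 43)) (.node (.leaf 38) (.leaf 8))))) (.node (.node (.node (.node (.node (.leaf 7) (.leaf 23)) (.leaf 33)) (.node (.leaf 0) (.leaf 11))) (.node (.node (.leaf 15) (.leaf 41)) (.node (.leaf 33) (.leaf 41)))) (.node (.node (.node (.node (.leaf 14) (.leaf 17)) (.leaf 30)) (.node (.leaf 28) (.leaf 11))) (.node (.node (.leaf 20) (.leaf 46)) (.node (.leaf 1) (.leaf 24))))))) (.node (.node (.node (.node (.node (.node (.node (.leaf 2) (.leaf 26)) (.leaf 39)) (.node (.leaf 27) (.leaf 45))) (.node (.node (.leaf 17) (.leaf 34)) (.node (.leaf 1) (.leaf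 43)))) (.node (.node (.node (.node (.leaf 10) (.leaf 13)) (.leaf 40)) (.node (.leaf 30) (.leaf 44))) (.node (.node (.leaf 0) (.leaf 42)) (.node (.leaf 40) (.leaf 9))))) (.node (.node (.node (.node (.node (.leaf 6) (.leaf 27)) (.leaf 39)) (.node (.leaf 22) (.leaf 4))) (.node (.node (.leaf 16) (.leaf 7)) (.node (.leaf 38) (.leaf 9)))) (.node (.node (.node (.node (.leaf 13) (.leaf 21)) (.leaf 2)) (.node (.leaf 29) (.leaf 12))) (.node (.node (.leaf 25) (.leaf 12)) (.node (.leaf 35) (.leaf 26)))))) (.node (.node (.node (.node (.node (.node (.leaf 4) (.leaf 19)) (.leaf 36)) (.node (.leaf 24) (.leaf 6))) (.node (.node (.leaf 19) (.leaf 29)) (.node (.leaf 36) (.leaf 6)))) (.node (.node (.node (.node (.leaf 12) (.leaf 21)) (.leaf 35)) (.node (.leaf 32) (.leaf 47))) (.node (.node (.leaf 23) (.leaf 44)) (.node (.leaf 37) (.leaf 19))))) (.node (.node (.node (.node (.node (.leaf 8) (.leaf 22)) (.leaf 32)) (.node (.leaf 28) (.leaf 10))) (.node (.node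 (.leaf 21) (.leaf 5)) (.node (.leaf 39) (.leaf 7)))) (.node (.node (.node (.node (.leaf 15) (.leaf 16)) (.leaf 34)) (.node (.leaf 34) (.leaf 45))) (.node (.node (.leaf 26) (.leaf 10)) (.node (.leaf 32) (.leaf 23)))))))

/-- data -/
def prev4 : Trie (ℕ) := .node (.node (.node (.node (.node (.node (.node (.node (.leaf 4) (.leaf 29)) (.leaf 46)) (.node (.leaf 31) (.leaf 21))) (.node (.node (.leaf 1) (.leaf 41)) (.node (.leaf 7) (.leaf 17)))) (.node (.node (.node (.node (.leaf 25) (.leaf 32)) (.leaf 42)) (.node (.leaf 4) (.leaf 15))) (.node (.node (.leaf 28) (.leaf 13)) (.node (.leaf 10) (.leaf 19))))) (.node (.node (.node (.node (.node (.leaf 16) (.leaf 35)) (.leaf 8)) (.node (.leaf 31) (.leaf 23))) (.node (.node (.leaf 1) (.leaf 13)) (.node (.leaf 47) (.leaf 17)))) (.node (.node (.node (.node (.leaf 1) (.leaf 34)) (.leaf 11)) (.node (.leaf 4) (.leaf 17))) (.node (.node (.leaf 40) (.leaf 13)) (.node (.leaf 10) (.leaf 39)))))) (.node (.node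 (.node (.node (.node (.node (.leaf 12) (.leaf 35)) (.leaf 45)) (.node (.leaf 3) (.leaf 23))) (.node (.node (.leaf 33) (.leaf 44)) (.node (.leaf 47) (.leaf 24)))) (.node (.node (.node (.node (.leaf 25) (.leaf 36)) (.leaf 11)) (.node (.leaf 12) (.leaf 20))) (.node (.node (.leaf 40) (.leaf 26)) (.node (.leaf 6) (.leaf 22))))) (.node (.node (.node (.node (.node (.leaf 16) (.leaf 32)) (.leaf 42)) (.node (.leaf 3) (.leaf 27))) (.node (.node (.leaf 28) (.leaf 26)) (.node (.leaf 6) (.leaf 18)))) (.node (.node (.node (.node (.leaf 33) (.leaf 37)) (.leaf 43)) (.node (.leaf 7) (.leaf 24))) (.node (.node (.leaf 3) (.leaf 21)) (.node (.leaf 6) (.leaf 38))))))) (.node (.node (.node (.node (.node (.node (.node (.leaf 8) (.leaf 30)) (.leaf 7)) (.node (.leaf 34) (.leaf 14))) (.node (.node (.leaf 38) (.leaf 11)) (.node (.leaf 5) (.leaf 19)))) (.node (.node (.node (.node (.leaf 20) (.leaf 30)) (.leaf 9)) (.node (.leaf 45) (.leaf 25))) (.node (.node (.leaf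 2) (.leaf 27)) (.node (.leaf 41) (.leaf 24))))) (.node (.node (.node (.node (.node (.leaf 20) (.leaf 30)) (.leaf 9)) (.node (.leaf 36) (.leaf 14))) (.node (.node (.leaf 2) (.leaf 15)) (.node (.leaf 5) (.leaf 23)))) (.node (.node (.node (.node (.leaf 29) (.leaf 32)) (.leaf 9)) (.node (.leaf 5) (.leaf 22))) (.node (.node (.leaf 2) (.leaf 14)) (.node (.leaf 43) (.leaf 28)))))) (.node (.node (.node (.node (.node (.node (.leaf 0) (.leaf 37)) (.leaf 12)) (.node (.leaf 36) (.leaf 18))) (.node (.node (.leaf 38) (.leaf 42)) (.node (.leaf 46) (.leaf 19)))) (.node (.node (.node (.node (.leaf 0) (.leaf 31)) (.leaf 44)) (.node (.leaf 45) (.leaf 16))) (.node (.node (.leaf 39) (.leaf 27)) (.node (.leaf 43) (.leaf 40))))) (.node (.node (.node (.node (.node (.leaf 0) (.leaf 37)) (.leaf 44)) (.node (.leaf 8) (.leaf 26))) (.node (.node (.leaf 39) (.leaf 15)) (.node (.leaf 41) (.leaf 21)))) (.node (.node (.node (.node (.leaf 29) (.leaf 35)) (.leaf 10)) (.node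 (.leaf 46) (.leaf 22))) (.node (.node (.leaf 34) (.leaf 18)) (.node (.leaf 47) (.leaf 33)))))))

/-- data -/
def lab4 : Trie (Word) := .node (.node (.node (.node (.node (.node (.node (.node (.leaf ([])) (.leaf ([]))) (.leaf ([]))) (.node (.leaf ([])) (.leaf ([])))) (.node (.node (.leaf ([])) (.leaf ([]))) (.node (.leaf ([])) (.leaf ([]))))) (.node (.node (.node (.node (.leaf ([])) (.leaf ([]))) (.leaf ([]))) (.node (.leaf ([])) (.leaf ([])))) (.node (.node (.leaf ([])) (.leaf ([]))) (.node (.leaf ([])) (.leaf ([])))))) (.node (.node (.node (.node (.node (.leaf ([])) (.leaf ([]))) (.leaf ([]))) (.node (.leaf ([])) (.leaf ([])))) (.node (.node (.leaf ([])) (.leaf ([]))) (.node (.leaf ([])) (.leaf ([]))))) (.node (.node (.node (.node (.leaf ([])) (.leaf ([]))) (.leaf ([]))) (.node (.leaf ([])) (.leaf ([])))) (.node (.node (.leaf ([])) (.leaf ([]))) (.node (.leaf ([])) (.leaf ([]))))))) (.node (.node (.node (.node (.node (.node (.leaf ([]))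 (.leaf ([]))) (.leaf ([]))) (.node (.leaf ([])) (.leaf ([])))) (.node (.node (.leaf ([])) (.leaf ([]))) (.node (.leaf ([])) (.leaf ([]))))) (.node (.node (.node (.node (.leaf ([])) (.leaf ([]))) (.leaf ([]))) (.node (.leaf ([])) (.leaf ([])))) (.node (.node (.leaf ([])) (.leaf ([]))) (.node (.leaf ([])) (.leaf ([])))))) (.node (.node (.node (.node (.node (.leaf ([])) (.leaf ([]))) (.leaf ([]))) (.node (.leaf ([])) (.leaf ([])))) (.node (.node (.leaf ([])) (.leaf ([]))) (.node (.leaf ([])) (.leaf ([]))))) (.node (.node (.node (.node (.leaf ([])) (.leaf ([]))) (.leaf ([]))) (.node (.leaf ([])) (.leaf ([])))) (.node (.node (.leaf ([])) (.leaf ([]))) (.node (.leaf ([])) (.leaf ([])))))))) (.node (.node (.node (.node (.node (.node (.node (.leaf ([])) (.leaf ([]))) (.leaf ([]))) (.node (.leaf ([])) (.leaf ([])))) (.node (.node (.leaf ([])) (.leaf ([]))) (.node (.leaf ([])) (.leaf ([]))))) (.node (.node (.node (.node (.leaf ([])) (.leaf ([])))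 (.leaf ([]))) (.node (.leaf ([])) (.leaf ([])))) (.node (.node (.leaf ([])) (.leaf ([]))) (.node (.leaf ([])) (.leaf ([])))))) (.node (.node (.node (.node (.node (.leaf ([])) (.leaf ([]))) (.leaf ([]))) (.node (.leaf ([])) (.leaf ([])))) (.node (.node (.leaf ([])) (.leaf ([]))) (.node (.leaf ([])) (.leaf ([]))))) (.node (.node (.node (.node (.leaf ([])) (.leaf ([]))) (.leaf ([]))) (.node (.leaf ([])) (.leaf ([])))) (.node (.node (.leaf ([])) (.leaf ([]))) (.node (.leaf ([])) (.leaf ([]))))))) (.node (.node (.node (.node (.node (.node (.leaf ([])) (.leaf ([]))) (.leaf ([]))) (.node (.leaf ([])) (.leaf ([])))) (.node (.node (.leaf ([])) (.leaf ([]))) (.node (.leaf ([])) (.leaf ([]))))) (.node (.node (.node (.node (.leaf ([])) (.leaf ([]))) (.leaf ([]))) (.node (.leaf ([])) (.leaf ([])))) (.node (.node (.leaf ([])) (.leaf ([]))) (.node (.leaf ([])) (.leaf ([])))))) (.node (.node (.node (.node (.node (.leaf ([])) (.leaf ([]))) (.leaf ([])))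 (.node (.leaf ([])) (.leaf ([])))) (.node (.node (.leaf ([])) (.leaf ([]))) (.node (.leaf ([])) (.leaf ([]))))) (.node (.node (.node (.node (.leaf ([])) (.leaf ([]))) (.leaf ([]))) (.node (.leaf ([])) (.leaf ([])))) (.node (.node (.leaf ([])) (.leaf ([]))) (.node (.leaf ([])) (.leaf ([]))))))))

/-- data -/
def val4 : Trie (Vec) := .node (.node (.node (.node (.node (.node (.node (.node (.leaf ([])) (.leaf ([0, (-1), 1, (-1), 1, 1, 1]))) (.leaf ([0, 1, 0, 0, (-2), 1]))) (.node (.leaf ([(-1), 0, (-1), 2, 2, (-2)])) (.leaf ([])))) (.node (.node (.leaf ([])) (.leaf ([0, 0, 0, 1, (-2), 1]))) (.node (.leaf ([1, 1, 0, 0, (-1)])) (.leaf ([(-1), (-1), 0, 0, 1, 1, 1]))))) (.node (.node (.node (.node (.leaf ([])) (.leaf ([0, 1, 1, (-1)]))) (.leaf ([0, (-1), (-1), 1, 0, 1, 1]))) (.node (.leaf ([])) (.leaf ([(-1), 0, 1, (-1), 2, (-1)])))) (.node (.node (.leaf ([0, 1, 0, 0, (-1)])) (.leaf ([0, 1]))) (.node (.leaf ([(-1), 0, (-1), 2, 2, (-2)])) (.leaf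 ([1, 1, 0, 0, (-3), 1])))))) (.node (.node (.node (.node (.node (.leaf ([])) (.leaf ([1, (-1), (-1), 1, 0, 1, 1]))) (.leaf ([(-1), (-1), 1, (-1), 1, 1, 1]))) (.node (.leaf ([0, 1, 1, (-1), (-1), 0, (-1)])) (.leaf ([0, 0, 1, (-1)])))) (.node (.node (.leaf ([])) (.leaf ([1, (-1), 0, 0, 1]))) (.node (.leaf ([])) (.leaf ([0, 0, 1]))))) (.node (.node (.node (.node (.leaf ([1])) (.leaf ([1, 0, 0, 1, (-2), 1]))) (.leaf ([0, 1, 1, (-1)]))) (.node (.leaf ([])) (.leaf ([(-1), 1, 0, 0, 3, (-3), 1])))) (.node (.node (.leaf ([])) (.leaf ([]))) (.node (.leaf ([1, 1, 1, (-1), (-1), 0, (-1)])) (.leaf ([1, 1, 0, 0, (-2), 1]))))))) (.node (.node (.node (.node (.node (.node (.leaf ([])) (.leaf ([1, 2, (-1), 1, (-1), (-1)]))) (.leaf ([0, 1, 0, 0, 0, (-1)]))) (.node (.leaf ([0, 0, (-1), 1])) (.leaf ([0, (-1), (-1), 2])))) (.node (.node (.leaf ([])) (.leaf ([0, 2, 0, 0, (-1), (-1), (-1)]))) (.node (.leaf ([])) (.leaf ([0, 0, 1, (-1), 0, 0, (-1)]))))) (.node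 (.node (.node (.node (.leaf ([])) (.leaf ([2, (-1), 0, 0, (-3), 3, (-1)]))) (.leaf ([(-1), (-2), (-1), 2, 1, 1]))) (.node (.leaf ([])) (.leaf ([(-1), (-1), 0, 0, 1, 1])))) (.node (.node (.leaf ([])) (.leaf ([]))) (.node (.leaf ([0, 0, (-1), 1])) (.leaf ([1, 1, 0, 1, (-1), (-1), (-1)])))))) (.node (.node (.node (.node (.node (.leaf ([])) (.leaf ([(-2), (-2), (-1), 2, 7, (-3), 2]))) (.leaf ([0, 2, (-1), 1, (-1), (-1)]))) (.node (.leaf ([0, 0, 1])) (.leaf ([0, (-1), 0, 0, 3, (-1)])))) (.node (.node (.leaf ([(-1), (-1), 0, 0, 2])) (.leaf ([]))) (.node (.leaf ([0, (-1), (-1), 1, 1, 0, 1])) (.leaf ([1, 0, 0, 0, (-4), 3]))))) (.node (.node (.node (.node (.leaf ([])) (.leaf ([1, 2, 0, 0, (-1), (-1), (-1)]))) (.leaf ([1, (-1), 0, 0, (-3), 3, (-1)]))) (.node (.leaf ([(-1), (-1), 0, 0, 2])) (.leaf ([1, 1, (-1), 2, (-1), (-1)])))) (.node (.node (.leaf ([0, (-1), (-1), 1, 1, 0, 1])) (.leaf ([]))) (.node (.leaf ([0, 0, 1])) (.leaf ([1, 1, 0, 0, 0,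 (-1)])))))))) (.node (.node (.node (.node (.node (.node (.node (.leaf ([])) (.leaf ([0, 1, 0, 0, 3, (-3), 1]))) (.leaf ([(-1), 0, 1, (-1), 2, (-1)]))) (.node (.leaf ([])) (.leaf ([0, 0, (-1), 1])))) (.node (.node (.leaf ([])) (.leaf ([1, 1, 0, 0, (-3), 1]))) (.node (.leaf ([0, 1])) (.leaf ([(-1), (-2), (-1), 2, 1, 1]))))) (.node (.node (.node (.node (.leaf ([])) (.leaf ([0, 0, 1]))) (.leaf ([(-1), (-1), 0, 0, 1, 1, 1]))) (.node (.leaf ([])) (.leaf ([0, 1, 0, 0, 0, (-1)])))) (.node (.node (.leaf ([0, 1])) (.leaf ([]))) (.node (.leaf ([])) (.leaf ([1, 2, 0, 0, (-1), (-1), (-1)])))))) (.node (.node (.node (.node (.node (.leaf ([])) (.leaf ([0, (-1), 0, 0, 1, 1, 1]))) (.leaf ([(-1), 1, 0, 0, 3, (-3), 1]))) (.node (.leaf ([0, 0, 1, (-1)])) (.leaf ([0, 0, 1])))) (.node (.node (.leaf ([0, (-1), 0, 0, 1])) (.leaf ([0, (-1), 0, 0, 2]))) (.node (.leaf ([])) (.leaf ([2, (-1), 0, 0, (-3), 3, (-1)]))))) (.node (.node (.node (.node (.leaf ([])) (.leaf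 ([2, 1, 0, 0, (-3), 1]))) (.leaf ([0, 0, 1]))) (.node (.leaf ([0, (-1), 0, 0, 1])) (.leaf ([1, 2, (-1), 1, (-1), (-1)])))) (.node (.node (.leaf ([])) (.leaf ([1, (-1), (-1), 1, 1, 0, 1]))) (.node (.leaf ([0, 0, 1, (-1)])) (.leaf ([0, 0, 1, (-1), 2, (-1)]))))))) (.node (.node (.node (.node (.node (.node (.leaf ([])) (.leaf ([1, 1, (-1), 2, (-1), (-1)]))) (.leaf ([(-1), (-1), 0, 0, 1, 1]))) (.node (.leaf ([0, (-1), (-1), 2])) (.leaf ([1, 1, 1, (-1), (-1), 0, (-1)])))) (.node (.node (.leaf ([])) (.leaf ([0, 1, 0, 1, (-1), (-1), (-1)]))) (.node (.leaf ([])) (.leaf ([0, 1, 1, (-1)]))))) (.node (.node (.node (.node (.leaf ([])) (.leaf ([2, 0, 0, 0, (-4), 3]))) (.leaf ([0, 0, 1, (-1), 0, 0, (-1)]))) (.node (.leaf ([])) (.leaf ([(-1), (-1), 1, (-1), 1, 1, 1])))) (.node (.node (.leaf ([])) (.leaf ([]))) (.node (.leaf ([0, (-1), (-1), 2])) (.leaf ([0, (-1), 0, 0, 3, (-1)])))))) (.node (.node (.node (.node (.node (.leaf ([])) (.leaf ([1, 0, 1, (-1),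 0, 0, (-1)]))) (.leaf ([0, 1, (-1), 2, (-1), (-1)]))) (.node (.leaf ([])) (.leaf ([1, 1, 0, 0, (-2), 1])))) (.node (.node (.leaf ([])) (.leaf ([1, 1, 0, 0, (-1)]))) (.node (.leaf ([])) (.leaf ([1, 0, 0, 1, (-2), 1]))))) (.node (.node (.node (.node (.leaf ([])) (.leaf ([1, 1, 0, 1, (-1), (-1), (-1)]))) (.leaf ([1, 0, 0, 0, (-4), 3]))) (.node (.leaf ([])) (.leaf ([0, (-1), (-1), 1, 0, 1, 1])))) (.node (.node (.leaf ([])) (.leaf ([0, 0, (-1), 2, 2, (-2)]))) (.node (.leaf ([(-1), (-1), 0, 0, 3, (-1)])) (.leaf ([0, (-1), 0, 0, 1, 1]))))))))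

/-- data -/
def rank4 : Trie (ℕ) := .node (.node (.node (.node (.node (.node (.node (.node (.leaf 0) (.leaf 55)) (.leaf 41)) (.node (.leaf 89) (.leaf 0))) (.node (.node (.leaf 0) (.leaf 35)) (.node (.leaf 24) (.leaf 88)))) (.node (.node (.node (.node (.leaf 0) (.leaf 18)) (.leaf 71)) (.node (.leaf 0) (.leaf 79))) (.node (.node (.leaf 23) (.leaf 4)) (.node (.leaf 93) (.leaf 68))))) (.node (.node (.node (.node (.node (.leaf 0) (.leaf 72)) (.leaf 58)) (.node (.leaf 54) (.leaf 15))) (.node (.node (.leaf 0) (.leaf 29)) (.node (.leaf 0) (.leaf 9)))) (.node (.node (.node (.node (.leaf 1) (.leaf 42)) (.leaf 13)) (.node (.leaf 0) (.leaf 67))) (.node (.node (.leaf 0) (.leaf 0)) (.node (.leaf 57) (.leaf 37)))))) (.node (.node (.node (.node (.node (.node (.leaf 0) (.leaf 75)) (.leaf 32)) (.node (.leaf 14) (.leaf 22))) (.node (.node (.leaf 0) (.leaf 91)) (.node (.leaf 0) (.leaf 51)))) (.node (.node (.node (.node (.leaf 0) (.leaf 53)) (.leaf 95))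 (.node (.leaf 0) (.leaf 47))) (.node (.node (.leaf 0) (.leaf 0)) (.node (.leaf 17) (.leaf 78))))) (.node (.node (.node (.node (.node (.leaf 0) (.leaf 97)) (.leaf 76)) (.node (.leaf 5) (.leaf 46))) (.node (.node (.leaf 30) (.leaf 0)) (.node (.leaf 63) (.leaf 49)))) (.node (.node (.node (.node (.leaf 0) (.leaf 87)) (.leaf 56)) (.node (.leaf 31) (.leaf 86))) (.node (.node (.leaf 62) (.leaf 0)) (.node (.leaf 6) (.leaf 36))))))) (.node (.node (.node (.node (.node (.node (.node (.leaf 0) (.leaf 73)) (.leaf 77)) (.node (.leaf 0) (.leaf 19))) (.node (.node (.leaf 0) (.leaf 65)) (.node (.leaf 3) (.leaf 96)))) (.node (.node (.node (.node (.leaf 0) (.leaf 10)) (.leaf 84)) (.node (.leaf 0) (.leaf 33))) (.node (.node (.leaf 2) (.leaf 0)) (.node (.leaf 0) (.leaf 83))))) (.node (.node (.node (.node (.node (.leaf 0) (.leaf 92)) (.leaf 64)) (.node (.leaf 11) (.leaf 8))) (.node (.node (.leaf 25) (.leaf 28)) (.node (.leaf 0) (.leaf 59)))) (.node (.node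 (.node (.node (.leaf 0) (.leaf 69)) (.leaf 7)) (.node (.leaf 27) (.leaf 74))) (.node (.node (.leaf 0) (.leaf 66)) (.node (.leaf 12) (.leaf 81)))))) (.node (.node (.node (.node (.node (.node (.leaf 0) (.leaf 90)) (.leaf 44)) (.node (.leaf 20) (.leaf 60))) (.node (.node (.leaf 0) (.leaf 82)) (.node (.leaf 0) (.leaf 16)))) (.node (.node (.node (.node (.leaf 0) (.leaf 45)) (.leaf 50)) (.node (.leaf 0) (.leaf 61))) (.node (.node (.leaf 0) (.leaf 0)) (.node (.leaf 21) (.leaf 39))))) (.node (.node (.node (.node (.node (.leaf 0) (.leaf 52)) (.leaf 94)) (.node (.leaf 0) (.leaf 34))) (.node (.node (.leaf 0) (.leaf 26)) (.node (.leaf 0) (.leaf 38)))) (.node (.node (.node (.node (.leaf 0) (.leaf 80)) (.leaf 48)) (.node (.leaf 0) (.leaf 70))) (.node (.node (.leaf 0) (.leaf 85)) (.node (.leaf 43) (.leaf 40)))))))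

/-- data -/
def tree4 : Trie (ℕ × ℕ) := .node (.node (.node (.node (.node (.node (.leaf (0, 0)) (.leaf (14, 1))) (.leaf (5, 1))) (.node (.node (.leaf (2, 1)) (.leaf (19, 0))) (.leaf (9, 1)))) (.node (.node (.node (.leaf (1, 0)) (.leaf (17, 0))) (.leaf (6, 2))) (.node (.node (.leaf (3, 2)) (.leaf (30, 1))) (.leaf (13, 0))))) (.node (.node (.node (.node (.leaf (0, 1)) (.leaf (15, 2))) (.leaf (6, 0))) (.node (.node (.leaf (3, 0)) (.leaf (29, 2))) (.leaf (10, 1)))) (.node (.node (.node (.leaf (1, 2)) (.leaf (17, 2))) (.leaf (8, 2))) (.node (.node (.leaf (4, 2)) (.leaf (31, 1))) (.leaf (13, 2)))))) (.node (.node (.node (.node (.node (.leaf (0, 0)) (.leaf (14, 2))) (.leaf (5, 2))) (.node (.node (.leaf (2, 2)) (.leaf (28, 2))) (.leaf (9, 2)))) (.node (.node (.node (.leaf (1, 1)) (.leaf (17, 1))) (.leaf (7, 2))) (.node (.node (.leaf (4, 1)) (.leaf (30, 2))) (.leaf (13, 1))))) (.node (.node (.node (.node (.leaf (0, 2)) (.leaf (16, 2))) (.leaf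 (6, 1))) (.node (.node (.leaf (3, 1)) (.leaf (30, 0))) (.leaf (11, 0)))) (.node (.node (.node (.leaf (2, 0)) (.leaf (18, 1))) (.leaf (9, 0))) (.node (.node (.leaf (5, 0)) (.leaf (32, 0))) (.leaf (14, 0))))))

/-- data -/
def cert4 : Trie (ℕ × ℕ × ℕ) := .node (.node (.node (.node (.node (.node (.node (.leaf (0, 0, 2)) (.leaf (0, 11, 1))) (.node (.leaf (5, 1, 4)) (.leaf (5, 26, 2)))) (.node (.node (.leaf (3, 6, 1)) (.leaf (2, 26, 2))) (.leaf (5, 41, 6)))) (.node (.node (.node (.leaf (2, 5, 2)) (.leaf (0, 26, 2))) (.leaf (5, 13, 3))) (.node (.node (.leaf (4, 2, 1)) (.leaf (3, 18, 4))) (.leaf (6, 16, 3))))) (.node (.node (.node (.node (.leaf (2, 0, 2)) (.leaf (0, 21, 2))) (.leaf (5, 5, 3))) (.node (.node (.leaf (3, 38, 2)) (.leaf (3, 10, 4))) (.leaf (6, 7, 3)))) (.node (.node (.node (.leaf (3, 2, 3)) (.leaf (2, 7, 1))) (.leaf (5, 21, 6))) (.node (.node (.leaf (4, 13, 1)) (.leaf (3, 31, 4))) (.leaf (6, 30, 2)))))) (.node (.node (.node (.node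 (.node (.leaf (1, 1, 2)) (.leaf (0, 17, 1))) (.leaf (5, 3, 2))) (.node (.node (.leaf (3, 14, 1)) (.leaf (3, 8, 3))) (.leaf (6, 1, 3)))) (.node (.node (.node (.leaf (3, 0, 3)) (.leaf (1, 20, 2))) (.leaf (5, 15, 4))) (.node (.node (.leaf (4, 5, 1)) (.leaf (3, 29, 3))) (.leaf (6, 28, 3))))) (.node (.node (.node (.node (.leaf (2, 2, 2)) (.leaf (0, 24, 0))) (.leaf (5, 7, 4))) (.node (.node (.leaf (4, 0, 3)) (.leaf (3, 16, 3))) (.leaf (6, 9, 2)))) (.node (.node (.node (.leaf (3, 4, 3)) (.leaf (2, 15, 1))) (.leaf (5, 29, 3))) (.node (.node (.leaf (4, 28, 4)) (.leaf (3, 36, 4))) (.leaf (0, 6, 1))))))) (.node (.node (.node (.node (.node (.node (.leaf (1, 0, 2)) (.leaf (0, 12, 2))) (.leaf (5, 2, 3))) (.node (.node (.leaf (3, 13, 3)) (.leaf (2, 27, 0))) (.leaf (6, 0, 3)))) (.node (.node (.node (.leaf (2, 13, 2)) (.leaf (1, 12, 2))) (.leaf (5, 14, 2))) (.node (.node (.leaf (4, 4, 3)) (.leaf (3, 19, 4))) (.leaf (6, 17, 2))))) (.node (.node (.node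 (.node (.leaf (2, 1, 2)) (.leaf (0, 22, 1))) (.leaf (5, 6, 2))) (.node (.node (.leaf (3, 45, 2)) (.leaf (3, 11, 4))) (.leaf (6, 8, 3)))) (.node (.node (.node (.leaf (3, 3, 1)) (.leaf (2, 8, 2))) (.leaf (5, 28, 4))) (.node (.node (.leaf (4, 15, 4)) (.leaf (3, 32, 4))) (.leaf (0, 3, 1)))))) (.node (.node (.node (.node (.node (.leaf (1, 4, 2)) (.leaf (0, 19, 1))) (.leaf (5, 4, 4))) (.node (.node (.leaf (3, 25, 2)) (.leaf (3, 9, 1))) (.leaf (6, 4, 3)))) (.node (.node (.node (.leaf (3, 1, 3)) (.leaf (1, 23, 0))) (.leaf (5, 16, 3))) (.node (.node (.leaf (4, 8, 2)) (.leaf (3, 30, 1))) (.leaf (6, 29, 3))))) (.node (.node (.node (.node (.leaf (2, 4, 2)) (.leaf (0, 25, 2))) (.leaf (5, 8, 3))) (.node (.node (.leaf (4, 1, 3)) (.leaf (3, 17, 1))) (.leaf (6, 15, 3)))) (.node (.node (.node (.leaf (3, 5, 3)) (.leaf (2, 16, 2))) (.leaf (5, 34, 6))) (.node (.node (.leaf (5, 0, 4)) (.leaf (3, 43, 4))) (.leaf (0, 9, 1)))))))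

/-- data -/
def pot4 : Trie (Vec) := .node (.node (.node (.node (.node (.node (.leaf ([])) (.leaf ([0, (-6)]))) (.leaf ([0, (-4)]))) (.node (.node (.leaf ([])) (.leaf ([0, (-6)]))) (.leaf ([0, 2])))) (.node (.node (.node (.leaf ([0, (-8)])) (.leaf ([0, (-6)]))) (.leaf ([]))) (.node (.node (.leaf ([0, 4])) (.leaf ([0, (-6)]))) (.leaf ([0, (-12)]))))) (.node (.node (.node (.node (.leaf ([])) (.leaf ([0, (-6)]))) (.leaf ([0, (-6)]))) (.node (.node (.leaf ([0, (-2)])) (.leaf ([0, (-6)]))) (.leaf ([0, (-2)])))) (.node (.node (.node (.leaf ([0, (-2)])) (.leaf ([]))) (.leaf ([0, 2]))) (.node (.node (.leaf ([0, (-6)])) (.leaf ([0, (-10)]))) (.leaf ([0, (-6)])))))) (.node (.node (.node (.node (.node (.leaf ([0, (-4)])) (.leaf ([0, (-4)]))) (.leaf ([0, (-2)]))) (.node (.node (.leaf ([0, 2])) (.leaf ([0, (-10)]))) (.leaf ([0, 4])))) (.node (.node (.node (.leaf ([0, (-4)])) (.leaf ([0, (-2)]))) (.leaf ([0, (-2)]))) (.node (.node (.leaf ([0, (-8)]))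 (.leaf ([0, (-4)]))) (.leaf ([0, (-8)]))))) (.node (.node (.node (.node (.leaf ([0, 2])) (.leaf ([0, (-2)]))) (.leaf ([0, (-2)]))) (.node (.node (.leaf ([0, 2])) (.leaf ([0, (-10)]))) (.leaf ([0, (-2)])))) (.node (.node (.node (.leaf ([0, (-4)])) (.leaf ([0, (-6)]))) (.leaf ([0, (-2)]))) (.node (.node (.leaf ([0, (-8)])) (.leaf ([0, (-10)]))) (.leaf ([0, (-10)]))))))

/-- the table -/
def table4 : Table where
  size := 48
  ngen := 3
  next g x := next4.getK (3 * g + x)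
  prev g x := prev4.getK (3 * g + x)
  lab g x := lab4.getK (3 * g + x)
  val g x := val4.getK (3 * g + x)
  rank g x := rank4.getK (3 * g + x)
  tree g := tree4.getK g
  cert j := cert4.getK j
  nded := 97
  rels := [⟨[(0, true), (0, true), (0, true)], [], [1]⟩,
    ⟨[(1, true), (1, true), (1, true)], [], [0, 1]⟩,
    ⟨[(2, true), (2, true), (2, true)], [], [0, 0, 1]⟩,
    ⟨[(1, true), (1, true), (2, true), (1, false), (2, true)], [], [0, 0, 0, 1]⟩,
    ⟨[(0, true), (0, true), (1, true), (0, false), (1, true)], [], [0, 0, 0, 0, 1]⟩,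
    ⟨[(0, true), (1, true), (2, true), (1, true), (0, false), (2, false), (1, true)], [], [0, 0, 0, 0, 0, 1]⟩,
    ⟨[(0, true), (1, false), (2, true), (0, false), (1, true), (2, false)], [], [0, 0, 0, 0, 0, 0, 1]⟩]
  pot g := pot4.getK g
  innerSize := 1
  innerGen := 0

/-- the table with its checks -/
def level4 : CfsgLib.Sporadic.ChainLevel where
  table := table4
  gexp := [[0, (-4)], [0, 0], [0, 2]]
  perm := [0xa1e86a0a7c9ea81a1679a1283a027f9ee7e9f6769d6749ce789de7298e7096a468f64e9066d95e6192e409c6599964d90e529ae589323f9be5b94e4f91e629466e9924590a6c97a5095a4492a679223b9a6549825d9a25597e3e8f2669aa5c9263a8c2298da2d876358be198e22888a1b8de2c88e218c6398722b89e1589a3387e328aa148d225862128822e8921e85e1686a13825ff841ef7ea0d80e07815fb7d608845f97c6047d1ed83e0e7cdee81a0c80a017ddea829f87c9fd82e007f9ec7c1fc7d9eb78de973de7785d77a1df721c7779e2725cd739dd76dd5751c3715e4771d0759cc799d974dd2709ca769e5719e0761cb745c4705be6fdbd701b96f1ba6edb86ddb46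d9b56c9b16cdb0681a16a5766799f695ae5b57e6b59b6496e6a19d6717a6bdaa6619668da4605825fd8065d99655945a9735a16969d8f6398d631795e1776b19a64d90645715c16f5f5ab5c96b5b1835f1a2625866997b5d57462d846158a61d8856963575655815e57d6656d5c591625855959d5855d5452d53559495214754951541555314a53d4e53544519455094150d3a4e5384f53b4c9374d9355013f4f9314d13c4cd304bd204b926495234ad2c485284a5274892a4912d3fd003f50240cfc44d12430e1404fe3950b4111b471153710a46117458f63dcf43b4db4410f438fb3e8f93e0e04791f4511d3ccf23b8f041d084150638ce43c4ef374d8434eb3a8df464f53b0da4251a364e23a0e9444de398e735cd4358d5348d134cd033ccc334cb338c7328c8324c630cb62f0af29cc1288ad2f4c52d4b42b8a12ecb12dcab28cc2310b32c8ac2a8b92e8be294a9300bf2a09f2c0a6280b8278a42709122c9726c8921c7c2289523c7d27490218851ec81264941e4782689320c96238761fc9223082200841e88d260772207e1d06d1c4701a463164671d46f188531cc5d15468150611c8601706b138561986416c501b06517c4f1b8581486a16851178571343e0ac1d0844b124280c81f0a8270cc1e1303f0803d10c310dc2906c451082306436094400e0340b0181203b0bc1c0d4440e8220b81611c3c09830068460e44a1042d05c240541003c1404c120440a0240c0200701003038020180d02c0500400,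 0xa1e869d677a16849ea79a0673a027e9e27f9f674a0a76a0e7b9f2729be5f9ba71976609ae55946539525291a4892a45926409063b90a3a98e67986649aa5095e5a93e4d9323e9a26299a699965b966589124b93a3d97a6d9c26c9725691e3c90e3f8c2328ce2f8c6268b62b88e2188a188de2e8e2288761f87219852138d6368e6298aa278821e86e128d22c8922586a1685e1581a0d8420e83dff806027d1f87d5f182e0a82204815fd7e9ef7c1ee8260c81e037f9fc7e5fb7c9ed846007ddf67cdea7b1eb799e2791de765df751d7745cb79de9781db759c2735c57a1dc755cf70dc6739c478de1795da775d8749d3741c9729c7721cc705c06f5bf6f9bb6e9bc6e5b86d9b56ddb46cdb06c9b1681986758d655876bd9b645696b5ae6adac6a1a9699a76957d685865fda46018268d816158b679845f1836897e5e9755d1765ed795dd785b9725b16b5b5705c56f6a9926699064d735a968621966718c63d8e6659465d8a67d8956d5f59d615916258d59569585815e595665755c55d475415553d4d539545314a52d53549515594852544519455094150d3e4fd314d9354d13c4f53b4cd394e9384c937501304ad2a485224a5274bd2d4b92449523499204a12c3f8e83f4f03ccee3e4f83eceb3c4ff47d1d450f43dced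3d4dd4611645d1a4711b4551943d104390c445134490d424e54110b40ce93f102418e44150738d08404e6428e2380e1378df36cdc364da478f63b0d8400f23e8ea3bce7358d535cd434cd0348d133cce32ccd330c9320ca31cc62ecbf300bd2f8b72d0b52bcaa2b4a2298a430cb9304c42e0b22ac9f308ba314b12b0a7278a02f0b62c0b32a0ae2a4a3294a12709b274942449021c76268952308e22c89210801ec7e264972608d2288220c7f1f47c2589223c9321486220781e4771e8811c8701c46d1886316c531d46c1a4671805d1784e144521d0731b86b1a06a17c4f164501bc65198641705a1845616054154571204412c400c42b06c1706829128390f0430bc2e0b022078210941f1243b0e8380b4300dc1d08c2608024134451304611c3e1083d0fc410d4330d0360c81c09c2a058190a0180540b030040440504c0a0200f02407050060380d00c020401200400, 0xa1e86a12749ee759e279a0a7ea02739ea839f677a067c9fe859da729166b9aa4f9226197e6297a4e9b2699925d9326f99e449c2669965c93649982469ba6d9a2479c66392a4b95e558ee5290a438f6569023e94e5994650906548ea5896a3f96e3c8c22e8861f8e21b8e6208763388a358de328c63688e2f8723486a1e862288b62c8aa178ae1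389a1286629892158521689e2583a0a7d6067e9f97de077e1f4842118220d82e0c7edf683e097cdf27be04809fe80dea7fe057b9ec7c5eb805fd7c1fc7b60075de2791e8755e379de6759d2751e9781d3745d0795e1779d8765cf729dd721c477dc5735c7719dc72ddb709c970dda739cc705bf6f9c06f5bc6e5bb6e9b86d9b56ddb46cdb06c9b16a1af6a5a65cda7661ae5ad946919b64d816819d63587685856957c5c1ad5b96f5c5ac5f5a260d7e6199e62d8467d8f6319c6398a621896019a649916417f68d8265d6c5c96d6ad95659995dd6a5d9745d57b5a1696a9795e9785995e56164585635895a565675955f5815b5715d55d5553947545525415352556521545354f5294b53144519455094150d3b4f13d4e13a4cd3f4c53e4d1374d536501394c9304a92b4b1274a1224812e4b5254912648d2f4a52143d0d438dd4791f4311244d11475103b8f13c8dc4691546cf0414e4420f73d8f53b5073f8ff3f4f93acfb3e0e840cfc3a501425043950a36d16461193691742ce2408e6400fa3a8e7418f43b0e33cd1c364ef38114384de360df358d535cd434cd0348d133ccd330ce32cca31cc9320c62ecb92b4c42f8c52b0bc2acc1300ba308a830cbf2a8bd2e0ae2bca9298a22dcb62d0a7278b32d4b1284a0290b227ca3294b021c9a22c97228862709626c9920888274842248520c98254941f8782448c1ec7c1e87f1d87724c8f200902388d204921f479188601c4731c8631786e1d4611d05c1c05d16c5a17c6f1a46d14c6b160641445615450148651506a19c4e1b04f1a0661645712c2c1202d0bc4d0cc460dc360b834124470c44a110450d44c0c8300f03d090161001f06819104270f83a0ac220841710c200603b0a8230781b0e429094280983f0e01d07042054110080802c060400a0100d05007024050380f0480c04c0300400]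
  pinv := [0xa1e86a067f9fa85a0a7d9f27a9e6849ee83a02749ce789de769d6729967096e549aa5097e3d91e4392a3e98e539c6569a2459064f9123c96a6f9925e9a64d90a46966609564e9626c98a5d99e4b8ee4995e6e94a4c986519ae66972409b63f9223a8a2318b6378d21d88a208a6398ce188da2c89a1f8e23089623872178ae2f8aa19886168d6278ba138ca1b856148921e84a1a8160f7fdfe831fa7c5f584606829fb8260282df97e1f0841ef7c9ec8220d811f47ddeb81e017f5f380ded839fc801ee7a9f67a1e3799cf721d47a5de795c6789df769d3765c9739c5791d1761d7735cc70dd279ddb771d0711ca775e1781c7755c2759cb705bd6fdc06f9bb6e5ba6f1b86ddb56d1b66c5b36c9b0675a8695835e99c6b5a162d716a598665746b9af6a9ab6819f691826499b64d9a64590605a35fd8062989621875b56a5cd685a5725ad6c5d99665d94655a65ed755c19e61985611ac5bd6e639795f97d5f1a269d775e18f6318d565605915d5995c56d63585625955e57d675695855d53531565514f5394d5254851d4b5554a54951541455114650543509374d9354f5324f1404fd3e4e9394e1334c53b4d1304bd2d481284a522495264912c4ad214a92349d2e3e8fb3e10f440e03950b42909438f94651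836d03409013a5174490c384f23ccf03c51146d1c4551e47d144751a400ff3f8fd41d08391063dcf63b4f43b0f5414e33a0e7370dd360d944cee3bcde458fc398da3ad0d410e237cea35cd5350d6344d3348d033ccb334ce330c931cc8328c62f0b1314b2300a7298aa2f4c32dcab2b0a02d4c42ecba2c0af2d8a3308b92f8ae2d0ad2a0a5304a22a49e2ccbf2e0a12909f2449d2648722c79268842508a218802709024c831e87f26c952607725c8f2387c2147e2307d20476248962347b224881e0821b4751a4631cc721b0551d059180521c4661b85d1605c1c06b1906215c4f1a06116c511bc541385e19c651a8531405a1585f1343f1201a11c2b0841c0d8260ec35064300f84c0f0200a82506c2f0e43209c2e104450e81e0a4230602d12c430e0461081f0c4160d0241243d11040128280dc1d0cc2c05c22054120441003c1404c070100c00c0e0340b02805008090200600400, 0xa1e86a0e829d6779fe7d9ea7c9e6739d281a027ba1276a16789fa729ba419c66f90a409ae579324f96a4d92e5896e4e9666c9c2439b63f92a54926489563e9aa679a2669a65694e4594a5191a63986648f66598a478ee5d97e608ea509123c97a5c8862b8b62288e198de388d6398da2c8ce188ca1f8822a87a3485a178c62f8c2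1d8a21c8a62786e1589a2e84e1484a258921a7c60f8360e841fa816047ee037e611806027e20a82df0831f7801f67d1ff7d6087bdee81e097b5f3819fd7f9fc7c9eb7a9ec779d777de9735e773de8739dd791e672dd6771cc795ca789db755e3721c9785c7751d1765c2781c5719c3711d2761d074dda705c06f9bd6fdba6f1bb6e5b86d5b76d9b46cdb16c1b26a5a4695a268d7b681a16799f675986558d66daf5a5916b5716a1795b5ae5ad726ad6c5dd7a69d785bd6e6b1706496a5a1736a99a64d9063996651976658c6718f61d8b6198461588629895d9825f57e5f1835fd8160175699745955a56d63585625915d5995c5655859d5f5815e55d49551505314b5295554d515494f5354e51d48559455114650543509314fd404e53a4e1354d9344c93d4f13b4dd334f9304a5274a1204bd2e4ad214a923495264912c4b52244ce144907419084110b4250a415113f8fd3fd0240d013f1003e0eb3ecee3c0f33c4f93dcf43b4dd4511f474f545cdb4651843ce04351046cdc4551c3651a438df458da3d91e360ec3e8f23bcea3a0e9398e7430e4394e238cde354d7358d434cd1340d233cce330cb334c8328c931cc62b4b42dcaf2d4c3310c1308a7314ae2d8b3300a62f8bf290b22b0a52f4a22ecab2c4bc284a32a8b927cb8280ba278a82c0a926c9d2709522c89228812509a1f880264981fc9222093244872407b25c7c1f48f214861d88e2108c20c82234771e47a1e0961b463188751cc74164611c86c1805e1ac5f1a857160561c07114c69174671a0551bc5416c511385213c501b8641945a170660ac2912c430dc4d09c280a84c100250884a08c26090410d835108340c41e0841f0801d124320fc3e0cc3d1201a1101706c2e0e42c0bc3c0e82d0e03b0c01c11c4506016118190540903c020440303007018130500e02c0d02808040120140400400,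 0xa1e869d2859ea7f9de7d9d67e9e676a0e7ba02819e273a0a849f27294e5f98a5795a679c26f99a559865e9766594a6a9b2599ae699925c8ee3d9123e93e4893a409164c90e429ba6896e639425196a6d952589c66092a4b906478f2469263a9363f8ce358b62a8ba268c22c8ae398a238886208761f8622284e1b84a178a62f8de328da248c6278d2258662387a1485a158721a81a077fe118120280e107fa0582a0e7d1fa7ddf97bdea7d5f87b9ec8060d8320982e0083e087f5fc7c5ed7edf37adf27c1f6779e678de2765e7791e8761dd73dd7749ca721c4755d67a5e1795df771e076dda751c3735c2725d3719d1731cb739d0715c7705be701bf6f5bc6e9b96edb86d5b76d9b46cdb16c1b26b9a8661945dd6b6b5af6a9ac66da55f592675a162d8e68188691825d1a95ed755d9a668d816017f6298767d8963586611856798f6718c6457c689835f99064d9a5b9695a9685cd715bd706ad7965599659975e17a69d725b16d57967575645896158d5b57166561595696057d6555d4e5594c5415254d515295552d475214953d4d551455114650543509334e9384f93f5013c4c93d4d9344d5374ed314e5304892849d2d4b92f4852b4b1244992548d2a481294691b454e04350f3c0f13b8f2438dc45d184591447d1d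479193b4f43dd09410e542cf63eceb3e0e940903404fa3f8e8400fd42107418e4385114490c37913414e33fce73e4fc398ea3d50a388ec36cdd360da471103ccef37cd9354d7358d434cd1340d233ccc338cd32cca320c7324c6300c22dcb92f0bb2d8c12d0be314ba310b32b4ac29cab2a0a22989e2c4b230cbf2f4b52c0b82a8af27ca3280ae294a4284a9244972549c2508c2689622c8a1fc7821c7c1f87b1e88626c9923c922749823890234931e47d208891dc84214831d888200811b46b1c8711cc691906e188531805618c51154501605e1c0751b0741946f1a06a19c6613c5f1385c16c57184591745a148541203a1343e1044b100460f03d09c160bc330682d0d8370902c07c19114440ec4211c390fc38124431284c0ac230781c0b81b074350882a0a4260c82106017080310c0250a0340540b00c050500f01807030040440e02412028100200d0081300400]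
  defs := []
  eqs := [(4, 3, [0, 0, 0, 0, 0, 0, 2]), (1, 7, [(-2), (-4), 0, 0, 6]), (1, 10, [2, 0, 0, 0, (-6), 4]), (2, 11, [0, (-2), (-4), 6]), (5, 27, [4, 2, 0, 0, (-12), 6, (-2)])]
  pts := [2, 3]

end CfsgLib.Sporadic.MultTwoUnit
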